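import Cfsg.Agent.Helper28.G2.Mat

/-!
# The root elements of the Chevalley group of type `G₂` over the field with four elements (helper28; generated)

The matrices `x_r(t)` of the definition, for the twelve roots and the three nonzero `t`, as matrices of the
model; the comparison with the definition is a computation.
-/

set_option autoImplicit false

namespace Cfsg.Agent.Helper28.G2

open Cfsg.Agent.Helper28 Matrix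

/-- the matrices of the root elements: the entry `3 * r + i` is `x_r(t)` for `t = 1, ω, ω + 1` -/
def xTab : List (List (List GF4)) := [
  [[.o, .z, .z, .z, .z, .z, .z, .z, .z, .z, .z, .z, .z, .o], [.z, .o, .z, .z, .z, .z, .z, .z, .z, .z, .z, .z, .z, .z], [.z, .o, .o, .z, .z, .z, .z, .z, .z, .z, .z, .z, .z, .o], [.z, .z, .z, .o, .z, .z, .z, .z, .o, .z, .z, .z, .z, .z], [.z, .z, .z, .z, .o, .z, .z, .z, .z, .z, .o, .z, .z, .z], [.z, .z, .z, .z, .z, .o, .z, .z, .z, .z, .z, .o, .z, .z], [.z, .z, .z, .z, .z, .z, .o, .z, .z, .z, .z, .z, .z, .z], [.z, .z, .z, .z, .z, .z, .z, .o, .z, .z, .z, .z, .o, .z], [.z, .z, .z, .z, .z, .z, .z, .z, .o, .z, .z, .z, .z, .z], [.z, .z, .z, .z, .z, .z, .z, .z, .z, .o, .z, .z, .z, .z], [.z, .z, .z, .z, .z, .z, .z, .z, .z, .z, .o, .z, .z, .z], [.z, .z, .z, .z, .z, .z, .z, .z, .z, .z, .z, .o, .z,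 .z], [.z, .z, .z, .z, .z, .z, .z, .z, .z, .z, .z, .z, .o, .z], [.z, .z, .z, .z, .z, .z, .z, .z, .z, .z, .z, .z, .z, .o]],
  [[.o, .z, .z, .z, .z, .z, .z, .z, .z, .z, .z, .z, .z, .w], [.z, .o, .z, .z, .z, .z, .z, .z, .z, .z, .z, .z, .z, .z], [.z, .w, .o, .z, .z, .z, .z, .z, .z, .z, .z, .z, .z, .v], [.z, .z, .z, .o, .z, .z, .z, .z, .w, .z, .z, .z, .z, .z], [.z, .z, .z, .z, .o, .z, .z, .z, .z, .z, .w, .z, .z, .z], [.z, .z, .z, .z, .z, .o, .z, .z, .z, .z, .z, .w, .z, .z], [.z, .z, .z, .z, .z, .z, .o, .z, .z, .z, .z, .z, .z, .z], [.z, .z, .z, .z, .z, .z, .z, .o, .z, .z, .z, .z, .w, .z], [.z, .z, .z, .z, .z, .z, .z, .z, .o, .z, .z, .z, .z, .z], [.z, .z, .z, .z, .z, .z, .z, .z, .z, .o, .z, .z, .z, .z], [.z, .z, .z, .z, .z, .z, .z, .z, .z, .z, .o, .z, .z, .z], [.z, .z, .z, .z, .z, .z, .z, .z, .z, .z, .z, .o, .z, .z], [.z, .z,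 .z, .z, .z, .z, .z, .z, .z, .z, .z, .z, .o, .z], [.z, .z, .z, .z, .z, .z, .z, .z, .z, .z, .z, .z, .z, .o]],
  [[.o, .z, .z, .z, .z, .z, .z, .z, .z, .z, .z, .z, .z, .v], [.z, .o, .z, .z, .z, .z, .z, .z, .z, .z, .z, .z, .z, .z], [.z, .v, .o, .z, .z, .z, .z, .z, .z, .z, .z, .z, .z, .w], [.z, .z, .z, .o, .z, .z, .z, .z, .v, .z, .z, .z, .z, .z], [.z, .z, .z, .z, .o, .z, .z, .z, .z, .z, .v, .z, .z, .z], [.z, .z, .z, .z, .z, .o, .z, .z, .z, .z, .z, .v, .z, .z], [.z, .z, .z, .z, .z, .z, .o, .z, .z, .z, .z, .z, .z, .z], [.z, .z, .z, .z, .z, .z, .z, .o, .z, .z, .z, .z, .v, .z], [.z, .z, .z, .z, .z, .z, .z, .z, .o, .z, .z, .z, .z, .z], [.z, .z, .z, .z, .z, .z, .z, .z, .z, .o, .z, .z, .z, .z], [.z, .z, .z, .z, .z, .z, .z, .z, .z, .z, .o, .z, .z, .z], [.z, .z, .z, .z, .z, .z, .z, .z, .z, .z, .z, .o, .z, .z], [.z, .z, .z, .z, .z, .z,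 .z, .z, .z, .z, .z, .z, .o, .z], [.z, .z, .z, .z, .z, .z, .z, .z, .z, .z, .z, .z, .z, .o]],
  [[.o, .z, .z, .z, .z, .z, .z, .z, .z, .z, .z, .z, .o, .z], [.z, .o, .z, .z, .z, .z, .z, .z, .z, .z, .z, .z, .o, .z], [.z, .z, .o, .z, .z, .z, .z, .o, .z, .z, .z, .z, .z, .z], [.o, .o, .z, .o, .z, .z, .z, .z, .z, .z, .z, .z, .o, .z], [.z, .z, .z, .z, .o, .z, .z, .z, .z, .o, .z, .z, .z, .z], [.z, .z, .z, .z, .z, .o, .z, .z, .z, .z, .z, .z, .z, .z], [.z, .z, .z, .z, .z, .z, .o, .z, .z, .z, .z, .o, .z, .z], [.z, .z, .z, .z, .z, .z, .z, .o, .z, .z, .z, .z, .z, .z], [.z, .z, .z, .z, .z, .z, .z, .z, .o, .z, .z, .z, .z, .o], [.z, .z, .z, .z, .z, .z, .z, .z, .z, .o, .z, .z, .z, .z], [.z, .z, .z, .z, .z, .z, .z, .z, .z, .z, .o, .z, .z, .z], [.z, .z, .z, .z, .z, .z, .z, .z, .z, .z, .z, .o, .z, .z], [.z, .z, .z, .z, .z, .z, .z, .z, .z, .z,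 .z, .z, .o, .z], [.z, .z, .z, .z, .z, .z, .z, .z, .z, .z, .z, .z, .z, .o]],
  [[.o, .z, .z, .z, .z, .z, .z, .z, .z, .z, .z, .z, .w, .z], [.z, .o, .z, .z, .z, .z, .z, .z, .z, .z, .z, .z, .w, .z], [.z, .z, .o, .z, .z, .z, .z, .w, .z, .z, .z, .z, .z, .z], [.w, .w, .z, .o, .z, .z, .z, .z, .z, .z, .z, .z, .v, .z], [.z, .z, .z, .z, .o, .z, .z, .z, .z, .w, .z, .z, .z, .z], [.z, .z, .z, .z, .z, .o, .z, .z, .z, .z, .z, .z, .z, .z], [.z, .z, .z, .z, .z, .z, .o, .z, .z, .z, .z, .w, .z, .z], [.z, .z, .z, .z, .z, .z, .z, .o, .z, .z, .z, .z, .z, .z], [.z, .z, .z, .z, .z, .z, .z, .z, .o, .z, .z, .z, .z, .w], [.z, .z, .z, .z, .z, .z, .z, .z, .z, .o, .z, .z, .z, .z], [.z, .z, .z, .z, .z, .z, .z, .z, .z, .z, .o, .z, .z, .z], [.z, .z, .z, .z, .z, .z, .z, .z, .z, .z, .z, .o, .z, .z], [.z, .z, .z, .z, .z, .z, .z, .z, .z, .z, .z, .z, .o, .z],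 [.z, .z, .z, .z, .z, .z, .z, .z, .z, .z, .z, .z, .z, .o]],
  [[.o, .z, .z, .z, .z, .z, .z, .z, .z, .z, .z, .z, .v, .z], [.z, .o, .z, .z, .z, .z, .z, .z, .z, .z, .z, .z, .v, .z], [.z, .z, .o, .z, .z, .z, .z, .v, .z, .z, .z, .z, .z, .z], [.v, .v, .z, .o, .z, .z, .z, .z, .z, .z, .z, .z, .w, .z], [.z, .z, .z, .z, .o, .z, .z, .z, .z, .v, .z, .z, .z, .z], [.z, .z, .z, .z, .z, .o, .z, .z, .z, .z, .z, .z, .z, .z], [.z, .z, .z, .z, .z, .z, .o, .z, .z, .z, .z, .v, .z, .z], [.z, .z, .z, .z, .z, .z, .z, .o, .z, .z, .z, .z, .z, .z], [.z, .z, .z, .z, .z, .z, .z, .z, .o, .z, .z, .z, .z, .v], [.z, .z, .z, .z, .z, .z, .z, .z, .z, .o, .z, .z, .z, .z], [.z, .z, .z, .z, .z, .z, .z, .z, .z, .z, .o, .z, .z, .z], [.z, .z, .z, .z, .z, .z, .z, .z, .z, .z, .z, .o, .z, .z], [.z, .z, .z, .z, .z, .z, .z, .z, .z, .z, .z, .z, .o, .z], [.z, .z, .z, .z,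 .z, .z, .z, .z, .z, .z, .z, .z, .z, .o]],
  [[.o, .z, .z, .z, .z, .z, .z, .z, .z, .z, .z, .z, .z, .z], [.z, .o, .z, .z, .z, .z, .z, .z, .z, .z, .z, .o, .z, .z], [.z, .z, .o, .z, .z, .o, .z, .z, .z, .o, .z, .z, .o, .z], [.z, .z, .z, .o, .z, .z, .o, .z, .z, .z, .o, .z, .z, .o], [.o, .z, .z, .z, .o, .z, .z, .z, .z, .z, .z, .o, .z, .z], [.z, .z, .z, .z, .z, .o, .z, .z, .z, .z, .z, .z, .o, .z], [.z, .z, .z, .z, .z, .z, .o, .z, .z, .z, .z, .z, .z, .o], [.z, .z, .z, .z, .z, .z, .z, .o, .z, .z, .z, .z, .z, .z], [.z, .z, .z, .z, .z, .z, .z, .z, .o, .z, .z, .z, .z, .z], [.z, .z, .z, .z, .z, .z, .z, .z, .z, .o, .z, .z, .o, .z], [.z, .z, .z, .z, .z, .z, .z, .z, .z, .z, .o, .z, .z, .o], [.z, .z, .z, .z, .z, .z, .z, .z, .z, .z, .z, .o, .z, .z], [.z, .z, .z, .z, .z, .z, .z, .z, .z, .z, .z, .z, .o, .z], [.z, .z, .z, .z, .z, .z, .z, .z,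 .z, .z, .z, .z, .z, .o]],
  [[.o, .z, .z, .z, .z, .z, .z, .z, .z, .z, .z, .z, .z, .z], [.z, .o, .z, .z, .z, .z, .z, .z, .z, .z, .z, .w, .z, .z], [.z, .z, .o, .z, .z, .w, .z, .z, .z, .v, .z, .z, .o, .z], [.z, .z, .z, .o, .z, .z, .w, .z, .z, .z, .v, .z, .z, .o], [.w, .z, .z, .z, .o, .z, .z, .z, .z, .z, .z, .v, .z, .z], [.z, .z, .z, .z, .z, .o, .z, .z, .z, .z, .z, .z, .v, .z], [.z, .z, .z, .z, .z, .z, .o, .z, .z, .z, .z, .z, .z, .v], [.z, .z, .z, .z, .z, .z, .z, .o, .z, .z, .z, .z, .z, .z], [.z, .z, .z, .z, .z, .z, .z, .z, .o, .z, .z, .z, .z, .z], [.z, .z, .z, .z, .z, .z, .z, .z, .z, .o, .z, .z, .w, .z], [.z, .z, .z, .z, .z, .z, .z, .z, .z, .z, .o, .z, .z, .w], [.z, .z, .z, .z, .z, .z, .z, .z, .z, .z, .z, .o, .z, .z], [.z, .z, .z, .z, .z, .z, .z, .z, .z, .z, .z, .z, .o, .z], [.z, .z, .z, .z, .z, .z, .z, .z, .z, .z, .z, .z,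 .z, .o]],
  [[.o, .z, .z, .z, .z, .z, .z, .z, .z, .z, .z, .z, .z, .z], [.z, .o, .z, .z, .z, .z, .z, .z, .z, .z, .z, .v, .z, .z], [.z, .z, .o, .z, .z, .v, .z, .z, .z, .w, .z, .z, .o, .z], [.z, .z, .z, .o, .z, .z, .v, .z, .z, .z, .w, .z, .z, .o], [.v, .z, .z, .z, .o, .z, .z, .z, .z, .z, .z, .w, .z, .z], [.z, .z, .z, .z, .z, .o, .z, .z, .z, .z, .z, .z, .w, .z], [.z, .z, .z, .z, .z, .z, .o, .z, .z, .z, .z, .z, .z, .w], [.z, .z, .z, .z, .z, .z, .z, .o, .z, .z, .z, .z, .z, .z], [.z, .z, .z, .z, .z, .z, .z, .z, .o, .z, .z, .z, .z, .z], [.z, .z, .z, .z, .z, .z, .z, .z, .z, .o, .z, .z, .v, .z], [.z, .z, .z, .z, .z, .z, .z, .z, .z, .z, .o, .z, .z, .v], [.z, .z, .z, .z, .z, .z, .z, .z, .z, .z, .z, .o, .z, .z], [.z, .z, .z, .z, .z, .z, .z, .z, .z, .z, .z, .z, .o, .z], [.z, .z, .z, .z, .z, .z, .z, .z, .z, .z, .z, .z, .z, .o]],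
  [[.o, .z, .z, .z, .z, .z, .z, .z, .z, .z, .o, .z, .z, .z], [.z, .o, .z, .z, .z, .z, .z, .z, .z, .z, .o, .z, .z, .z], [.z, .z, .o, .z, .o, .z, .o, .z, .o, .z, .z, .z, .z, .z], [.z, .z, .z, .o, .z, .z, .z, .z, .z, .z, .z, .z, .z, .z], [.z, .z, .z, .z, .o, .z, .z, .z, .o, .z, .z, .z, .z, .z], [.o, .o, .z, .z, .z, .o, .z, .z, .z, .z, .o, .z, .z, .z], [.z, .z, .z, .z, .z, .z, .o, .z, .o, .z, .z, .z, .z, .z], [.z, .z, .z, .z, .z, .z, .z, .o, .z, .o, .z, .o, .z, .o], [.z, .z, .z, .z, .z, .z, .z, .z, .o, .z, .z, .z, .z, .z], [.z, .z, .z, .z, .z, .z, .z, .z, .z, .o, .z, .z, .z, .o], [.z, .z, .z, .z, .z, .z, .z, .z, .z, .z, .o, .z, .z, .z], [.z, .z, .z, .z, .z, .z, .z, .z, .z, .z, .z, .o, .z, .o], [.z, .z, .z, .z, .z, .z, .z, .z, .z, .z, .z, .z, .o, .z], [.z, .z, .z, .z, .z, .z, .z, .z, .z, .z, .z, .z, .z, .o]],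
  [[.o, .z, .z, .z, .z, .z, .z, .z, .z, .z, .w, .z, .z, .z], [.z, .o, .z, .z, .z, .z, .z, .z, .z, .z, .w, .z, .z, .z], [.z, .z, .o, .z, .w, .z, .v, .z, .o, .z, .z, .z, .z, .z], [.z, .z, .z, .o, .z, .z, .z, .z, .z, .z, .z, .z, .z, .z], [.z, .z, .z, .z, .o, .z, .z, .z, .v, .z, .z, .z, .z, .z], [.w, .w, .z, .z, .z, .o, .z, .z, .z, .z, .v, .z, .z, .z], [.z, .z, .z, .z, .z, .z, .o, .z, .w, .z, .z, .z, .z, .z], [.z, .z, .z, .z, .z, .z, .z, .o, .z, .w, .z, .v, .z, .o], [.z, .z, .z, .z, .z, .z, .z, .z, .o, .z, .z, .z, .z, .z], [.z, .z, .z, .z, .z, .z, .z, .z, .z, .o, .z, .z, .z, .v], [.z, .z, .z, .z, .z, .z, .z, .z, .z, .z, .o, .z, .z, .z], [.z, .z, .z, .z, .z, .z, .z, .z, .z, .z, .z, .o, .z, .w], [.z, .z, .z, .z, .z, .z, .z, .z, .z, .z, .z, .z, .o, .z], [.z, .z, .z, .z, .z, .z, .z, .z, .z, .z, .z, .z, .z, .o]],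
  [[.o, .z, .z, .z, .z, .z, .z, .z, .z, .z, .v, .z, .z, .z], [.z, .o, .z, .z, .z, .z, .z, .z, .z, .z, .v, .z, .z, .z], [.z, .z, .o, .z, .v, .z, .w, .z, .o, .z, .z, .z, .z, .z], [.z, .z, .z, .o, .z, .z, .z, .z, .z, .z, .z, .z, .z, .z], [.z, .z, .z, .z, .o, .z, .z, .z, .w, .z, .z, .z, .z, .z], [.v, .v, .z, .z, .z, .o, .z, .z, .z, .z, .w, .z, .z, .z], [.z, .z, .z, .z, .z, .z, .o, .z, .v, .z, .z, .z, .z, .z], [.z, .z, .z, .z, .z, .z, .z, .o, .z, .v, .z, .w, .z, .o], [.z, .z, .z, .z, .z, .z, .z, .z, .o, .z, .z, .z, .z, .z], [.z, .z, .z, .z, .z, .z, .z, .z, .z, .o, .z, .z, .z, .w], [.z, .z, .z, .z, .z, .z, .z, .z, .z, .z, .o, .z, .z, .z], [.z, .z, .z, .z, .z, .z, .z, .z, .z, .z, .z, .o, .z, .v], [.z, .z, .z, .z, .z, .z, .z, .z, .z, .z, .z, .z, .o, .z], [.z, .z, .z, .z, .z, .z, .z, .z, .z, .z, .z, .z, .z, .o]],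
  [[.o, .z, .z, .z, .z, .z, .z, .z, .z, .o, .z, .z, .z, .z], [.z, .o, .z, .z, .z, .z, .z, .z, .z, .z, .z, .z, .z, .z], [.z, .z, .o, .z, .z, .z, .z, .z, .z, .z, .z, .z, .z, .z], [.z, .z, .z, .o, .o, .o, .z, .o, .z, .z, .z, .z, .z, .z], [.z, .z, .z, .z, .o, .z, .z, .o, .z, .z, .z, .z, .z, .z], [.z, .z, .z, .z, .z, .o, .z, .o, .z, .z, .z, .z, .z, .z], [.z, .o, .z, .z, .z, .z, .o, .z, .z, .o, .z, .z, .z, .z], [.z, .z, .z, .z, .z, .z, .z, .o, .z, .z, .z, .z, .z, .z], [.z, .z, .z, .z, .z, .z, .z, .z, .o, .z, .o, .o, .o, .z], [.z, .z, .z, .z, .z, .z, .z, .z, .z, .o, .z, .z, .z, .z], [.z, .z, .z, .z, .z, .z, .z, .z, .z, .z, .o, .z, .o, .z], [.z, .z, .z, .z, .z, .z, .z, .z, .z, .z, .z, .o, .o, .z], [.z, .z, .z, .z, .z, .z, .z, .z, .z, .z, .z, .z, .o, .z], [.z, .z, .z, .z, .z, .z, .z, .z, .z, .z, .z, .z, .z, .o]],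
  [[.o, .z, .z, .z, .z, .z, .z, .z, .z, .w, .z, .z, .z, .z], [.z, .o, .z, .z, .z, .z, .z, .z, .z, .z, .z, .z, .z, .z], [.z, .z, .o, .z, .z, .z, .z, .z, .z, .z, .z, .z, .z, .z], [.z, .z, .z, .o, .w, .v, .z, .o, .z, .z, .z, .z, .z, .z], [.z, .z, .z, .z, .o, .z, .z, .v, .z, .z, .z, .z, .z, .z], [.z, .z, .z, .z, .z, .o, .z, .w, .z, .z, .z, .z, .z, .z], [.z, .w, .z, .z, .z, .z, .o, .z, .z, .v, .z, .z, .z, .z], [.z, .z, .z, .z, .z, .z, .z, .o, .z, .z, .z, .z, .z, .z], [.z, .z, .z, .z, .z, .z, .z, .z, .o, .z, .w, .v, .o, .z], [.z, .z, .z, .z, .z, .z, .z, .z, .z, .o, .z, .z, .z, .z], [.z, .z, .z, .z, .z, .z, .z, .z, .z, .z, .o, .z, .v, .z], [.z, .z, .z, .z, .z, .z, .z, .z, .z, .z, .z, .o, .w, .z], [.z, .z, .z, .z, .z, .z, .z, .z, .z, .z, .z, .z, .o, .z], [.z, .z, .z, .z, .z, .z, .z, .z, .z, .z, .z, .z, .z, .o]],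
  [[.o, .z, .z, .z, .z, .z, .z, .z, .z, .v, .z, .z, .z, .z], [.z, .o, .z, .z, .z, .z, .z, .z, .z, .z, .z, .z, .z, .z], [.z, .z, .o, .z, .z, .z, .z, .z, .z, .z, .z, .z, .z, .z], [.z, .z, .z, .o, .v, .w, .z, .o, .z, .z, .z, .z, .z, .z], [.z, .z, .z, .z, .o, .z, .z, .w, .z, .z, .z, .z, .z, .z], [.z, .z, .z, .z, .z, .o, .z, .v, .z, .z, .z, .z, .z, .z], [.z, .v, .z, .z, .z, .z, .o, .z, .z, .w, .z, .z, .z, .z], [.z, .z, .z, .z, .z, .z, .z, .o, .z, .z, .z, .z, .z, .z], [.z, .z, .z, .z, .z, .z, .z, .z, .o, .z, .v, .w, .o, .z], [.z, .z, .z, .z, .z, .z, .z, .z, .z, .o, .z, .z, .z, .z], [.z, .z, .z, .z, .z, .z, .z, .z, .z, .z, .o, .z, .w, .z], [.z, .z, .z, .z, .z, .z, .z, .z, .z, .z, .z, .o, .v, .z], [.z, .z, .z, .z, .z, .z, .z, .z, .z, .z, .z, .z, .o, .z], [.z, .z, .z, .z, .z, .z, .z, .z, .z, .z, .z, .z, .z, .o]],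
  [[.o, .z, .z, .z, .z, .z, .z, .z, .z, .z, .z, .z, .z, .z], [.z, .o, .z, .z, .z, .z, .z, .z, .o, .z, .z, .z, .z, .z], [.z, .z, .o, .o, .z, .z, .z, .z, .z, .z, .z, .z, .z, .z], [.z, .z, .z, .o, .z, .z, .z, .z, .z, .z, .z, .z, .z, .z], [.z, .z, .z, .z, .o, .z, .z, .z, .z, .z, .z, .z, .z, .z], [.z, .z, .z, .z, .z, .o, .o, .z, .z, .z, .z, .z, .z, .z], [.z, .z, .z, .z, .z, .z, .o, .z, .z, .z, .z, .z, .z, .z], [.o, .z, .z, .z, .z, .z, .z, .o, .o, .z, .z, .z, .z, .z], [.z, .z, .z, .z, .z, .z, .z, .z, .o, .z, .z, .z, .z, .z], [.z, .z, .z, .z, .z, .z, .z, .z, .z, .o, .o, .z, .z, .z], [.z, .z, .z, .z, .z, .z, .z, .z, .z, .z, .o, .z, .z, .z], [.z, .z, .z, .z, .z, .z, .z, .z, .z, .z, .z, .o, .z, .z], [.z, .z, .z, .z, .z, .z, .z, .z, .z, .z, .z, .z, .o, .o], [.z, .z, .z, .z, .z, .z, .z, .z, .z, .z, .z, .z, .z, .o]],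
  [[.o, .z, .z, .z, .z, .z, .z, .z, .z, .z, .z, .z, .z, .z], [.z, .o, .z, .z, .z, .z, .z, .z, .w, .z, .z, .z, .z, .z], [.z, .z, .o, .w, .z, .z, .z, .z, .z, .z, .z, .z, .z, .z], [.z, .z, .z, .o, .z, .z, .z, .z, .z, .z, .z, .z, .z, .z], [.z, .z, .z, .z, .o, .z, .z, .z, .z, .z, .z, .z, .z, .z], [.z, .z, .z, .z, .z, .o, .w, .z, .z, .z, .z, .z, .z, .z], [.z, .z, .z, .z, .z, .z, .o, .z, .z, .z, .z, .z, .z, .z], [.w, .z, .z, .z, .z, .z, .z, .o, .v, .z, .z, .z, .z, .z], [.z, .z, .z, .z, .z, .z, .z, .z, .o, .z, .z, .z, .z, .z], [.z, .z, .z, .z, .z, .z, .z, .z, .z, .o, .w, .z, .z, .z], [.z, .z, .z, .z, .z, .z, .z, .z, .z, .z, .o, .z, .z, .z], [.z, .z, .z, .z, .z, .z, .z, .z, .z, .z, .z, .o, .z, .z], [.z, .z, .z, .z, .z, .z, .z, .z, .z, .z, .z, .z, .o, .w], [.z, .z, .z, .z, .z, .z, .z, .z, .z, .z, .z, .z, .z, .o]],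
  [[.o, .z, .z, .z, .z, .z, .z, .z, .z, .z, .z, .z, .z, .z], [.z, .o, .z, .z, .z, .z, .z, .z, .v, .z, .z, .z, .z, .z], [.z, .z, .o, .v, .z, .z, .z, .z, .z, .z, .z, .z, .z, .z], [.z, .z, .z, .o, .z, .z, .z, .z, .z, .z, .z, .z, .z, .z], [.z, .z, .z, .z, .o, .z, .z, .z, .z, .z, .z, .z, .z, .z], [.z, .z, .z, .z, .z, .o, .v, .z, .z, .z, .z, .z, .z, .z], [.z, .z, .z, .z, .z, .z, .o, .z, .z, .z, .z, .z, .z, .z], [.v, .z, .z, .z, .z, .z, .z, .o, .w, .z, .z, .z, .z, .z], [.z, .z, .z, .z, .z, .z, .z, .z, .o, .z, .z, .z, .z, .z], [.z, .z, .z, .z, .z, .z, .z, .z, .z, .o, .v, .z, .z, .z], [.z, .z, .z, .z, .z, .z, .z, .z, .z, .z, .o, .z, .z, .z], [.z, .z, .z, .z, .z, .z, .z, .z, .z, .z, .z, .o, .z, .z], [.z, .z, .z, .z, .z, .z, .z, .z, .z, .z, .z, .z, .o, .v], [.z, .z, .z, .z, .z, .z, .z, .z, .z, .z, .z, .z, .z, .o]],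
  [[.o, .z, .z, .z, .z, .z, .z, .z, .z, .z, .z, .z, .z, .z], [.z, .o, .z, .z, .z, .z, .z, .o, .z, .z, .z, .z, .z, .z], [.z, .z, .o, .z, .z, .z, .z, .z, .z, .z, .z, .z, .z, .z], [.z, .z, .o, .o, .z, .z, .z, .z, .z, .z, .z, .z, .z, .z], [.z, .z, .z, .z, .o, .z, .z, .z, .z, .z, .z, .z, .z, .z], [.z, .z, .z, .z, .z, .o, .z, .z, .z, .z, .z, .z, .z, .z], [.z, .z, .z, .z, .z, .o, .o, .z, .z, .z, .z, .z, .z, .z], [.z, .z, .z, .z, .z, .z, .z, .o, .z, .z, .z, .z, .z, .z], [.o, .z, .z, .z, .z, .z, .z, .o, .o, .z, .z, .z, .z, .z], [.z, .z, .z, .z, .z, .z, .z, .z, .z, .o, .z, .z, .z, .z], [.z, .z, .z, .z, .z, .z, .z, .z, .z, .o, .o, .z, .z, .z], [.z, .z, .z, .z, .z, .z, .z, .z, .z, .z, .z, .o, .z, .z], [.z, .z, .z, .z, .z, .z, .z, .z, .z, .z, .z, .z, .o, .z], [.z, .z, .z, .z, .z, .z, .z, .z, .z, .z, .z, .z, .o, .o]],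
  [[.o, .z, .z, .z, .z, .z, .z, .z, .z, .z, .z, .z, .z, .z], [.z, .o, .z, .z, .z, .z, .z, .w, .z, .z, .z, .z, .z, .z], [.z, .z, .o, .z, .z, .z, .z, .z, .z, .z, .z, .z, .z, .z], [.z, .z, .w, .o, .z, .z, .z, .z, .z, .z, .z, .z, .z, .z], [.z, .z, .z, .z, .o, .z, .z, .z, .z, .z, .z, .z, .z, .z], [.z, .z, .z, .z, .z, .o, .z, .z, .z, .z, .z, .z, .z, .z], [.z, .z, .z, .z, .z, .w, .o, .z, .z, .z, .z, .z, .z, .z], [.z, .z, .z, .z, .z, .z, .z, .o, .z, .z, .z, .z, .z, .z], [.w, .z, .z, .z, .z, .z, .z, .v, .o, .z, .z, .z, .z, .z], [.z, .z, .z, .z, .z, .z, .z, .z, .z, .o, .z, .z, .z, .z], [.z, .z, .z, .z, .z, .z, .z, .z, .z, .w, .o, .z, .z, .z], [.z, .z, .z, .z, .z, .z, .z, .z, .z, .z, .z, .o, .z, .z], [.z, .z, .z, .z, .z, .z, .z, .z, .z, .z, .z, .z, .o, .z], [.z, .z, .z, .z, .z, .z, .z, .z, .z, .z, .z, .z, .w, .o]],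
  [[.o, .z, .z, .z, .z, .z, .z, .z, .z, .z, .z, .z, .z, .z], [.z, .o, .z, .z, .z, .z, .z, .v, .z, .z, .z, .z, .z, .z], [.z, .z, .o, .z, .z, .z, .z, .z, .z, .z, .z, .z, .z, .z], [.z, .z, .v, .o, .z, .z, .z, .z, .z, .z, .z, .z, .z, .z], [.z, .z, .z, .z, .o, .z, .z, .z, .z, .z, .z, .z, .z, .z], [.z, .z, .z, .z, .z, .o, .z, .z, .z, .z, .z, .z, .z, .z], [.z, .z, .z, .z, .z, .v, .o, .z, .z, .z, .z, .z, .z, .z], [.z, .z, .z, .z, .z, .z, .z, .o, .z, .z, .z, .z, .z, .z], [.v, .z, .z, .z, .z, .z, .z, .w, .o, .z, .z, .z, .z, .z], [.z, .z, .z, .z, .z, .z, .z, .z, .z, .o, .z, .z, .z, .z], [.z, .z, .z, .z, .z, .z, .z, .z, .z, .v, .o, .z, .z, .z], [.z, .z, .z, .z, .z, .z, .z, .z, .z, .z, .z, .o, .z, .z], [.z, .z, .z, .z, .z, .z, .z, .z, .z, .z, .z, .z, .o, .z], [.z, .z, .z, .z, .z, .z, .z, .z, .z, .z, .z, .z, .v, .o]],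
  [[.o, .z, .z, .z, .z, .z, .o, .z, .z, .z, .z, .z, .z, .z], [.z, .o, .z, .z, .z, .z, .z, .z, .z, .z, .z, .z, .z, .z], [.z, .z, .o, .z, .z, .z, .z, .z, .z, .z, .z, .z, .z, .z], [.z, .z, .z, .o, .z, .z, .z, .z, .z, .z, .z, .z, .z, .z], [.z, .z, .z, .o, .o, .z, .z, .z, .z, .z, .z, .z, .z, .z], [.z, .z, .z, .o, .z, .o, .z, .z, .z, .z, .z, .z, .z, .z], [.z, .z, .z, .z, .z, .z, .o, .z, .z, .z, .z, .z, .z, .z], [.z, .z, .z, .o, .o, .o, .z, .o, .z, .z, .z, .z, .z, .z], [.z, .z, .z, .z, .z, .z, .z, .z, .o, .z, .z, .z, .z, .z], [.z, .o, .z, .z, .z, .z, .o, .z, .z, .o, .z, .z, .z, .z], [.z, .z, .z, .z, .z, .z, .z, .z, .o, .z, .o, .z, .z, .z], [.z, .z, .z, .z, .z, .z, .z, .z, .o, .z, .z, .o, .z, .z], [.z, .z, .z, .z, .z, .z, .z, .z, .o, .z, .o, .o, .o, .z], [.z, .z, .z, .z, .z, .z, .z, .z, .z, .z, .z, .z, .z, .o]],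
  [[.o, .z, .z, .z, .z, .z, .w, .z, .z, .z, .z, .z, .z, .z], [.z, .o, .z, .z, .z, .z, .z, .z, .z, .z, .z, .z, .z, .z], [.z, .z, .o, .z, .z, .z, .z, .z, .z, .z, .z, .z, .z, .z], [.z, .z, .z, .o, .z, .z, .z, .z, .z, .z, .z, .z, .z, .z], [.z, .z, .z, .w, .o, .z, .z, .z, .z, .z, .z, .z, .z, .z], [.z, .z, .z, .v, .z, .o, .z, .z, .z, .z, .z, .z, .z, .z], [.z, .z, .z, .z, .z, .z, .o, .z, .z, .z, .z, .z, .z, .z], [.z, .z, .z, .o, .v, .w, .z, .o, .z, .z, .z, .z, .z, .z], [.z, .z, .z, .z, .z, .z, .z, .z, .o, .z, .z, .z, .z, .z], [.z, .w, .z, .z, .z, .z, .v, .z, .z, .o, .z, .z, .z, .z], [.z, .z, .z, .z, .z, .z, .z, .z, .w, .z, .o, .z, .z, .z], [.z, .z, .z, .z, .z, .z, .z, .z, .v, .z, .z, .o, .z, .z], [.z, .z, .z, .z, .z, .z, .z, .z, .o, .z, .v, .w, .o, .z], [.z, .z, .z, .z, .z, .z, .z, .z, .z, .z, .z, .z, .z, .o]],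
  [[.o, .z, .z, .z, .z, .z, .v, .z, .z, .z, .z, .z, .z, .z], [.z, .o, .z, .z, .z, .z, .z, .z, .z, .z, .z, .z, .z, .z], [.z, .z, .o, .z, .z, .z, .z, .z, .z, .z, .z, .z, .z, .z], [.z, .z, .z, .o, .z, .z, .z, .z, .z, .z, .z, .z, .z, .z], [.z, .z, .z, .v, .o, .z, .z, .z, .z, .z, .z, .z, .z, .z], [.z, .z, .z, .w, .z, .o, .z, .z, .z, .z, .z, .z, .z, .z], [.z, .z, .z, .z, .z, .z, .o, .z, .z, .z, .z, .z, .z, .z], [.z, .z, .z, .o, .w, .v, .z, .o, .z, .z, .z, .z, .z, .z], [.z, .z, .z, .z, .z, .z, .z, .z, .o, .z, .z, .z, .z, .z], [.z, .v, .z, .z, .z, .z, .w, .z, .z, .o, .z, .z, .z, .z], [.z, .z, .z, .z, .z, .z, .z, .z, .v, .z, .o, .z, .z, .z], [.z, .z, .z, .z, .z, .z, .z, .z, .w, .z, .z, .o, .z, .z], [.z, .z, .z, .z, .z, .z, .z, .z, .o, .z, .w, .v, .o, .z], [.z, .z, .z, .z, .z, .z, .z, .z, .z, .z, .z, .z, .z, .o]],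
  [[.o, .z, .z, .z, .z, .o, .z, .z, .z, .z, .z, .z, .z, .z], [.z, .o, .z, .z, .z, .o, .z, .z, .z, .z, .z, .z, .z, .z], [.z, .z, .o, .z, .z, .z, .z, .z, .z, .z, .z, .z, .z, .z], [.z, .z, .z, .o, .z, .z, .z, .z, .z, .z, .z, .z, .z, .z], [.z, .z, .o, .z, .o, .z, .z, .z, .z, .z, .z, .z, .z, .z], [.z, .z, .z, .z, .z, .o, .z, .z, .z, .z, .z, .z, .z, .z], [.z, .z, .o, .z, .z, .z, .o, .z, .z, .z, .z, .z, .z, .z], [.z, .z, .z, .z, .z, .z, .z, .o, .z, .z, .z, .z, .z, .z], [.z, .z, .o, .z, .o, .z, .o, .z, .o, .z, .z, .z, .z, .z], [.z, .z, .z, .z, .z, .z, .z, .o, .z, .o, .z, .z, .z, .z], [.o, .o, .z, .z, .z, .o, .z, .z, .z, .z, .o, .z, .z, .z], [.z, .z, .z, .z, .z, .z, .z, .o, .z, .z, .z, .o, .z, .z], [.z, .z, .z, .z, .z, .z, .z, .z, .z, .z, .z, .z, .o, .z], [.z, .z, .z, .z, .z, .z, .z, .o, .z, .o, .z, .o, .z, .o]],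
  [[.o, .z, .z, .z, .z, .w, .z, .z, .z, .z, .z, .z, .z, .z], [.z, .o, .z, .z, .z, .w, .z, .z, .z, .z, .z, .z, .z, .z], [.z, .z, .o, .z, .z, .z, .z, .z, .z, .z, .z, .z, .z, .z], [.z, .z, .z, .o, .z, .z, .z, .z, .z, .z, .z, .z, .z, .z], [.z, .z, .w, .z, .o, .z, .z, .z, .z, .z, .z, .z, .z, .z], [.z, .z, .z, .z, .z, .o, .z, .z, .z, .z, .z, .z, .z, .z], [.z, .z, .v, .z, .z, .z, .o, .z, .z, .z, .z, .z, .z, .z], [.z, .z, .z, .z, .z, .z, .z, .o, .z, .z, .z, .z, .z, .z], [.z, .z, .o, .z, .v, .z, .w, .z, .o, .z, .z, .z, .z, .z], [.z, .z, .z, .z, .z, .z, .z, .w, .z, .o, .z, .z, .z, .z], [.w, .w, .z, .z, .z, .v, .z, .z, .z, .z, .o, .z, .z, .z], [.z, .z, .z, .z, .z, .z, .z, .v, .z, .z, .z, .o, .z, .z], [.z, .z, .z, .z, .z, .z, .z, .z, .z, .z, .z, .z, .o, .z], [.z, .z, .z, .z, .z, .z, .z, .o, .z, .v, .z, .w, .z, .o]],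
  [[.o, .z, .z, .z, .z, .v, .z, .z, .z, .z, .z, .z, .z, .z], [.z, .o, .z, .z, .z, .v, .z, .z, .z, .z, .z, .z, .z, .z], [.z, .z, .o, .z, .z, .z, .z, .z, .z, .z, .z, .z, .z, .z], [.z, .z, .z, .o, .z, .z, .z, .z, .z, .z, .z, .z, .z, .z], [.z, .z, .v, .z, .o, .z, .z, .z, .z, .z, .z, .z, .z, .z], [.z, .z, .z, .z, .z, .o, .z, .z, .z, .z, .z, .z, .z, .z], [.z, .z, .w, .z, .z, .z, .o, .z, .z, .z, .z, .z, .z, .z], [.z, .z, .z, .z, .z, .z, .z, .o, .z, .z, .z, .z, .z, .z], [.z, .z, .o, .z, .w, .z, .v, .z, .o, .z, .z, .z, .z, .z], [.z, .z, .z, .z, .z, .z, .z, .v, .z, .o, .z, .z, .z, .z], [.v, .v, .z, .z, .z, .w, .z, .z, .z, .z, .o, .z, .z, .z], [.z, .z, .z, .z, .z, .z, .z, .w, .z, .z, .z, .o, .z, .z], [.z, .z, .z, .z, .z, .z, .z, .z, .z, .z, .z, .z, .o, .z], [.z, .z, .z, .z, .z, .z, .z, .o, .z, .w, .z, .v, .z, .o]],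
  [[.o, .z, .z, .z, .z, .z, .z, .z, .z, .z, .z, .z, .z, .z], [.z, .o, .z, .z, .o, .z, .z, .z, .z, .z, .z, .z, .z, .z], [.z, .z, .o, .z, .z, .z, .z, .z, .z, .z, .z, .z, .z, .z], [.z, .z, .z, .o, .z, .z, .z, .z, .z, .z, .z, .z, .z, .z], [.z, .z, .z, .z, .o, .z, .z, .z, .z, .z, .z, .z, .z, .z], [.z, .z, .o, .z, .z, .o, .z, .z, .z, .z, .z, .z, .z, .z], [.z, .z, .z, .o, .z, .z, .o, .z, .z, .z, .z, .z, .z, .z], [.z, .z, .z, .z, .z, .z, .z, .o, .z, .z, .z, .z, .z, .z], [.z, .z, .z, .z, .z, .z, .z, .z, .o, .z, .z, .z, .z, .z], [.z, .z, .o, .z, .z, .z, .z, .z, .z, .o, .z, .z, .z, .z], [.z, .z, .z, .o, .z, .z, .z, .z, .z, .z, .o, .z, .z, .z], [.o, .z, .z, .z, .o, .z, .z, .z, .z, .z, .z, .o, .z, .z], [.z, .z, .o, .z, .z, .o, .z, .z, .z, .o, .z, .z, .o, .z], [.z, .z, .z, .o, .z, .z, .o, .z, .z, .z, .o, .z, .z, .o]],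
  [[.o, .z, .z, .z, .z, .z, .z, .z, .z, .z, .z, .z, .z, .z], [.z, .o, .z, .z, .w, .z, .z, .z, .z, .z, .z, .z, .z, .z], [.z, .z, .o, .z, .z, .z, .z, .z, .z, .z, .z, .z, .z, .z], [.z, .z, .z, .o, .z, .z, .z, .z, .z, .z, .z, .z, .z, .z], [.z, .z, .z, .z, .o, .z, .z, .z, .z, .z, .z, .z, .z, .z], [.z, .z, .w, .z, .z, .o, .z, .z, .z, .z, .z, .z, .z, .z], [.z, .z, .z, .w, .z, .z, .o, .z, .z, .z, .z, .z, .z, .z], [.z, .z, .z, .z, .z, .z, .z, .o, .z, .z, .z, .z, .z, .z], [.z, .z, .z, .z, .z, .z, .z, .z, .o, .z, .z, .z, .z, .z], [.z, .z, .v, .z, .z, .z, .z, .z, .z, .o, .z, .z, .z, .z], [.z, .z, .z, .v, .z, .z, .z, .z, .z, .z, .o, .z, .z, .z], [.w, .z, .z, .z, .v, .z, .z, .z, .z, .z, .z, .o, .z, .z], [.z, .z, .o, .z, .z, .v, .z, .z, .z, .w, .z, .z, .o, .z], [.z, .z, .z, .o, .z, .z, .v, .z, .z, .z, .w, .z, .z, .o]],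
  [[.o, .z, .z, .z, .z, .z, .z, .z, .z, .z, .z, .z, .z, .z], [.z, .o, .z, .z, .v, .z, .z, .z, .z, .z, .z, .z, .z, .z], [.z, .z, .o, .z, .z, .z, .z, .z, .z, .z, .z, .z, .z, .z], [.z, .z, .z, .o, .z, .z, .z, .z, .z, .z, .z, .z, .z, .z], [.z, .z, .z, .z, .o, .z, .z, .z, .z, .z, .z, .z, .z, .z], [.z, .z, .v, .z, .z, .o, .z, .z, .z, .z, .z, .z, .z, .z], [.z, .z, .z, .v, .z, .z, .o, .z, .z, .z, .z, .z, .z, .z], [.z, .z, .z, .z, .z, .z, .z, .o, .z, .z, .z, .z, .z, .z], [.z, .z, .z, .z, .z, .z, .z, .z, .o, .z, .z, .z, .z, .z], [.z, .z, .w, .z, .z, .z, .z, .z, .z, .o, .z, .z, .z, .z], [.z, .z, .z, .w, .z, .z, .z, .z, .z, .z, .o, .z, .z, .z], [.v, .z, .z, .z, .w, .z, .z, .z, .z, .z, .z, .o, .z, .z], [.z, .z, .o, .z, .z, .w, .z, .z, .z, .v, .z, .z, .o, .z], [.z, .z, .z, .o, .z, .z, .w, .z, .z, .z, .v, .z, .z, .o]],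
  [[.o, .z, .z, .o, .z, .z, .z, .z, .z, .z, .z, .z, .z, .z], [.z, .o, .z, .o, .z, .z, .z, .z, .z, .z, .z, .z, .z, .z], [.z, .z, .o, .z, .z, .z, .z, .z, .z, .z, .z, .z, .z, .z], [.z, .z, .z, .o, .z, .z, .z, .z, .z, .z, .z, .z, .z, .z], [.z, .z, .z, .z, .o, .z, .z, .z, .z, .z, .z, .z, .z, .z], [.z, .z, .z, .z, .z, .o, .z, .z, .z, .z, .z, .z, .z, .z], [.z, .z, .z, .z, .z, .z, .o, .z, .z, .z, .z, .z, .z, .z], [.z, .z, .o, .z, .z, .z, .z, .o, .z, .z, .z, .z, .z, .z], [.z, .z, .z, .z, .z, .z, .z, .z, .o, .z, .z, .z, .z, .z], [.z, .z, .z, .z, .o, .z, .z, .z, .z, .o, .z, .z, .z, .z], [.z, .z, .z, .z, .z, .z, .z, .z, .z, .z, .o, .z, .z, .z], [.z, .z, .z, .z, .z, .z, .o, .z, .z, .z, .z, .o, .z, .z], [.o, .o, .z, .o, .z, .z, .z, .z, .z, .z, .z, .z, .o, .z], [.z, .z, .z, .z, .z, .z, .z, .z, .o, .z, .z, .z, .z, .o]],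
  [[.o, .z, .z, .w, .z, .z, .z, .z, .z, .z, .z, .z, .z, .z], [.z, .o, .z, .w, .z, .z, .z, .z, .z, .z, .z, .z, .z, .z], [.z, .z, .o, .z, .z, .z, .z, .z, .z, .z, .z, .z, .z, .z], [.z, .z, .z, .o, .z, .z, .z, .z, .z, .z, .z, .z, .z, .z], [.z, .z, .z, .z, .o, .z, .z, .z, .z, .z, .z, .z, .z, .z], [.z, .z, .z, .z, .z, .o, .z, .z, .z, .z, .z, .z, .z, .z], [.z, .z, .z, .z, .z, .z, .o, .z, .z, .z, .z, .z, .z, .z], [.z, .z, .w, .z, .z, .z, .z, .o, .z, .z, .z, .z, .z, .z], [.z, .z, .z, .z, .z, .z, .z, .z, .o, .z, .z, .z, .z, .z], [.z, .z, .z, .z, .w, .z, .z, .z, .z, .o, .z, .z, .z, .z], [.z, .z, .z, .z, .z, .z, .z, .z, .z, .z, .o, .z, .z, .z], [.z, .z, .z, .z, .z, .z, .w, .z, .z, .z, .z, .o, .z, .z], [.w, .w, .z, .v, .z, .z, .z, .z, .z, .z, .z, .z, .o, .z], [.z, .z, .z, .z, .z, .z, .z, .z, .w, .z, .z, .z, .z, .o]],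
  [[.o, .z, .z, .v, .z, .z, .z, .z, .z, .z, .z, .z, .z, .z], [.z, .o, .z, .v, .z, .z, .z, .z, .z, .z, .z, .z, .z, .z], [.z, .z, .o, .z, .z, .z, .z, .z, .z, .z, .z, .z, .z, .z], [.z, .z, .z, .o, .z, .z, .z, .z, .z, .z, .z, .z, .z, .z], [.z, .z, .z, .z, .o, .z, .z, .z, .z, .z, .z, .z, .z, .z], [.z, .z, .z, .z, .z, .o, .z, .z, .z, .z, .z, .z, .z, .z], [.z, .z, .z, .z, .z, .z, .o, .z, .z, .z, .z, .z, .z, .z], [.z, .z, .v, .z, .z, .z, .z, .o, .z, .z, .z, .z, .z, .z], [.z, .z, .z, .z, .z, .z, .z, .z, .o, .z, .z, .z, .z, .z], [.z, .z, .z, .z, .v, .z, .z, .z, .z, .o, .z, .z, .z, .z], [.z, .z, .z, .z, .z, .z, .z, .z, .z, .z, .o, .z, .z, .z], [.z, .z, .z, .z, .z, .z, .v, .z, .z, .z, .z, .o, .z, .z], [.v, .v, .z, .w, .z, .z, .z, .z, .z, .z, .z, .z, .o, .z], [.z, .z, .z, .z, .z, .z, .z, .z, .v, .z, .z, .z, .z, .o]],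
  [[.o, .z, .o, .z, .z, .z, .z, .z, .z, .z, .z, .z, .z, .z], [.z, .o, .z, .z, .z, .z, .z, .z, .z, .z, .z, .z, .z, .z], [.z, .z, .o, .z, .z, .z, .z, .z, .z, .z, .z, .z, .z, .z], [.z, .z, .z, .o, .z, .z, .z, .z, .z, .z, .z, .z, .z, .z], [.z, .z, .z, .z, .o, .z, .z, .z, .z, .z, .z, .z, .z, .z], [.z, .z, .z, .z, .z, .o, .z, .z, .z, .z, .z, .z, .z, .z], [.z, .z, .z, .z, .z, .z, .o, .z, .z, .z, .z, .z, .z, .z], [.z, .z, .z, .z, .z, .z, .z, .o, .z, .z, .z, .z, .z, .z], [.z, .z, .z, .o, .z, .z, .z, .z, .o, .z, .z, .z, .z, .z], [.z, .z, .z, .z, .z, .z, .z, .z, .z, .o, .z, .z, .z, .z], [.z, .z, .z, .z, .o, .z, .z, .z, .z, .z, .o, .z, .z, .z], [.z, .z, .z, .z, .z, .o, .z, .z, .z, .z, .z, .o, .z, .z], [.z, .z, .z, .z, .z, .z, .z, .o, .z, .z, .z, .z, .o, .z], [.z, .o, .o, .z, .z, .z, .z, .z, .z, .z, .z, .z, .z, .o]],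
  [[.o, .z, .w, .z, .z, .z, .z, .z, .z, .z, .z, .z, .z, .z], [.z, .o, .z, .z, .z, .z, .z, .z, .z, .z, .z, .z, .z, .z], [.z, .z, .o, .z, .z, .z, .z, .z, .z, .z, .z, .z, .z, .z], [.z, .z, .z, .o, .z, .z, .z, .z, .z, .z, .z, .z, .z, .z], [.z, .z, .z, .z, .o, .z, .z, .z, .z, .z, .z, .z, .z, .z], [.z, .z, .z, .z, .z, .o, .z, .z, .z, .z, .z, .z, .z, .z], [.z, .z, .z, .z, .z, .z, .o, .z, .z, .z, .z, .z, .z, .z], [.z, .z, .z, .z, .z, .z, .z, .o, .z, .z, .z, .z, .z, .z], [.z, .z, .z, .w, .z, .z, .z, .z, .o, .z, .z, .z, .z, .z], [.z, .z, .z, .z, .z, .z, .z, .z, .z, .o, .z, .z, .z, .z], [.z, .z, .z, .z, .w, .z, .z, .z, .z, .z, .o, .z, .z, .z], [.z, .z, .z, .z, .z, .w, .z, .z, .z, .z, .z, .o, .z, .z], [.z, .z, .z, .z, .z, .z, .z, .w, .z, .z, .z, .z, .o, .z], [.z, .w, .v, .z, .z, .z, .z, .z, .z, .z, .z, .z, .z, .o]],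
  [[.o, .z, .v, .z, .z, .z, .z, .z, .z, .z, .z, .z, .z, .z], [.z, .o, .z, .z, .z, .z, .z, .z, .z, .z, .z, .z, .z, .z], [.z, .z, .o, .z, .z, .z, .z, .z, .z, .z, .z, .z, .z, .z], [.z, .z, .z, .o, .z, .z, .z, .z, .z, .z, .z, .z, .z, .z], [.z, .z, .z, .z, .o, .z, .z, .z, .z, .z, .z, .z, .z, .z], [.z, .z, .z, .z, .z, .o, .z, .z, .z, .z, .z, .z, .z, .z], [.z, .z, .z, .z, .z, .z, .o, .z, .z, .z, .z, .z, .z, .z], [.z, .z, .z, .z, .z, .z, .z, .o, .z, .z, .z, .z, .z, .z], [.z, .z, .z, .v, .z, .z, .z, .z, .o, .z, .z, .z, .z, .z], [.z, .z, .z, .z, .z, .z, .z, .z, .z, .o, .z, .z, .z, .z], [.z, .z, .z, .z, .v, .z, .z, .z, .z, .z, .o, .z, .z, .z], [.z, .z, .z, .z, .z, .v, .z, .z, .z, .z, .z, .o, .z, .z], [.z, .z, .z, .z, .z, .z, .z, .v, .z, .z, .z, .z, .o, .z], [.z, .v, .w, .z, .z, .z, .z, .z, .z, .z, .z, .z, .z, .o]]]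

/-- the matrix of the root element with a given number -/
def xLk (k : ℕ) : List (List GF4) := xTab.getD k idL

/-- the nonzero field elements -/
def tOf : ℕ → GF4
  | 0 => .o
  | 1 => .w
  | _ => .v

theorem xz0 : Cfsg.Lie.chevG2.xMat GF4 (⟨0, by decide⟩ : Fin Cfsg.Lie.chevG2.nroots) GF4.z = 1 := by decide +kernel
theorem xm0 : Cfsg.Lie.chevG2.xMat GF4 (⟨0, by decide⟩ : Fin Cfsg.Lie.chevG2.nroots) GF4.o = toM (xLk 0) := by decide +kernel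
theorem xm1 : Cfsg.Lie.chevG2.xMat GF4 (⟨0, by decide⟩ : Fin Cfsg.Lie.chevG2.nroots) GF4.w = toM (xLk 1) := by decide +kernel
theorem xm2 : Cfsg.Lie.chevG2.xMat GF4 (⟨0, by decide⟩ : Fin Cfsg.Lie.chevG2.nroots) GF4.v = toM (xLk 2) := by decide +kernel
theorem xz1 : Cfsg.Lie.chevG2.xMat GF4 (⟨1, by decide⟩ : Fin Cfsg.Lie.chevG2.nroots) GF4.z = 1 := by decide +kernel
theorem xm3 : Cfsg.Lie.chevG2.xMat GF4 (⟨1, by decide⟩ : Fin Cfsg.Lie.chevG2.nroots) GF4.o = toM (xLk 3) := by decide +kernel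
theorem xm4 : Cfsg.Lie.chevG2.xMat GF4 (⟨1, by decide⟩ : Fin Cfsg.Lie.chevG2.nroots) GF4.w = toM (xLk 4) := by decide +kernel
theorem xm5 : Cfsg.Lie.chevG2.xMat GF4 (⟨1, by decide⟩ : Fin Cfsg.Lie.chevG2.nroots) GF4.v = toM (xLk 5) := by decide +kernel
theorem xz2 : Cfsg.Lie.chevG2.xMat GF4 (⟨2, by decide⟩ : Fin Cfsg.Lie.chevG2.nroots) GF4.z = 1 := by decide +kernel
theorem xm6 : Cfsg.Lie.chevG2.xMat GF4 (⟨2, by decide⟩ : Fin Cfsg.Lie.chevG2.nroots) GF4.o = toM (xLk 6) := by decide +kernel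
theorem xm7 : Cfsg.Lie.chevG2.xMat GF4 (⟨2, by decide⟩ : Fin Cfsg.Lie.chevG2.nroots) GF4.w = toM (xLk 7) := by decide +kernel
theorem xm8 : Cfsg.Lie.chevG2.xMat GF4 (⟨2, by decide⟩ : Fin Cfsg.Lie.chevG2.nroots) GF4.v = toM (xLk 8) := by decide +kernel
theorem xz3 : Cfsg.Lie.chevG2.xMat GF4 (⟨3, by decide⟩ : Fin Cfsg.Lie.chevG2.nroots) GF4.z = 1 := by decide +kernel
theorem xm9 : Cfsg.Lie.chevG2.xMat GF4 (⟨3, by decide⟩ : Fin Cfsg.Lie.chevG2.nroots) GF4.o = toM (xLk 9) := by decide +kernel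
theorem xm10 : Cfsg.Lie.chevG2.xMat GF4 (⟨3, by decide⟩ : Fin Cfsg.Lie.chevG2.nroots) GF4.w = toM (xLk 10) := by decide +kernel
theorem xm11 : Cfsg.Lie.chevG2.xMat GF4 (⟨3, by decide⟩ : Fin Cfsg.Lie.chevG2.nroots) GF4.v = toM (xLk 11) := by decide +kernel
theorem xz4 : Cfsg.Lie.chevG2.xMat GF4 (⟨4, by decide⟩ : Fin Cfsg.Lie.chevG2.nroots) GF4.z = 1 := by decide +kernel
theorem xm12 : Cfsg.Lie.chevG2.xMat GF4 (⟨4, by decide⟩ : Fin Cfsg.Lie.chevG2.nroots) GF4.o = toM (xLk 12) := by decide +kernel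
theorem xm13 : Cfsg.Lie.chevG2.xMat GF4 (⟨4, by decide⟩ : Fin Cfsg.Lie.chevG2.nroots) GF4.w = toM (xLk 13) := by decide +kernel
theorem xm14 : Cfsg.Lie.chevG2.xMat GF4 (⟨4, by decide⟩ : Fin Cfsg.Lie.chevG2.nroots) GF4.v = toM (xLk 14) := by decide +kernel
theorem xz5 : Cfsg.Lie.chevG2.xMat GF4 (⟨5, by decide⟩ : Fin Cfsg.Lie.chevG2.nroots) GF4.z = 1 := by decide +kernel
theorem xm15 : Cfsg.Lie.chevG2.xMat GF4 (⟨5, by decide⟩ : Fin Cfsg.Lie.chevG2.nroots) GF4.o = toM (xLk 15) := by decide +kernel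
theorem xm16 : Cfsg.Lie.chevG2.xMat GF4 (⟨5, by decide⟩ : Fin Cfsg.Lie.chevG2.nroots) GF4.w = toM (xLk 16) := by decide +kernel
theorem xm17 : Cfsg.Lie.chevG2.xMat GF4 (⟨5, by decide⟩ : Fin Cfsg.Lie.chevG2.nroots) GF4.v = toM (xLk 17) := by decide +kernel
theorem xz6 : Cfsg.Lie.chevG2.xMat GF4 (⟨6, by decide⟩ : Fin Cfsg.Lie.chevG2.nroots) GF4.z = 1 := by decide +kernel
theorem xm18 : Cfsg.Lie.chevG2.xMat GF4 (⟨6, by decide⟩ : Fin Cfsg.Lie.chevG2.nroots) GF4.o = toM (xLk 18) := by decide +kernel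
theorem xm19 : Cfsg.Lie.chevG2.xMat GF4 (⟨6, by decide⟩ : Fin Cfsg.Lie.chevG2.nroots) GF4.w = toM (xLk 19) := by decide +kernel
theorem xm20 : Cfsg.Lie.chevG2.xMat GF4 (⟨6, by decide⟩ : Fin Cfsg.Lie.chevG2.nroots) GF4.v = toM (xLk 20) := by decide +kernel
theorem xz7 : Cfsg.Lie.chevG2.xMat GF4 (⟨7, by decide⟩ : Fin Cfsg.Lie.chevG2.nroots) GF4.z = 1 := by decide +kernel
theorem xm21 : Cfsg.Lie.chevG2.xMat GF4 (⟨7, by decide⟩ : Fin Cfsg.Lie.chevG2.nroots) GF4.o = toM (xLk 21) := by decide +kernel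
theorem xm22 : Cfsg.Lie.chevG2.xMat GF4 (⟨7, by decide⟩ : Fin Cfsg.Lie.chevG2.nroots) GF4.w = toM (xLk 22) := by decide +kernel
theorem xm23 : Cfsg.Lie.chevG2.xMat GF4 (⟨7, by decide⟩ : Fin Cfsg.Lie.chevG2.nroots) GF4.v = toM (xLk 23) := by decide +kernel
theorem xz8 : Cfsg.Lie.chevG2.xMat GF4 (⟨8, by decide⟩ : Fin Cfsg.Lie.chevG2.nroots) GF4.z = 1 := by decide +kernel
theorem xm24 : Cfsg.Lie.chevG2.xMat GF4 (⟨8, by decide⟩ : Fin Cfsg.Lie.chevG2.nroots) GF4.o = toM (xLk 24) := by decide +kernel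
theorem xm25 : Cfsg.Lie.chevG2.xMat GF4 (⟨8, by decide⟩ : Fin Cfsg.Lie.chevG2.nroots) GF4.w = toM (xLk 25) := by decide +kernel
theorem xm26 : Cfsg.Lie.chevG2.xMat GF4 (⟨8, by decide⟩ : Fin Cfsg.Lie.chevG2.nroots) GF4.v = toM (xLk 26) := by decide +kernel
theorem xz9 : Cfsg.Lie.chevG2.xMat GF4 (⟨9, by decide⟩ : Fin Cfsg.Lie.chevG2.nroots) GF4.z = 1 := by decide +kernel
theorem xm27 : Cfsg.Lie.chevG2.xMat GF4 (⟨9, by decide⟩ : Fin Cfsg.Lie.chevG2.nroots) GF4.o = toM (xLk 27) := by decide +kernel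
theorem xm28 : Cfsg.Lie.chevG2.xMat GF4 (⟨9, by decide⟩ : Fin Cfsg.Lie.chevG2.nroots) GF4.w = toM (xLk 28) := by decide +kernel
theorem xm29 : Cfsg.Lie.chevG2.xMat GF4 (⟨9, by decide⟩ : Fin Cfsg.Lie.chevG2.nroots) GF4.v = toM (xLk 29) := by decide +kernel
theorem xz10 : Cfsg.Lie.chevG2.xMat GF4 (⟨10, by decide⟩ : Fin Cfsg.Lie.chevG2.nroots) GF4.z = 1 := by decide +kernel
theorem xm30 : Cfsg.Lie.chevG2.xMat GF4 (⟨10, by decide⟩ : Fin Cfsg.Lie.chevG2.nroots) GF4.o = toM (xLk 30) := by decide +kernel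
theorem xm31 : Cfsg.Lie.chevG2.xMat GF4 (⟨10, by decide⟩ : Fin Cfsg.Lie.chevG2.nroots) GF4.w = toM (xLk 31) := by decide +kernel
theorem xm32 : Cfsg.Lie.chevG2.xMat GF4 (⟨10, by decide⟩ : Fin Cfsg.Lie.chevG2.nroots) GF4.v = toM (xLk 32) := by decide +kernel
theorem xz11 : Cfsg.Lie.chevG2.xMat GF4 (⟨11, by decide⟩ : Fin Cfsg.Lie.chevG2.nroots) GF4.z = 1 := by decide +kernel
theorem xm33 : Cfsg.Lie.chevG2.xMat GF4 (⟨11, by decide⟩ : Fin Cfsg.Lie.chevG2.nroots) GF4.o = toM (xLk 33) := by decide +kernel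
theorem xm34 : Cfsg.Lie.chevG2.xMat GF4 (⟨11, by decide⟩ : Fin Cfsg.Lie.chevG2.nroots) GF4.w = toM (xLk 34) := by decide +kernel
theorem xm35 : Cfsg.Lie.chevG2.xMat GF4 (⟨11, by decide⟩ : Fin Cfsg.Lie.chevG2.nroots) GF4.v = toM (xLk 35) := by decide +kernel

/-- The matrices of the definition are the identity and the matrices of the table. -/
theorem xMat_cases (r : Fin Cfsg.Lie.chevG2.nroots) (t : GF4) :
    Cfsg.Lie.chevG2.xMat GF4 r t = 1 ∨ ∃ k, k < 36 ∧ Cfsg.Lie.chevG2.xMat GF4 r t = toM (xLk k) := by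
  rcases r with ⟨r, hr⟩
  have hr' : r < 12 := hr
  interval_cases r
  · cases t
    · exact Or.inl xz0
    · exact Or.inr ⟨0, by decide, xm0⟩
    · exact Or.inr ⟨1, by decide, xm1⟩
    · exact Or.inr ⟨2, by decide, xm2⟩
  · cases t
    · exact Or.inl xz1
    · exact Or.inr ⟨3, by decide, xm3⟩
    · exact Or.inr ⟨4, by decide, xm4⟩
    · exact Or.inr ⟨5, by decide, xm5⟩
  · cases t
    · exact Or.inl xz2
    · exact Or.inr ⟨6, by decide, xm6⟩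
    · exact Or.inr ⟨7, by decide, xm7⟩
    · exact Or.inr ⟨8, by decide, xm8⟩
  · cases t
    · exact Or.inl xz3
    · exact Or.inr ⟨9, by decide, xm9⟩
    · exact Or.inr ⟨10, by decide, xm10⟩
    · exact Or.inr ⟨11, by decide, xm11⟩
  · cases t
    · exact Or.inl xz4
    · exact Or.inr ⟨12, by decide, xm12⟩
    · exact Or.inr ⟨13, by decide, xm13⟩
    · exact Or.inr ⟨14, by decide, xm14⟩
  · cases t
    · exact Or.inl xz5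
    · exact Or.inr ⟨15, by decide, xm15⟩
    · exact Or.inr ⟨16, by decide, xm16⟩
    · exact Or.inr ⟨17, by decide, xm17⟩
  · cases t
    · exact Or.inl xz6
    · exact Or.inr ⟨18, by decide, xm18⟩
    · exact Or.inr ⟨19, by decide, xm19⟩
    · exact Or.inr ⟨20, by decide, xm20⟩
  · cases t
    · exact Or.inl xz7
    · exact Or.inr ⟨21, by decide, xm21⟩
    · exact Or.inr ⟨22, by decide, xm22⟩
    · exact Or.inr ⟨23, by decide, xm23⟩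
  · cases t
    · exact Or.inl xz8
    · exact Or.inr ⟨24, by decide, xm24⟩
    · exact Or.inr ⟨25, by decide, xm25⟩
    · exact Or.inr ⟨26, by decide, xm26⟩
  · cases t
    · exact Or.inl xz9
    · exact Or.inr ⟨27, by decide, xm27⟩
    · exact Or.inr ⟨28, by decide, xm28⟩
    · exact Or.inr ⟨29, by decide, xm29⟩
  · cases t
    · exact Or.inl xz10
    · exact Or.inr ⟨30, by decide, xm30⟩
    · exact Or.inr ⟨31, by decide, xm31⟩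
    · exact Or.inr ⟨32, by decide, xm32⟩
  · cases t
    · exact Or.inl xz11
    · exact Or.inr ⟨33, by decide, xm33⟩
    · exact Or.inr ⟨34, by decide, xm34⟩
    · exact Or.inr ⟨35, by decide, xm35⟩

/-- The matrices of the table are matrices of the definition. -/
theorem xLk_root (k : ℕ) (hk : k < 36) :
    ∃ (r : Fin Cfsg.Lie.chevG2.nroots) (t : GF4), toM (xLk k) = Cfsg.Lie.chevG2.xMat GF4 r t := by
  interval_cases k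
  · exact ⟨_, _, xm0.symm⟩
  · exact ⟨_, _, xm1.symm⟩
  · exact ⟨_, _, xm2.symm⟩
  · exact ⟨_, _, xm3.symm⟩
  · exact ⟨_, _, xm4.symm⟩
  · exact ⟨_, _, xm5.symm⟩
  · exact ⟨_, _, xm6.symm⟩
  · exact ⟨_, _, xm7.symm⟩
  · exact ⟨_, _, xm8.symm⟩
  · exact ⟨_, _, xm9.symm⟩
  · exact ⟨_, _, xm10.symm⟩
  · exact ⟨_, _, xm11.symm⟩
  · exact ⟨_, _, xm12.symm⟩
  · exact ⟨_, _, xm13.symm⟩
  · exact ⟨_, _, xm14.symm⟩
  · exact ⟨_, _, xm15.symm⟩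
  · exact ⟨_, _, xm16.symm⟩
  · exact ⟨_, _, xm17.symm⟩
  · exact ⟨_, _, xm18.symm⟩
  · exact ⟨_, _, xm19.symm⟩
  · exact ⟨_, _, xm20.symm⟩
  · exact ⟨_, _, xm21.symm⟩
  · exact ⟨_, _, xm22.symm⟩
  · exact ⟨_, _, xm23.symm⟩
  · exact ⟨_, _, xm24.symm⟩
  · exact ⟨_, _, xm25.symm⟩
  · exact ⟨_, _, xm26.symm⟩
  · exact ⟨_, _, xm27.symm⟩
  · exact ⟨_, _, xm28.symm⟩
  · exact ⟨_, _, xm29.symm⟩
  · exact ⟨_, _, xm30.symm⟩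
  · exact ⟨_, _, xm31.symm⟩
  · exact ⟨_, _, xm32.symm⟩
  · exact ⟨_, _, xm33.symm⟩
  · exact ⟨_, _, xm34.symm⟩
  · exact ⟨_, _, xm35.symm⟩

theorem xTab_length : xTab.length = 36 := rfl

theorem xTab_len : listAll xTab (fun m => Nat.beq m.length 14) = true := by decide +kernel

theorem xLk_length (k : ℕ) : (xLk k).length = 14 := by
  by_cases hk : k < 36
  · have h : xLk k ∈ xTab := by
      rw [xLk, List.getD_eq_getElem _ _ (by rw [xTab_length]; exact hk)]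
      exact List.getElem_mem _
    exact Nat.eq_of_beq_eq_true ((listAll_iff _ _).mp xTab_len _ h)
  · rw [xLk, List.getD_eq_default _ _ (by rw [xTab_length]; omega)]
    rfl

theorem xLk_big (k : ℕ) (hk : 36 ≤ k) : xLk k = idL := by
  rw [xLk, List.getD_eq_default _ _ (by rw [xTab_length]; exact hk)]

end Cfsg.Agent.Helper28.G2
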