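import Cfsg.Agent.Helper28.G2.Gen

/-!
# Elements of the image of the presented group in the Chevalley group of type `G₂` (helper28; generated)

A chain of products of the matrices of the generators, leading to the matrices of the root elements.
-/

set_option autoImplicit false

namespace Cfsg.Agent.Helper28.G2

open Cfsg.Agent.Helper28 Matrix

/-- a product -/
def N6 : List (List GF4) := [[.o, .o, .z, .z, .z, .z, .z, .z, .z, .z, .z, .z, .z, .w], [.z, .o, .z, .z, .z, .z, .z, .z, .z, .z, .z, .z, .z, .z], [.z, .z, .z, .z, .z, .z, .z, .z, .z, .z, .z, .z, .z, .w], [.z, .z, .z, .z, .z, .z, .z, .z, .v, .z, .z, .z, .z, .z], [.z, .z, .z, .z, .z, .z, .z, .z, .z, .z, .v, .z, .z, .z], [.z, .z, .z, .z, .z, .z, .z, .z, .z, .z, .z, .v, .z, .z], [.z, .z, .z, .z, .z, .z, .o, .z, .z, .z, .z, .z, .z, .z], [.z, .z, .z, .z, .z, .z, .z, .z, .z, .z, .z,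 .z, .v, .z], [.z, .z, .z, .w, .z, .z, .z, .z, .v, .z, .z, .z, .z, .z], [.z, .z, .z, .z, .z, .z, .z, .z, .z, .o, .z, .z, .z, .z], [.z, .z, .z, .z, .w, .z, .z, .z, .z, .z, .v, .z, .z, .z], [.z, .z, .z, .z, .z, .w, .z, .z, .z, .z, .z, .v, .z, .z], [.z, .z, .z, .z, .z, .z, .z, .w, .z, .z, .z, .z, .v, .z], [.z, .o, .v, .z, .z, .z, .z, .z, .z, .z, .z, .z, .z, .w]]
theorem n6 : InR N6 := inR_mul (inR_gen .b) (inR_gen .a) (by decide +kernel)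
/-- a product -/
def N7 : List (List GF4) := [[.o, .o, .o, .z, .z, .z, .z, .z, .z, .z, .z, .z, .z, .z], [.z, .o, .z, .z, .z, .z, .z, .z, .z, .z, .z, .z, .z, .z], [.z, .w, .w, .z, .z, .z, .z, .z, .z, .z, .z, .z, .z, .w], [.z, .z, .z, .v, .z, .z, .z, .z, .v, .z, .z, .z, .z, .z], [.z, .z, .z, .z, .v, .z, .z, .z, .z, .z, .v, .z, .z, .z], [.z, .z, .z, .z, .z, .v, .z, .z, .z, .z, .z, .v, .z, .z], [.z, .z, .z, .z, .z, .z, .o, .z, .z, .z, .z, .z, .z, .z], [.z, .z, .z, .z, .z, .z, .z, .v, .z, .z, .z, .z, .v, .z], [.z, .z, .z, .w, .z, .z, .z, .z, .z, .z, .z, .z, .z, .z], [.z, .z, .z, .z, .z, .z, .z, .z, .z, .o, .z, .z, .z, .z], [.z, .z, .z, .z, .w, .z, .z, .z, .z, .z, .z, .z, .z, .z], [.z, .z, .z, .z, .z, .w, .z, .z, .z, .z, .z, .z, .z, .z], [.z, .z, .z, .z, .z, .z, .z, .w, .z, .z, .z, .z, .z, .z], [.z, .z, .v, .z, .z, .z, .z, .z, .z, .z,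 .z, .z, .z, .z]]
theorem n7 : InR N7 := inR_mul (inR_gen .a) (inR_gen .b) (by decide +kernel)
/-- a product -/
def N9 : List (List GF4) := [[.o, .v, .o, .z, .z, .z, .z, .z, .z, .z, .z, .z, .z, .o], [.z, .o, .z, .z, .z, .z, .z, .z, .z, .z, .z, .z, .z, .z], [.z, .o, .w, .z, .z, .z, .z, .z, .z, .z, .z, .z, .z, .v], [.z, .z, .z, .v, .z, .z, .z, .z, .w, .z, .z, .z, .z, .z], [.z, .z, .z, .z, .v, .z, .z, .z, .z, .z, .w, .z, .z, .z], [.z, .z, .z, .z, .z, .v, .z, .z, .z, .z, .z, .w, .z, .z], [.z, .z, .z, .z, .z, .z, .o, .z, .z, .z, .z, .z, .z, .z], [.z, .z, .z, .z, .z, .z, .z, .v, .z, .z, .z, .z, .w, .z], [.z, .z, .z, .w, .z, .z, .z, .z, .v, .z, .z, .z, .z, .z], [.z, .z, .z, .z, .z, .z, .z, .z, .z, .o, .z, .z, .z, .z], [.z, .z, .z, .z, .w, .z, .z, .z, .z, .z, .v, .z, .z, .z], [.z, .z, .z, .z, .z, .w, .z, .z, .z, .z, .z, .v, .z, .z], [.z,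 .z, .z, .z, .z, .z, .z, .w, .z, .z, .z, .z, .v, .z], [.z, .o, .v, .z, .z, .z, .z, .z, .z, .z, .z, .z, .z, .w]]
theorem n9 : InR N9 := inR_mul n7 (inR_gen .a) (by decide +kernel)
/-- a product -/
def N10 : List (List GF4) := [[.o, .z, .z, .z, .z, .z, .z, .z, .z, .z, .o, .z, .v, .o], [.z, .o, .z, .z, .z, .z, .z, .z, .v, .z, .o, .w, .v, .z], [.z, .o, .o, .v, .o, .w, .z, .v, .v, .z, .o, .w, .v, .o], [.v, .v, .z, .o, .z, .z, .w, .z, .v, .z, .v, .o, .w, .v], [.w, .z, .z, .z, .o, .z, .z, .z, .o, .v, .v, .v, .o, .w], [.o, .o, .z, .z, .z, .o, .v, .z, .v, .z, .o, .v, .v, .o], [.z, .z, .z, .z, .z, .z, .o, .z, .o, .z, .z, .v, .z, .z], [.v, .z, .z, .z, .z, .z, .z, .o, .w, .o, .v, .o, .v, .v], [.z, .z, .z, .z, .z, .z, .z, .z, .o, .z, .z, .z, .z, .v], [.z, .z, .z, .z, .z, .z, .z, .z, .z, .o, .v, .z, .w, .z], [.z, .z, .z, .z, .z, .z, .z, .z, .z,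 .z, .o, .z, .z, .w], [.z, .z, .z, .z, .z, .z, .z, .z, .z, .z, .z, .o, .z, .o], [.z, .z, .z, .z, .z, .z, .z, .z, .z, .z, .z, .z, .o, .v], [.z, .z, .z, .z, .z, .z, .z, .z, .z, .z, .z, .z, .z, .o]]
theorem n10 : InR N10 := inR_mul (inR_gen .c) (inR_gen .a) (by decide +kernel)
/-- a product -/
def N12 : List (List GF4) := [[.o, .w, .w, .z, .w, .z, .z, .o, .z, .z, .v, .z, .w, .v], [.z, .o, .z, .o, .w, .v, .z, .o, .w, .z, .v, .o, .w, .z], [.z, .o, .o, .v, .o, .w, .z, .v, .v, .z, .o, .w, .v, .o], [.v, .w, .o, .w, .o, .w, .w, .v, .z, .z, .w, .v, .o, .w], [.w, .v, .v, .w, .w, .o, .z, .w, .v, .v, .z, .w, .v, .o], [.o, .v, .w, .o, .w, .w, .v, .o, .w, .z, .v, .z, .w, .v], [.z, .z, .z, .w, .z, .o, .o, .z, .v, .z, .z, .w, .z, .z], [.v, .o, .o, .v, .o, .w, .z, .w, .o, .o, .w, .v, .z, .w], [.z, .v, .w, .w, .z, .z, .z, .z, .v, .z, .z, .z, .z, .o],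 [.z, .z, .z, .z, .o, .z, .z, .v, .z, .o, .w, .z, .o, .z], [.z, .w, .o, .z, .w, .z, .z, .z, .z, .z, .v, .z, .z, .v], [.z, .o, .v, .z, .z, .w, .z, .z, .z, .z, .z, .v, .z, .w], [.z, .v, .w, .z, .z, .z, .z, .w, .z, .z, .z, .z, .v, .o], [.z, .o, .v, .z, .z, .z, .z, .z, .z, .z, .z, .z, .z, .w]]
theorem n12 : InR N12 := inR_mul (inR_gen .c) n6 (by decide +kernel)
/-- a product -/
def N13 : List (List GF4) := [[.o, .w, .o, .v, .o, .w, .z, .v, .o, .z, .v, .v, .w, .o], [.z, .o, .z, .z, .z, .z, .z, .z, .v, .z, .o, .w, .v, .z], [.z, .v, .w, .o, .w, .v, .z, .o, .w, .z, .v, .o, .w, .o], [.w, .w, .z, .v, .z, .z, .o, .z, .z, .z, .w, .v, .o, .v], [.o, .z, .z, .z, .v, .z, .z, .z, .v, .w, .z, .w, .v, .w], [.v, .v, .z, .z, .z, .v, .w, .z, .w, .z, .v, .z, .w, .o], [.z, .z, .z, .z, .z, .z, .o, .z, .o, .z, .z, .v, .z, .z], [.w, .z, .z, .z, .z, .z, .z,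 .v, .o, .v, .w, .v, .z, .v], [.o, .o, .z, .w, .z, .z, .v, .z, .w, .z, .o, .w, .v, .v], [.z, .z, .z, .z, .z, .z, .z, .z, .z, .o, .v, .z, .w, .z], [.v, .z, .z, .z, .w, .z, .z, .z, .w, .o, .w, .o, .w, .w], [.w, .w, .z, .z, .z, .w, .o, .z, .o, .z, .w, .w, .o, .o], [.o, .z, .z, .z, .z, .z, .z, .w, .v, .w, .o, .w, .w, .v], [.z, .w, .v, .w, .v, .o, .z, .w, .o, .z, .w, .v, .o, .o]]
theorem n13 : InR N13 := inR_mul n7 (inR_gen .c) (by decide +kernel)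
/-- a product -/
def N16 : List (List GF4) := [[.o, .o, .z, .z, .z, .z, .z, .z, .v, .z, .z, .w, .z, .o], [.z, .o, .z, .z, .z, .z, .z, .z, .v, .z, .o, .w, .v, .z], [.z, .z, .z, .z, .z, .z, .z, .z, .z, .z, .z, .z, .z, .w], [.z, .z, .z, .z, .z, .z, .z, .z, .v, .z, .z, .z, .z, .w], [.z, .z, .z, .z, .z, .z, .z, .z, .z, .z, .v, .z, .z, .o], [.z, .z, .z, .z, .z, .z, .z, .z, .z, .z, .z, .v, .z, .v], [.z, .z, .z, .z, .z, .z, .o, .z, .o, .z, .z, .v, .z, .z], [.z, .z, .z, .z, .z, .z, .z, .z, .z, .z, .z, .z, .v, .w], [.o, .o, .z, .w, .z, .z, .v, .z, .o, .z, .o, .w, .v, .o], [.z, .z, .z, .z, .z, .z, .z, .z, .z, .o, .v, .z, .w, .z], [.v, .z, .z, .z, .w, .z, .z, .z, .w, .o, .o, .o, .w, .v], [.w, .w, .z, .z, .z, .w, .o, .z, .o, .z, .w, .o, .o, .w], [.o, .z, .z, .z, .z, .z, .z, .w, .v, .w, .o, .w, .o, .o], [.z, .v, .v, .w, .v, .o, .z, .w, .w, .z,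 .v, .o, .w, .v]]
theorem n16 : InR N16 := inR_mul (inR_gen .b) n10 (by decide +kernel)
/-- a product -/
def N18 : List (List GF4) := [[.o, .v, .w, .o, .z, .v, .z, .z, .w, .z, .z, .o, .z, .v], [.z, .o, .z, .o, .w, .v, .z, .o, .w, .z, .v, .o, .w, .z], [.z, .w, .o, .z, .z, .z, .z, .z, .z, .z, .z, .z, .z, .v], [.z, .w, .o, .o, .z, .z, .z, .z, .w, .z, .z, .z, .z, .v], [.z, .o, .v, .z, .o, .z, .z, .z, .z, .z, .w, .z, .z, .w], [.z, .v, .w, .z, .z, .o, .z, .z, .z, .z, .z, .w, .z, .o], [.z, .z, .z, .w, .z, .o, .o, .z, .v, .z, .z, .w, .z, .z], [.z, .w, .o, .z, .z, .z, .z, .o, .z, .z, .z, .z, .w, .v], [.o, .v, .w, .v, .w, .v, .v, .o, .z, .z, .v, .o, .w, .v], [.z, .z, .z, .z, .o, .z, .z, .v, .z, .o, .w, .z, .o, .z], [.v, .o, .o, .v, .v, .w, .z, .v, .o, .o, .z, .v, .o, .w], [.w, .o, .v, .w, .v, .v, .o, .w, .v, .z, .o, .z, .v, .o], [.o, .w, .w,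 .o, .w, .v, .z, .v, .w, .w, .v, .o, .z, .v], [.z, .v, .v, .w, .v, .o, .z, .w, .w, .z, .v, .o, .w, .v]]
theorem n18 : InR N18 := inR_mul (inR_gen .b) n12 (by decide +kernel)
/-- a product -/
def N24 : List (List GF4) := [[.o, .w, .v, .w, .o, .o, .z, .v, .o, .z, .o, .v, .v, .w], [.z, .o, .z, .o, .w, .v, .z, .o, .w, .z, .v, .o, .w, .z], [.z, .w, .v, .v, .o, .w, .z, .v, .w, .z, .v, .o, .w, .o], [.w, .v, .w, .z, .v, .o, .o, .w, .w, .z, .o, .w, .v, .w], [.o, .v, .o, .o, .z, .v, .z, .o, .w, .w, .w, .o, .w, .o], [.v, .o, .v, .v, .o, .z, .w, .v, .o, .z, .w, .w, .o, .v], [.z, .z, .z, .w, .z, .o, .o, .z, .v, .z, .z, .w, .z, .z], [.w, .o, .w, .w, .v, .o, .z, .z, .v, .v, .o, .w, .w, .w], [.o, .v, .w, .v, .w, .v, .v, .o, .z, .z, .v, .o, .w, .v], [.z, .z, .z, .z, .o, .z, .z, .v, .z, .o, .w, .z, .o, .z], [.v, .o, .o, .v, .v, .w, .z, .v, .o, .o,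 .z, .v, .o, .w], [.w, .o, .v, .w, .v, .v, .o, .w, .v, .z, .o, .z, .v, .o], [.o, .w, .w, .o, .w, .v, .z, .v, .w, .w, .v, .o, .z, .v], [.z, .v, .v, .w, .v, .o, .z, .w, .w, .z, .v, .o, .w, .v]]
theorem n24 : InR N24 := inR_mul (inR_gen .a) n18 (by decide +kernel)
/-- a product -/
def N28 : List (List GF4) := [[.o, .o, .z, .z, .z, .z, .z, .z, .v, .z, .z, .w, .z, .v], [.z, .o, .z, .z, .z, .z, .z, .z, .v, .z, .o, .w, .v, .z], [.z, .v, .o, .v, .o, .w, .z, .v, .w, .z, .v, .o, .w, .w], [.v, .z, .z, .z, .z, .z, .z, .o, .w, .o, .v, .o, .o, .w], [.o, .o, .z, .z, .z, .o, .v, .z, .v, .z, .o, .o, .v, .v], [.w, .z, .z, .z, .o, .z, .z, .z, .o, .v, .o, .v, .o, .o], [.z, .z, .z, .z, .z, .z, .z, .z, .z, .o, .v, .z, .w, .z], [.v, .v, .z, .o, .z, .z, .w, .z, .o, .z, .v, .o, .w, .w], [.z, .z, .z, .z, .z, .z, .z, .z, .z, .z, .z, .z, .o, .v], [.z, .z, .z,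 .z, .z, .z, .o, .z, .o, .z, .z, .v, .z, .z], [.z, .z, .z, .z, .z, .z, .z, .z, .z, .z, .z, .o, .z, .o], [.z, .z, .z, .z, .z, .z, .z, .z, .z, .z, .o, .z, .z, .w], [.z, .z, .z, .z, .z, .z, .z, .z, .o, .z, .z, .z, .z, .v], [.z, .z, .z, .z, .z, .z, .z, .z, .z, .z, .z, .z, .z, .o]]
theorem n28 : InR N28 := inR_mul (inR_gen .d) (inR_gen .c) (by decide +kernel)
/-- a product -/
def N30 : List (List GF4) := [[.o, .o, .z, .z, .z, .z, .z, .z, .v, .z, .z, .w, .z, .o], [.z, .o, .z, .z, .z, .z, .z, .z, .v, .z, .o, .w, .v, .z], [.z, .o, .o, .v, .o, .w, .z, .v, .v, .z, .o, .w, .v, .o], [.v, .z, .z, .z, .z, .z, .z, .o, .w, .o, .v, .o, .v, .v], [.o, .o, .z, .z, .z, .o, .v, .z, .v, .z, .o, .v, .v, .o], [.w, .z, .z, .z, .o, .z, .z, .z, .o, .v, .v, .v, .o, .w], [.z, .z, .z, .z, .z, .z, .z, .z, .z, .o, .v, .z, .w, .z], [.v, .v, .z, .o, .z, .z, .w, .z,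 .v, .z, .v, .o, .w, .v], [.z, .z, .z, .z, .z, .z, .z, .z, .z, .z, .z, .z, .o, .v], [.z, .z, .z, .z, .z, .z, .o, .z, .o, .z, .z, .v, .z, .z], [.z, .z, .z, .z, .z, .z, .z, .z, .z, .z, .z, .o, .z, .o], [.z, .z, .z, .z, .z, .z, .z, .z, .z, .z, .o, .z, .z, .w], [.z, .z, .z, .z, .z, .z, .z, .z, .o, .z, .z, .z, .z, .v], [.z, .z, .z, .z, .z, .z, .z, .z, .z, .z, .z, .z, .z, .o]]
theorem n30 : InR N30 := inR_mul (inR_gen .d) n10 (by decide +kernel)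
/-- a product -/
def N33 : List (List GF4) := [[.o, .v, .o, .v, .w, .o, .z, .v, .w, .z, .v, .v, .o, .o], [.z, .o, .z, .z, .z, .z, .z, .z, .v, .z, .w, .o, .v, .z], [.z, .v, .w, .o, .v, .w, .z, .o, .w, .z, .o, .v, .w, .o], [.w, .z, .z, .z, .z, .z, .z, .v, .o, .o, .v, .w, .z, .v], [.o, .o, .z, .z, .z, .v, .w, .z, .v, .z, .w, .z, .v, .w], [.v, .z, .z, .z, .v, .z, .z, .z, .w, .w, .z, .v, .w, .o], [.z, .z, .z, .z, .z, .z, .z, .z, .z, .o, .v, .z, .o, .z], [.w, .w, .z, .v, .z, .z, .v, .z, .z, .z, .v, .w, .o, .v], [.o, .z, .z, .z, .z, .z, .z, .w, .v, .v, .w, .o, .w, .v], [.z, .z, .z, .z, .z, .z, .o, .z, .w, .z, .z, .v, .z, .z], [.v, .v, .z, .z, .z, .w, .o, .z, .w, .z, .o, .w, .w, .w], [.w, .z, .z, .z, .w, .z, .z, .z, .o, .o, .w, .w, .o, .o], [.o, .o, .z, .w, .z, .z, .w, .z, .w, .z, .w, .o, .v, .v], [.z, .w, .v, .w, .o, .v, .z, .w, .o, .z,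 .v, .w, .o, .o]]
theorem n33 : InR N33 := inR_mul n13 (inR_gen .d) (by decide +kernel)
/-- a product -/
def N36 : List (List GF4) := [[.o, .z, .z, .z, .z, .z, .z, .z, .z, .z, .o, .z, .v, .o], [.z, .o, .z, .z, .z, .z, .z, .z, .v, .z, .o, .w, .v, .z], [.z, .z, .z, .z, .z, .z, .z, .z, .z, .z, .z, .z, .z, .w], [.z, .z, .z, .z, .z, .z, .z, .z, .z, .z, .z, .z, .v, .w], [.z, .z, .z, .z, .z, .z, .z, .z, .z, .z, .z, .v, .z, .v], [.z, .z, .z, .z, .z, .z, .z, .z, .z, .z, .v, .z, .z, .o], [.z, .z, .z, .z, .z, .z, .z, .z, .z, .o, .v, .z, .w, .z], [.z, .z, .z, .z, .z, .z, .z, .z, .v, .z, .z, .z, .z, .w], [.o, .z, .z, .z, .z, .z, .z, .w, .v, .w, .o, .w, .o, .o], [.z, .z, .z, .z, .z, .z, .o, .z, .o, .z, .z, .v, .z, .z], [.w, .w, .z, .z, .z, .w, .o, .z, .o, .z, .w, .o, .o, .w], [.v, .z, .z, .z, .w, .z, .z, .z, .w, .o, .o, .o, .w, .v], [.o, .o, .z,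 .w, .z, .z, .v, .z, .o, .z, .o, .w, .v, .o], [.z, .v, .v, .w, .v, .o, .z, .w, .w, .z, .v, .o, .w, .v]]
theorem n36 : InR N36 := inR_mul (inR_gen .d) n16 (by decide +kernel)
/-- a product -/
def N44 : List (List GF4) := [[.o, .v, .v, .v, .v, .w, .z, .w, .v, .z, .w, .w, .o, .w], [.z, .o, .z, .o, .w, .v, .z, .o, .w, .z, .v, .o, .w, .z], [.z, .w, .v, .v, .o, .w, .z, .v, .w, .z, .v, .o, .w, .o], [.w, .o, .w, .w, .v, .o, .z, .z, .v, .v, .o, .w, .w, .w], [.v, .o, .v, .v, .o, .z, .w, .v, .o, .z, .w, .w, .o, .v], [.o, .v, .o, .o, .z, .v, .z, .o, .w, .w, .w, .o, .w, .o], [.z, .z, .z, .z, .o, .z, .z, .v, .z, .o, .w, .z, .o, .z], [.w, .v, .w, .z, .v, .o, .o, .w, .w, .z, .o, .w, .v, .w], [.o, .w, .w, .o, .w, .v, .z, .v, .w, .w, .v, .o, .z, .v], [.z, .z, .z, .w, .z, .o, .o, .z, .v, .z, .z, .w, .z, .z], [.w, .o, .v, .w, .v, .v, .o, .w, .v, .z,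 .o, .z, .v, .o], [.v, .o, .o, .v, .v, .w, .z, .v, .o, .o, .z, .v, .o, .w], [.o, .v, .w, .v, .w, .v, .v, .o, .z, .z, .v, .o, .w, .v], [.z, .v, .v, .w, .v, .o, .z, .w, .w, .z, .v, .o, .w, .v]]
theorem n44 : InR N44 := inR_mul (inR_gen .d) n24 (by decide +kernel)
/-- a product -/
def N48 : List (List GF4) := [[.o, .o, .z, .z, .z, .z, .z, .z, .z, .z, .z, .v, .z, .v], [.z, .o, .z, .z, .z, .z, .z, .z, .z, .z, .v, .v, .z, .w], [.w, .v, .o, .z, .v, .v, .w, .z, .o, .w, .w, .v, .o, .z], [.z, .z, .z, .z, .z, .z, .z, .o, .z, .v, .z, .w, .o, .o], [.v, .v, .z, .z, .z, .o, .z, .z, .z, .z, .w, .o, .w, .v], [.v, .z, .z, .z, .o, .z, .z, .z, .w, .z, .v, .w, .z, .w], [.z, .z, .z, .z, .z, .z, .z, .z, .z, .o, .z, .z, .v, .w], [.z, .z, .z, .o, .z, .z, .v, .z, .v, .z, .w, .z, .z, .o], [.z, .z, .z, .z, .z, .z, .z, .z, .z, .z, .z, .z, .o, .z], [.z, .z, .z,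 .z, .z, .z, .o, .z, .v, .z, .z, .z, .z, .w], [.z, .z, .z, .z, .z, .z, .z, .z, .z, .z, .z, .o, .z, .v], [.z, .z, .z, .z, .z, .z, .z, .z, .z, .z, .o, .z, .z, .v], [.z, .z, .z, .z, .z, .z, .z, .z, .o, .z, .z, .z, .z, .z], [.z, .z, .z, .z, .z, .z, .z, .z, .z, .z, .z, .z, .z, .o]]
theorem n48 : InR N48 := inR_mul (inR_gen .c) n28 (by decide +kernel)
/-- a product -/
def N50 : List (List GF4) := [[.o, .o, .z, .z, .z, .z, .z, .z, .z, .z, .z, .v, .z, .o], [.z, .o, .z, .z, .z, .z, .z, .z, .z, .z, .v, .v, .z, .w], [.w, .o, .o, .z, .v, .v, .w, .z, .o, .w, .v, .w, .o, .z], [.z, .z, .z, .z, .z, .z, .z, .o, .z, .v, .z, .w, .v, .o], [.v, .v, .z, .z, .z, .o, .z, .z, .z, .z, .w, .v, .w, .w], [.v, .z, .z, .z, .o, .z, .z, .z, .w, .z, .o, .w, .z, .v], [.z, .z, .z, .z, .z, .z, .z, .z, .z, .o, .z, .z, .v, .w], [.z, .z, .z, .o, .z, .z, .v, .z, .o, .z,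 .w, .z, .z, .o], [.z, .z, .z, .z, .z, .z, .z, .z, .z, .z, .z, .z, .o, .z], [.z, .z, .z, .z, .z, .z, .o, .z, .v, .z, .z, .z, .z, .w], [.z, .z, .z, .z, .z, .z, .z, .z, .z, .z, .z, .o, .z, .v], [.z, .z, .z, .z, .z, .z, .z, .z, .z, .z, .o, .z, .z, .v], [.z, .z, .z, .z, .z, .z, .z, .z, .o, .z, .z, .z, .z, .z], [.z, .z, .z, .z, .z, .z, .z, .z, .z, .z, .z, .z, .z, .o]]
theorem n50 : InR N50 := inR_mul (inR_gen .c) n30 (by decide +kernel)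
/-- a product -/
def N56 : List (List GF4) := [[.z, .v, .w, .z, .w, .o, .v, .o, .v, .z, .w, .v, .o, .w], [.v, .z, .z, .o, .v, .w, .v, .o, .z, .v, .o, .o, .z, .v], [.w, .o, .o, .z, .v, .v, .w, .z, .o, .w, .v, .w, .o, .z], [.w, .o, .o, .z, .v, .v, .w, .o, .o, .o, .v, .z, .w, .o], [.w, .z, .v, .z, .w, .v, .o, .z, .v, .o, .z, .w, .o, .w], [.z, .w, .w, .z, .z, .o, .v, .z, .z, .v, .z, .o, .w, .v], [.v, .z, .z, .z, .o, .z, .z, .w, .w, .z, .o, .o, .w, .v], [.w, .o, .o, .o, .v, .v, .o, .z, .z, .w, .o, .w, .o, .o], [.o, .w, .w, .o, .w, .v, .z, .v, .w, .w, .v, .o, .z, .v], [.v, .v, .z, .v, .z, .o, .v, .z, .z, .z, .v, .v, .w, .v], [.w, .v, .o, .v, .o, .z, .o, .v, .w, .z, .v, .v, .w, .v], [.v, .v, .v, .w, .o, .o, .z, .w, .z, .o, .w, .z, .z, .z], [.o, .v, .w, .v, .w, .v, .v, .o, .z, .z, .v, .o, .w, .v], [.z, .v, .v, .w, .v, .o, .z, .w, .w, .z,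 .v, .o, .w, .v]]
theorem n56 : InR N56 := inR_mul (inR_gen .c) n36 (by decide +kernel)
/-- a product -/
def N62 : List (List GF4) := [[.z, .w, .v, .w, .v, .z, .v, .w, .o, .z, .v, .w, .w, .v], [.v, .o, .o, .v, .z, .v, .v, .v, .w, .v, .w, .z, .w, .w], [.v, .o, .z, .w, .o, .v, .v, .w, .o, .v, .w, .v, .o, .z], [.z, .z, .v, .w, .v, .w, .w, .v, .w, .w, .o, .w, .o, .o], [.o, .z, .o, .v, .w, .v, .v, .z, .w, .o, .v, .v, .v, .v], [.o, .z, .w, .w, .z, .z, .v, .o, .o, .o, .o, .w, .z, .w], [.v, .o, .o, .v, .o, .w, .z, .w, .o, .z, .o, .v, .w, .w], [.z, .w, .v, .z, .z, .o, .z, .w, .z, .w, .z, .v, .w, .o], [.o, .z, .z, .z, .z, .z, .z, .w, .v, .w, .o, .w, .o, .o], [.v, .w, .o, .w, .o, .w, .v, .v, .o, .z, .w, .z, .o, .w], [.w, .z, .w, .o, .w, .o, .o, .o, .z, .z, .z, .w, .z, .z], [.v, .w, .w, .o, .z, .v, .z, .o, .v, .o, .v, .w, .v, .o], [.o, .o, .z,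 .w, .z, .z, .v, .z, .o, .z, .o, .w, .v, .o], [.z, .v, .v, .w, .v, .o, .z, .w, .w, .z, .v, .o, .w, .v]]
theorem n62 : InR N62 := inR_mul (inR_gen .c) n44 (by decide +kernel)
/-- a product -/
def N70 : List (List GF4) := [[.v, .v, .w, .o, .o, .v, .z, .z, .v, .v, .v, .w, .o, .o], [.v, .z, .z, .o, .v, .w, .v, .o, .z, .v, .o, .o, .z, .v], [.z, .o, .o, .v, .o, .w, .z, .v, .v, .z, .o, .w, .v, .o], [.v, .o, .o, .v, .o, .w, .z, .w, .o, .o, .w, .v, .z, .w], [.o, .w, .v, .w, .v, .z, .v, .w, .o, .z, .w, .w, .o, .w], [.w, .w, .w, .o, .v, .v, .z, .o, .z, .v, .o, .z, .z, .z], [.v, .z, .z, .z, .o, .z, .z, .w, .w, .z, .o, .o, .w, .v], [.v, .w, .o, .w, .o, .w, .w, .v, .z, .z, .w, .v, .o, .w], [.v, .w, .w, .z, .o, .o, .v, .w, .w, .w, .o, .z, .v, .w], [.v, .v, .z, .v, .z, .o, .v, .z, .z, .z, .v, .v, .w, .v], [.v, .z, .o, .z, .v, .o, .w, .z, .o, .w,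 .z, .v, .w, .v], [.z, .v, .v, .z, .z, .w, .o, .z, .z, .o, .z, .w, .v, .o], [.v, .w, .w, .w, .o, .o, .w, .z, .z, .v, .w, .v, .w, .w], [.o, .v, .v, .z, .w, .w, .o, .z, .v, .o, .w, .o, .v, .z]]
theorem n70 : InR N70 := inR_mul (inR_gen .b) n56 (by decide +kernel)
/-- a product -/
def N76 : List (List GF4) := [[.v, .v, .w, .o, .v, .v, .z, .o, .v, .v, .o, .w, .z, .o], [.v, .o, .o, .v, .z, .v, .v, .v, .w, .v, .w, .z, .w, .w], [.z, .o, .o, .v, .o, .w, .z, .v, .v, .z, .o, .w, .v, .o], [.v, .z, .z, .z, .z, .z, .z, .o, .w, .o, .v, .o, .v, .v], [.o, .z, .o, .v, .o, .v, .v, .v, .z, .z, .z, .o, .z, .z], [.w, .o, .o, .v, .z, .w, .z, .v, .w, .v, .w, .o, .w, .v], [.v, .o, .o, .v, .o, .w, .z, .w, .o, .z, .o, .v, .w, .w], [.v, .v, .z, .o, .z, .z, .w, .z, .v, .z, .v, .o, .w, .v], [.z, .z, .o, .v, .o, .v, .v, .o, .v, .v, .w, .v, .w, .w], [.v, .w, .o,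 .w, .o, .w, .v, .v, .o, .z, .w, .z, .o, .w], [.w, .z, .w, .o, .v, .o, .o, .z, .v, .w, .o, .o, .o, .o], [.w, .z, .v, .v, .z, .z, .o, .w, .w, .w, .w, .v, .z, .v], [.z, .v, .o, .z, .z, .w, .z, .v, .z, .v, .z, .o, .v, .w], [.w, .v, .z, .o, .v, .w, .w, .o, .v, .w, .o, .w, .v, .z]]
theorem n76 : InR N76 := inR_mul (inR_gen .b) n62 (by decide +kernel)
/-- a product -/
def N82 : List (List GF4) := [[.o, .w, .v, .o, .w, .z, .w, .z, .w, .o, .z, .z, .z, .o], [.v, .z, .z, .o, .v, .w, .v, .o, .z, .v, .o, .o, .z, .v], [.w, .v, .v, .o, .o, .z, .w, .o, .o, .w, .w, .v, .o, .z], [.w, .w, .w, .v, .v, .z, .o, .o, .w, .w, .z, .v, .o, .o], [.z, .w, .o, .w, .w, .w, .z, .w, .v, .v, .w, .v, .w, .v], [.w, .v, .v, .o, .v, .z, .w, .o, .z, .o, .o, .v, .o, .w], [.v, .z, .z, .z, .o, .z, .z, .w, .w, .z, .o, .o, .w, .v], [.w, .o, .w, .o, .v, .z, .o, .v, .z, .o,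 .o, .w, .w, .o], [.v, .w, .w, .z, .o, .o, .v, .w, .w, .w, .o, .z, .v, .w], [.v, .v, .z, .v, .z, .o, .v, .z, .z, .z, .v, .v, .w, .v], [.v, .z, .o, .z, .v, .o, .w, .z, .o, .w, .z, .v, .w, .v], [.z, .v, .v, .z, .z, .w, .o, .z, .z, .o, .z, .w, .v, .o], [.v, .w, .w, .w, .o, .o, .w, .z, .z, .v, .w, .v, .w, .w], [.o, .v, .v, .z, .w, .w, .o, .z, .v, .o, .w, .o, .v, .z]]
theorem n82 : InR N82 := inR_mul (inR_gen .a) n70 (by decide +kernel)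
/-- a product -/
def N84 : List (List GF4) := [[.z, .v, .w, .z, .w, .o, .v, .o, .v, .z, .w, .v, .o, .w], [.v, .z, .z, .o, .v, .w, .v, .o, .z, .v, .o, .o, .z, .v], [.z, .o, .o, .v, .o, .w, .z, .v, .v, .z, .o, .w, .v, .o], [.v, .w, .o, .w, .o, .w, .w, .v, .z, .z, .w, .v, .o, .w], [.w, .w, .w, .o, .v, .v, .z, .o, .z, .v, .o, .z, .z, .z], [.o, .w, .v, .w, .v, .z, .v, .w, .o, .z, .w, .w, .o, .w], [.v, .v, .z, .v, .z, .o, .v, .z, .z, .z, .v, .v, .w, .v], [.v, .o, .o, .v, .o, .w, .z, .w, .o, .o, .w, .v, .z, .w], [.v, .w, .w, .w, .o, .o, .w, .z, .z, .v, .w, .v, .w, .w], [.v, .z, .z, .z, .o, .z, .z, .w, .w, .z, .o, .o, .w, .v], [.z, .v, .v, .z, .z, .w, .o, .z, .z, .o, .z, .w, .v, .o], [.v, .z, .o, .z, .v, .o, .w, .z, .o, .w, .z, .v, .w, .v], [.v, .w, .w, .z, .o, .o, .v, .w, .w, .w, .o, .z, .v, .w], [.o, .v, .v, .z, .w, .w, .o, .z, .v, .o,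 .w, .o, .v, .z]]
theorem n84 : InR N84 := inR_mul (inR_gen .d) n70 (by decide +kernel)
/-- a product -/
def N86 : List (List GF4) := [[.w, .w, .v, .z, .o, .w, .o, .o, .w, .w, .o, .o, .z, .w], [.v, .z, .z, .o, .v, .w, .v, .o, .z, .v, .o, .o, .z, .v], [.w, .o, .o, .z, .v, .v, .w, .z, .o, .w, .v, .w, .o, .z], [.w, .o, .o, .z, .v, .v, .w, .o, .o, .o, .v, .z, .w, .o], [.w, .z, .v, .z, .w, .v, .o, .z, .v, .o, .z, .w, .o, .w], [.z, .w, .w, .z, .z, .o, .v, .z, .z, .v, .z, .o, .w, .v], [.v, .z, .z, .z, .o, .z, .z, .w, .w, .z, .o, .o, .w, .v], [.w, .o, .o, .o, .v, .v, .o, .z, .z, .w, .o, .w, .o, .o], [.v, .v, .v, .o, .o, .z, .w, .w, .v, .v, .z, .o, .w, .w], [.v, .v, .z, .v, .z, .o, .v, .z, .z, .z, .v, .v, .w, .v], [.z, .v, .w, .v, .v, .v, .z, .v, .o, .o, .v, .o, .v, .o], [.v, .o, .o, .w, .o, .z, .v, .w, .z, .w, .w, .o, .w, .v], [.v, .w, .v,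 .w, .o, .z, .w, .o, .z, .w, .w, .v, .v, .w], [.o, .w, .w, .v, .v, .z, .o, .v, .v, .o, .o, .w, .v, .z]]
theorem n86 : InR N86 := inR_mul (inR_gen .b) n82 (by decide +kernel)
/-- a product -/
def N110 : List (List GF4) := [[.o, .z, .z, .z, .z, .z, .z, .z, .z, .z, .v, .z, .z, .v], [.z, .o, .z, .z, .z, .z, .z, .z, .z, .z, .v, .v, .z, .w], [.w, .o, .o, .z, .v, .v, .w, .z, .o, .w, .v, .w, .o, .z], [.z, .z, .z, .o, .z, .z, .v, .z, .o, .z, .w, .z, .z, .o], [.o, .z, .z, .z, .w, .z, .z, .z, .v, .z, .w, .v, .z, .o], [.w, .w, .z, .z, .z, .v, .z, .z, .z, .z, .o, .w, .o, .o], [.z, .z, .z, .z, .z, .z, .v, .z, .w, .z, .z, .z, .z, .o], [.z, .z, .z, .z, .z, .z, .z, .o, .z, .v, .z, .w, .v, .o], [.z, .z, .z, .z, .z, .z, .z, .z, .o, .z, .z, .z, .z, .z], [.z, .z, .z, .z, .z, .z, .z, .z, .z, .w, .z, .z, .o, .v], [.z, .z, .z, .z, .z, .z, .z, .z, .z, .z,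 .w, .z, .z, .o], [.z, .z, .z, .z, .z, .z, .z, .z, .z, .z, .z, .v, .z, .w], [.z, .z, .z, .z, .z, .z, .z, .z, .z, .z, .z, .z, .o, .z], [.z, .z, .z, .z, .z, .z, .z, .z, .z, .z, .z, .z, .z, .o]]
theorem n110 : InR N110 := inR_mul (inR_gen .e) n50 (by decide +kernel)
/-- a product -/
def N136 : List (List GF4) := [[.z, .w, .v, .w, .v, .z, .v, .w, .o, .z, .v, .w, .w, .v], [.v, .o, .o, .v, .z, .v, .v, .v, .w, .v, .w, .z, .w, .w], [.z, .o, .o, .v, .o, .w, .z, .v, .v, .z, .o, .w, .v, .o], [.v, .v, .z, .o, .z, .z, .w, .z, .v, .z, .v, .o, .w, .v], [.v, .w, .w, .o, .z, .v, .z, .o, .v, .o, .v, .w, .v, .o], [.v, .z, .v, .w, .v, .w, .w, .w, .z, .z, .z, .v, .z, .z], [.w, .o, .v, .o, .v, .o, .w, .w, .v, .z, .o, .z, .v, .o], [.v, .z, .z, .z, .z, .z, .z, .o, .w, .o, .v, .o, .v, .v], [.z, .v, .o, .z, .z, .w, .z, .v, .z, .v, .z, .o, .v, .w], [.o, .w,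 .w, .o, .w, .v, .z, .v, .w, .z, .w, .o, .v, .v], [.v, .z, .o, .o, .z, .z, .w, .v, .v, .v, .v, .o, .z, .o], [.o, .z, .o, .v, .w, .v, .v, .z, .w, .o, .v, .v, .v, .v], [.z, .z, .o, .v, .o, .v, .v, .o, .v, .v, .w, .v, .w, .w], [.w, .v, .z, .o, .v, .w, .w, .o, .v, .w, .o, .w, .v, .z]]
theorem n136 : InR N136 := inR_mul (inR_gen .e) n76 (by decide +kernel)
/-- a product -/
def N142 : List (List GF4) := [[.w, .w, .v, .z, .o, .w, .o, .o, .w, .w, .o, .o, .z, .w], [.v, .z, .z, .o, .v, .w, .v, .o, .z, .v, .o, .o, .z, .v], [.w, .v, .v, .o, .o, .z, .w, .o, .o, .w, .w, .v, .o, .z], [.w, .o, .w, .o, .v, .z, .o, .v, .z, .o, .o, .w, .w, .o], [.v, .o, .o, .w, .o, .z, .v, .w, .z, .w, .w, .o, .w, .v], [.z, .o, .v, .o, .o, .o, .z, .o, .w, .w, .o, .w, .o, .w], [.w, .w, .z, .w, .z, .v, .w, .z, .z, .z, .w, .w, .o, .w], [.w, .w, .w, .v, .v, .z, .o, .o, .w,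 .w, .z, .v, .o, .o], [.v, .w, .w, .w, .o, .o, .w, .z, .z, .v, .w, .v, .w, .w], [.o, .z, .z, .z, .w, .z, .z, .v, .v, .z, .w, .w, .v, .o], [.z, .o, .o, .z, .z, .v, .w, .z, .z, .w, .z, .v, .o, .w], [.w, .z, .v, .z, .w, .v, .o, .z, .v, .o, .z, .w, .o, .w], [.v, .w, .w, .z, .o, .o, .v, .w, .w, .w, .o, .z, .v, .w], [.o, .v, .v, .z, .w, .w, .o, .z, .v, .o, .w, .o, .v, .z]]
theorem n142 : InR N142 := inR_mul (inR_gen .e) n82 (by decide +kernel)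
/-- a product -/
def N144 : List (List GF4) := [[.v, .v, .w, .o, .o, .v, .z, .z, .v, .v, .v, .w, .o, .o], [.v, .z, .z, .o, .v, .w, .v, .o, .z, .v, .o, .o, .z, .v], [.z, .o, .o, .v, .o, .w, .z, .v, .v, .z, .o, .w, .v, .o], [.v, .o, .o, .v, .o, .w, .z, .w, .o, .o, .w, .v, .z, .w], [.w, .v, .o, .v, .o, .z, .o, .v, .w, .z, .v, .v, .w, .v], [.o, .o, .o, .v, .w, .w, .z, .v, .z, .w, .v, .z, .z, .z], [.w, .z, .z, .z, .v, .z, .z, .o, .o, .z, .v, .v, .o, .w], [.v, .w, .o, .w, .o, .w, .w, .v, .z, .z, .w, .v, .o, .w], [.v, .w, .w, .z, .o, .o, .v, .w, .w, .w, .o, .z, .v, .w], [.o, .o, .z, .o, .z, .w, .o, .z, .z, .z, .o, .o, .v, .o], [.o, .z, .w, .z, .o, .w, .v, .z, .w, .v, .z, .o, .v, .o], [.z, .w, .w, .z, .z, .o, .v, .z, .z, .v, .z, .o, .w, .v], [.v, .w, .w, .w, .o, .o, .w, .z, .z, .v, .w, .v, .w, .w], [.o, .v, .v, .z, .w, .w, .o, .z, .v, .o,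 .w, .o, .v, .z]]
theorem n144 : InR N144 := inR_mul (inR_gen .e) n84 (by decide +kernel)
/-- a product -/
def N146 : List (List GF4) := [[.o, .w, .v, .o, .w, .z, .w, .z, .w, .o, .z, .z, .z, .o], [.v, .z, .z, .o, .v, .w, .v, .o, .z, .v, .o, .o, .z, .v], [.w, .o, .o, .z, .v, .v, .w, .z, .o, .w, .v, .w, .o, .z], [.w, .o, .o, .o, .v, .v, .o, .z, .z, .w, .o, .w, .o, .o], [.z, .v, .v, .z, .z, .w, .o, .z, .z, .o, .z, .w, .v, .o], [.o, .z, .w, .z, .o, .w, .v, .z, .w, .v, .z, .o, .v, .o], [.w, .w, .z, .w, .z, .v, .w, .z, .z, .z, .w, .w, .o, .w], [.w, .o, .o, .z, .v, .v, .w, .o, .o, .o, .v, .z, .w, .o], [.v, .w, .v, .w, .o, .z, .w, .o, .z, .w, .w, .v, .v, .w], [.o, .z, .z, .z, .w, .z, .z, .v, .v, .z, .w, .w, .v, .o], [.o, .w, .w, .v, .w, .z, .o, .v, .z, .v, .v, .w, .v, .o], [.z, .w, .o, .w, .w, .w, .z, .w, .v, .v, .w, .v, .w, .v], [.v, .v,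 .v, .o, .o, .z, .w, .w, .v, .v, .z, .o, .w, .w], [.o, .w, .w, .v, .v, .z, .o, .v, .v, .o, .o, .w, .v, .z]]
theorem n146 : InR N146 := inR_mul (inR_gen .e) n86 (by decide +kernel)
/-- a product -/
def N150 : List (List GF4) := [[.o, .o, .z, .z, .z, .z, .z, .z, .z, .z, .z, .v, .z, .o], [.z, .o, .z, .z, .z, .z, .z, .z, .z, .z, .v, .v, .z, .w], [.w, .o, .o, .z, .v, .v, .w, .z, .o, .w, .v, .w, .o, .z], [.z, .z, .z, .z, .z, .z, .z, .o, .z, .v, .z, .w, .v, .o], [.w, .w, .z, .z, .z, .v, .z, .z, .z, .z, .o, .w, .o, .o], [.o, .z, .z, .z, .w, .z, .z, .z, .v, .z, .w, .v, .z, .o], [.z, .z, .z, .z, .z, .z, .z, .z, .z, .w, .z, .z, .o, .v], [.z, .z, .z, .o, .z, .z, .v, .z, .o, .z, .w, .z, .z, .o], [.z, .z, .z, .z, .z, .z, .z, .z, .z, .z, .z, .z, .o, .z], [.z, .z, .z, .z, .z, .z, .v, .z, .w, .z, .z, .z, .z, .o], [.z, .z, .z, .z, .z, .z, .z, .z, .z,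 .z, .z, .v, .z, .w], [.z, .z, .z, .z, .z, .z, .z, .z, .z, .z, .w, .z, .z, .o], [.z, .z, .z, .z, .z, .z, .z, .z, .o, .z, .z, .z, .z, .z], [.z, .z, .z, .z, .z, .z, .z, .z, .z, .z, .z, .z, .z, .o]]
theorem n150 : InR N150 := inR_mul (inR_gen .d) n110 (by decide +kernel)
/-- a product -/
def N176 : List (List GF4) := [[.v, .v, .w, .o, .v, .v, .z, .o, .v, .v, .o, .w, .z, .o], [.v, .o, .o, .v, .z, .v, .v, .v, .w, .v, .w, .z, .w, .w], [.z, .o, .o, .v, .o, .w, .z, .v, .v, .z, .o, .w, .v, .o], [.v, .z, .z, .z, .z, .z, .z, .o, .w, .o, .v, .o, .v, .v], [.v, .z, .v, .w, .v, .w, .w, .w, .z, .z, .z, .v, .z, .z], [.v, .w, .w, .o, .z, .v, .z, .o, .v, .o, .v, .w, .v, .o], [.o, .w, .w, .o, .w, .v, .z, .v, .w, .z, .w, .o, .v, .v], [.v, .v, .z, .o, .z, .z, .w, .z, .v, .z, .v, .o, .w, .v], [.z, .z, .o, .v, .o, .v, .v, .o, .v, .v, .w, .v, .w, .w], [.w,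 .o, .v, .o, .v, .o, .w, .w, .v, .z, .o, .z, .v, .o], [.o, .z, .o, .v, .w, .v, .v, .z, .w, .o, .v, .v, .v, .v], [.v, .z, .o, .o, .z, .z, .w, .v, .v, .v, .v, .o, .z, .o], [.z, .v, .o, .z, .z, .w, .z, .v, .z, .v, .z, .o, .v, .w], [.w, .v, .z, .o, .v, .w, .w, .o, .v, .w, .o, .w, .v, .z]]
theorem n176 : InR N176 := inR_mul (inR_gen .d) n136 (by decide +kernel)
/-- a product -/
def N182 : List (List GF4) := [[.o, .w, .v, .o, .w, .z, .w, .z, .w, .o, .z, .z, .z, .o], [.v, .z, .z, .o, .v, .w, .v, .o, .z, .v, .o, .o, .z, .v], [.w, .v, .v, .o, .o, .z, .w, .o, .o, .w, .w, .v, .o, .z], [.w, .w, .w, .v, .v, .z, .o, .o, .w, .w, .z, .v, .o, .o], [.z, .o, .v, .o, .o, .o, .z, .o, .w, .w, .o, .w, .o, .w], [.v, .o, .o, .w, .o, .z, .v, .w, .z, .w, .w, .o, .w, .v], [.o, .z, .z, .z, .w, .z, .z, .v, .v, .z, .w, .w, .v, .o], [.w, .o, .w, .o, .v, .z, .o,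 .v, .z, .o, .o, .w, .w, .o], [.v, .w, .w, .z, .o, .o, .v, .w, .w, .w, .o, .z, .v, .w], [.w, .w, .z, .w, .z, .v, .w, .z, .z, .z, .w, .w, .o, .w], [.w, .z, .v, .z, .w, .v, .o, .z, .v, .o, .z, .w, .o, .w], [.z, .o, .o, .z, .z, .v, .w, .z, .z, .w, .z, .v, .o, .w], [.v, .w, .w, .w, .o, .o, .w, .z, .z, .v, .w, .v, .w, .w], [.o, .v, .v, .z, .w, .w, .o, .z, .v, .o, .w, .o, .v, .z]]
theorem n182 : InR N182 := inR_mul (inR_gen .d) n142 (by decide +kernel)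
/-- a product -/
def N184 : List (List GF4) := [[.z, .v, .w, .z, .w, .o, .v, .o, .v, .z, .w, .v, .o, .w], [.v, .z, .z, .o, .v, .w, .v, .o, .z, .v, .o, .o, .z, .v], [.z, .o, .o, .v, .o, .w, .z, .v, .v, .z, .o, .w, .v, .o], [.v, .w, .o, .w, .o, .w, .w, .v, .z, .z, .w, .v, .o, .w], [.o, .o, .o, .v, .w, .w, .z, .v, .z, .w, .v, .z, .z, .z], [.w, .v, .o, .v, .o, .z, .o, .v, .w, .z, .v, .v, .w, .v], [.o, .o, .z, .o, .z, .w, .o, .z, .z, .z, .o, .o, .v, .o], [.v, .o, .o, .v, .o, .w, .z, .w, .o, .o, .w, .v, .z, .w], [.v, .w, .w, .w, .o, .o, .w, .z, .z, .v, .w, .v, .w, .w], [.w, .z, .z, .z, .v, .z, .z, .o, .o, .z, .v, .v, .o, .w], [.z, .w, .w, .z, .z, .o, .v, .z, .z, .v, .z, .o, .w, .v], [.o, .z, .w, .z, .o, .w, .v, .z, .w, .v, .z, .o, .v, .o], [.v, .w, .w, .z, .o, .o, .v, .w, .w, .w, .o, .z, .v, .w], [.o, .v, .v, .z, .w, .w, .o, .z, .v, .o,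 .w, .o, .v, .z]]
theorem n184 : InR N184 := inR_mul (inR_gen .d) n144 (by decide +kernel)
/-- a product -/
def N186 : List (List GF4) := [[.w, .w, .v, .z, .o, .w, .o, .o, .w, .w, .o, .o, .z, .w], [.v, .z, .z, .o, .v, .w, .v, .o, .z, .v, .o, .o, .z, .v], [.w, .o, .o, .z, .v, .v, .w, .z, .o, .w, .v, .w, .o, .z], [.w, .o, .o, .z, .v, .v, .w, .o, .o, .o, .v, .z, .w, .o], [.o, .z, .w, .z, .o, .w, .v, .z, .w, .v, .z, .o, .v, .o], [.z, .v, .v, .z, .z, .w, .o, .z, .z, .o, .z, .w, .v, .o], [.o, .z, .z, .z, .w, .z, .z, .v, .v, .z, .w, .w, .v, .o], [.w, .o, .o, .o, .v, .v, .o, .z, .z, .w, .o, .w, .o, .o], [.v, .v, .v, .o, .o, .z, .w, .w, .v, .v, .z, .o, .w, .w], [.w, .w, .z, .w, .z, .v, .w, .z, .z, .z, .w, .w, .o, .w], [.z, .w, .o, .w, .w, .w, .z, .w, .v, .v, .w, .v, .w, .v], [.o, .w, .w, .v, .w, .z, .o, .v, .z, .v, .v, .w, .v, .o], [.v, .w,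 .v, .w, .o, .z, .w, .o, .z, .w, .w, .v, .v, .w], [.o, .w, .w, .v, .v, .z, .o, .v, .v, .o, .o, .w, .v, .z]]
theorem n186 : InR N186 := inR_mul (inR_gen .d) n146 (by decide +kernel)
/-- a product -/
def N216 : List (List GF4) := [[.v, .v, .z, .o, .v, .z, .w, .z, .v, .o, .o, .v, .v, .v], [.v, .v, .w, .z, .o, .v, .o, .v, .v, .v, .o, .z, .w, .v], [.v, .v, .z, .w, .z, .z, .v, .z, .w, .z, .o, .o, .o, .o], [.w, .w, .z, .o, .z, .z, .w, .z, .w, .z, .v, .v, .v, .w], [.w, .w, .z, .o, .z, .z, .z, .z, .v, .z, .v, .z, .v, .o], [.v, .o, .z, .v, .o, .z, .o, .z, .w, .w, .v, .o, .o, .w], [.v, .w, .z, .o, .v, .z, .w, .z, .v, .o, .w, .o, .o, .w], [.z, .w, .v, .v, .v, .o, .w, .o, .z, .v, .o, .z, .w, .v], [.o, .w, .o, .z, .v, .w, .w, .w, .o, .w, .o, .w, .z, .w], [.o, .z, .w, .v, .w, .z, .z, .v, .w, .w, .v, .z, .z, .z], [.w, .o, .o, .o, .v, .z, .z, .w,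 .v, .w, .o, .z, .w, .v], [.o, .v, .o, .z, .v, .w, .z, .w, .z, .o, .w, .v, .v, .o], [.o, .o, .o, .v, .w, .v, .o, .z, .w, .w, .v, .z, .o, .w], [.w, .v, .z, .o, .v, .w, .w, .o, .v, .w, .o, .w, .v, .z]]
theorem n216 : InR N216 := inR_mul (inR_gen .c) n176 (by decide +kernel)
/-- a product -/
def N222 : List (List GF4) := [[.w, .o, .v, .z, .w, .o, .o, .z, .v, .o, .z, .v, .w, .w], [.o, .w, .o, .z, .o, .z, .w, .z, .w, .w, .v, .z, .z, .w], [.w, .w, .z, .w, .w, .w, .z, .w, .w, .w, .w, .w, .z, .w], [.z, .w, .v, .z, .w, .z, .o, .o, .v, .v, .o, .w, .v, .z], [.z, .v, .o, .z, .w, .z, .w, .v, .v, .z, .o, .o, .w, .w], [.v, .z, .w, .v, .w, .v, .o, .z, .z, .v, .o, .o, .o, .w], [.w, .o, .o, .z, .v, .v, .w, .o, .o, .v, .v, .z, .v, .w], [.w, .v, .v, .w, .v, .w, .w, .z, .o, .o, .z, .v, .v, .w], [.z, .z, .z, .z, .z, .z, .z, .w, .z, .o, .z, .v, .o, .w],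 [.w, .o, .o, .o, .v, .v, .w, .z, .w, .w, .o, .w, .o, .z], [.z, .o, .w, .z, .o, .z, .v, .z, .w, .v, .v, .z, .z, .w], [.o, .w, .w, .z, .w, .o, .v, .z, .v, .v, .w, .w, .w, .w], [.z, .z, .z, .w, .z, .z, .o, .z, .w, .z, .v, .z, .z, .w], [.o, .v, .v, .z, .w, .w, .o, .z, .v, .o, .w, .o, .v, .z]]
theorem n222 : InR N222 := inR_mul (inR_gen .c) n182 (by decide +kernel)
/-- a product -/
def N224 : List (List GF4) := [[.o, .w, .v, .z, .z, .w, .o, .z, .z, .o, .z, .o, .v, .z], [.o, .w, .o, .z, .o, .z, .w, .z, .w, .w, .v, .z, .z, .w], [.v, .v, .z, .w, .o, .v, .z, .w, .v, .w, .w, .o, .w, .o], [.w, .v, .v, .o, .v, .w, .z, .z, .w, .o, .o, .v, .v, .o], [.w, .o, .w, .o, .w, .w, .z, .z, .w, .v, .v, .v, .v, .w], [.z, .v, .o, .z, .z, .z, .w, .w, .z, .v, .z, .v, .o, .v], [.o, .v, .v, .v, .w, .w, .o, .z, .o, .o, .v, .o, .v, .z], [.z, .w, .v, .z, .w, .z,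 .o, .w, .v, .o, .o, .v, .o, .v], [.z, .z, .z, .w, .z, .z, .o, .z, .w, .z, .v, .z, .z, .w], [.v, .w, .w, .z, .o, .o, .v, .w, .w, .o, .o, .z, .o, .v], [.w, .v, .v, .z, .v, .w, .o, .z, .o, .o, .v, .v, .v, .v], [.z, .v, .o, .z, .v, .z, .w, .z, .o, .w, .w, .z, .z, .o], [.z, .z, .z, .z, .z, .z, .z, .w, .z, .o, .z, .v, .o, .w], [.o, .v, .v, .z, .w, .w, .o, .z, .v, .o, .w, .o, .v, .z]]
theorem n224 : InR N224 := inR_mul (inR_gen .c) n184 (by decide +kernel)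
/-- a product -/
def N226 : List (List GF4) := [[.v, .z, .o, .o, .w, .z, .v, .w, .v, .v, .o, .o, .w, .z], [.o, .w, .w, .z, .w, .z, .o, .z, .o, .w, .v, .z, .z, .w], [.w, .w, .z, .w, .w, .w, .z, .w, .w, .w, .w, .w, .z, .w], [.w, .z, .v, .w, .z, .w, .o, .v, .o, .o, .v, .z, .v, .w], [.o, .w, .o, .o, .v, .o, .w, .w, .w, .o, .z, .z, .w, .v], [.z, .v, .w, .z, .o, .z, .o, .v, .v, .z, .w, .w, .o, .o], [.o, .w, .w, .v, .w, .z, .o, .v, .z, .o, .z, .w, .v, .z], [.z, .o, .v, .z, .o, .z, .w, .w, .v, .v, .w, .o, .v, .z], [.z, .w, .w, .v, .v, .z, .o, .z, .o, .z, .v, .z, .z, .w], [.v, .z, .w, .z, .v, .w, .o, .v, .w, .o, .z, .o, .o, .v], [.w, .o, .w, .v, .v, .w, .w, .v, .w, .o, .z, .z, .v, .v], [.z, .z, .z, .z, .o, .z, .z, .z, .v, .w, .w, .z, .z, .o], [.z, .v, .w, .z, .v, .z, .o, .v, .w, .o, .o, .w, .o, .w], [.o, .w, .w, .v, .v, .z, .o, .v, .v, .o,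 .o, .w, .v, .z]]
theorem n226 : InR N226 := inR_mul (inR_gen .c) n186 (by decide +kernel)
/-- a product -/
def N268 : List (List GF4) := [[.z, .z, .w, .o, .w, .v, .v, .v, .z, .w, .z, .v, .o, .z], [.v, .v, .w, .z, .o, .v, .o, .v, .v, .v, .o, .z, .w, .v], [.v, .o, .z, .w, .o, .v, .v, .w, .o, .v, .w, .v, .o, .z], [.v, .o, .v, .z, .w, .o, .o, .o, .v, .o, .v, .o, .z, .o], [.o, .v, .v, .v, .w, .z, .z, .o, .w, .o, .v, .z, .o, .w], [.v, .w, .v, .z, .w, .o, .z, .o, .z, .v, .o, .w, .w, .v], [.v, .w, .z, .o, .v, .z, .w, .z, .v, .o, .w, .o, .o, .w], [.v, .v, .v, .w, .o, .w, .v, .z, .o, .o, .w, .z, .v, .o], [.v, .v, .z, .w, .z, .z, .v, .z, .v, .z, .o, .o, .o, .v], [.o, .z, .w, .v, .w, .z, .z, .v, .w, .w, .v, .z, .z, .z], [.v, .v, .z, .w, .z, .z, .z, .z, .o, .z, .o, .z, .o, .w], [.o, .w, .z, .o, .w, .z, .w, .z, .v, .v, .o, .w, .w, .v], [.z, .v,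 .o, .o, .o, .w, .v, .w, .z, .o, .w, .z, .v, .o], [.w, .w, .z, .o, .z, .z, .w, .z, .o, .z, .v, .v, .v, .v]]
theorem n268 : InR N268 := inR_mul (inR_gen .b) n216 (by decide +kernel)
/-- a product -/
def N280 : List (List GF4) := [[.v, .v, .w, .z, .v, .o, .v, .z, .o, .v, .v, .v, .w, .z], [.o, .w, .o, .z, .o, .z, .w, .z, .w, .w, .v, .z, .z, .w], [.w, .o, .o, .z, .v, .v, .w, .z, .o, .w, .v, .w, .o, .z], [.z, .z, .z, .z, .z, .z, .z, .o, .z, .v, .z, .w, .v, .o], [.z, .v, .o, .z, .v, .z, .w, .z, .o, .w, .w, .z, .z, .o], [.v, .o, .o, .z, .o, .v, .w, .z, .w, .w, .o, .o, .o, .o], [.w, .o, .o, .z, .v, .v, .w, .o, .o, .v, .v, .z, .v, .w], [.z, .z, .z, .o, .z, .z, .v, .z, .o, .z, .w, .z, .z, .o], [.z, .v, .o, .z, .v, .z, .w, .w, .o, .o, .w, .v, .o, .z], [.w, .o, .o, .o, .v, .v, .w, .z, .w, .w, .o, .w, .o, .z], [.z, .o, .w, .z, .v, .z, .v, .o,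 .o, .z, .w, .w, .v, .v], [.o, .z, .v, .o, .v, .o, .w, .z, .z, .o, .w, .w, .w, .v], [.v, .o, .o, .v, .o, .v, .v, .z, .w, .w, .z, .o, .o, .v], [.o, .o, .z, .o, .o, .o, .z, .o, .o, .o, .o, .o, .z, .o]]
theorem n280 : InR N280 := inR_mul (inR_gen .b) n222 (by decide +kernel)
/-- a product -/
def N284 : List (List GF4) := [[.z, .z, .w, .z, .o, .w, .v, .z, .w, .v, .v, .o, .v, .w], [.o, .w, .o, .z, .o, .z, .w, .z, .w, .w, .v, .z, .z, .w], [.w, .o, .o, .z, .v, .v, .w, .z, .o, .w, .v, .w, .o, .z], [.z, .z, .z, .o, .z, .z, .v, .z, .o, .z, .w, .z, .z, .o], [.o, .w, .w, .z, .w, .o, .v, .z, .v, .v, .w, .w, .w, .w], [.z, .w, .v, .z, .w, .z, .o, .z, .v, .o, .o, .z, .z, .v], [.o, .v, .v, .v, .w, .w, .o, .z, .o, .o, .v, .o, .v, .z], [.z, .z, .z, .z, .z, .z, .z, .o, .z, .v, .z, .w, .v, .o], [.v, .o, .o, .w, .o, .v, .z, .z, .v, .w, .w, .o, .o, .w],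 [.v, .w, .w, .z, .o, .o, .v, .w, .w, .o, .o, .z, .o, .v], [.v, .w, .v, .w, .v, .v, .z, .z, .v, .o, .o, .o, .o, .v], [.z, .o, .w, .z, .z, .z, .v, .v, .z, .o, .z, .o, .w, .o], [.z, .v, .o, .z, .v, .z, .w, .v, .o, .w, .w, .o, .w, .o], [.w, .w, .z, .o, .v, .w, .z, .o, .w, .o, .o, .v, .o, .v]]
theorem n284 : InR N284 := inR_mul (inR_gen .b) n224 (by decide +kernel)
/-- a product -/
def N288 : List (List GF4) := [[.w, .w, .v, .o, .z, .z, .w, .w, .w, .o, .w, .o, .w, .w], [.o, .w, .w, .z, .w, .z, .o, .z, .o, .w, .v, .z, .z, .w], [.w, .v, .v, .o, .o, .z, .w, .o, .o, .w, .w, .v, .o, .z], [.z, .o, .o, .w, .w, .z, .v, .z, .v, .z, .w, .z, .z, .o], [.o, .v, .o, .w, .w, .o, .o, .w, .o, .v, .z, .z, .w, .w], [.z, .z, .z, .z, .v, .z, .z, .z, .w, .o, .o, .z, .z, .v], [.o, .w, .w, .v, .w, .z, .o, .v, .z, .o, .z, .w, .v, .z], [.z, .w, .o, .z, .w, .z,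 .v, .w, .o, .v, .v, .o, .v, .o], [.v, .z, .o, .v, .z, .v, .w, .o, .w, .w, .o, .z, .o, .v], [.v, .z, .w, .z, .v, .w, .o, .v, .w, .o, .z, .o, .o, .v], [.w, .v, .w, .w, .o, .w, .v, .v, .v, .w, .z, .z, .v, .o], [.z, .o, .v, .z, .w, .z, .w, .o, .o, .z, .v, .v, .w, .w], [.z, .w, .o, .z, .w, .z, .v, .v, .o, .o, .v, .w, .o, .z], [.o, .o, .z, .o, .o, .o, .z, .o, .o, .o, .o, .o, .z, .o]]
theorem n288 : InR N288 := inR_mul (inR_gen .b) n226 (by decide +kernel)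
/-- a product -/
def N338 : List (List GF4) := [[.v, .v, .w, .v, .w, .v, .z, .v, .w, .w, .o, .w, .z, .o], [.v, .v, .w, .z, .o, .v, .o, .v, .v, .v, .o, .z, .w, .v], [.v, .o, .v, .o, .v, .w, .z, .v, .v, .w, .w, .o, .z, .v], [.w, .z, .v, .v, .w, .o, .z, .o, .w, .o, .o, .v, .w, .z], [.z, .w, .v, .z, .w, .z, .z, .o, .z, .o, .o, .z, .v, .o], [.o, .o, .v, .w, .o, .o, .v, .o, .o, .w, .v, .o, .o, .w], [.v, .w, .z, .o, .v, .z, .w, .z, .v, .o, .w, .o, .o, .w], [.v, .w, .o, .z, .v, .o, .w, .v, .o, .v, .o, .z, .w, .v], [.v, .v, .z, .w, .z, .z, .v, .z, .v, .z, .o, .o, .o, .v], [.o, .z, .w, .v, .w, .z, .z, .v, .w, .w, .v, .z, .z, .z], [.v, .v, .z, .w, .z, .z, .z, .z, .o, .z, .o, .z, .o, .w], [.o, .w, .z, .o, .w, .z, .w, .z, .v, .v, .o, .w, .w, .v], [.z, .v, .o, .o, .o, .w, .v, .w, .z, .o, .w, .z, .v, .o], [.w, .w, .z, .o, .z, .z, .w, .z, .o, .z,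 .v, .v, .v, .v]]
theorem n338 : InR N338 := inR_mul (inR_gen .a) n268 (by decide +kernel)
/-- a product -/
def N356 : List (List GF4) := [[.w, .o, .v, .z, .w, .o, .o, .z, .v, .o, .z, .v, .w, .w], [.o, .w, .o, .z, .o, .z, .w, .z, .w, .w, .v, .z, .z, .w], [.w, .o, .o, .z, .v, .v, .w, .z, .o, .w, .v, .w, .o, .z], [.z, .z, .z, .o, .z, .z, .v, .z, .o, .z, .w, .z, .z, .o], [.v, .o, .o, .z, .o, .v, .w, .z, .w, .w, .o, .o, .o, .o], [.z, .v, .o, .z, .v, .z, .w, .z, .o, .w, .w, .z, .z, .o], [.w, .o, .o, .o, .v, .v, .w, .z, .w, .w, .o, .w, .o, .z], [.z, .z, .z, .z, .z, .z, .z, .o, .z, .v, .z, .w, .v, .o], [.v, .o, .o, .v, .o, .v, .v, .z, .w, .w, .z, .o, .o, .v], [.w, .o, .o, .z, .v, .v, .w, .o, .o, .v, .v, .z, .v, .w], [.o, .z, .v, .o, .v, .o, .w, .z, .z, .o, .w, .w, .w, .v], [.z, .o, .w, .z, .v, .z, .v, .o, .o, .z, .w, .w, .v, .v], [.z, .v,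 .o, .z, .v, .z, .w, .w, .o, .o, .w, .v, .o, .z], [.o, .o, .z, .o, .o, .o, .z, .o, .o, .o, .o, .o, .z, .o]]
theorem n356 : InR N356 := inR_mul (inR_gen .d) n280 (by decide +kernel)
/-- a product -/
def N360 : List (List GF4) := [[.v, .v, .w, .w, .z, .o, .v, .w, .o, .o, .o, .z, .o, .v], [.o, .w, .o, .z, .o, .z, .w, .z, .w, .w, .v, .z, .z, .w], [.o, .v, .v, .v, .v, .w, .o, .v, .v, .w, .o, .z, .w, .o], [.o, .w, .w, .w, .w, .o, .v, .z, .z, .v, .o, .w, .w, .w], [.z, .o, .v, .v, .v, .z, .v, .z, .w, .o, .z, .z, .z, .v], [.z, .z, .z, .z, .w, .z, .z, .o, .v, .v, .o, .w, .v, .o], [.o, .v, .v, .v, .w, .w, .o, .z, .o, .o, .v, .o, .v, .z], [.z, .o, .w, .z, .o, .z, .v, .z, .w, .z, .v, .z, .z, .v], [.v, .o, .o, .w, .o, .v, .z, .z, .v, .w, .w, .o, .o, .w], [.v, .w, .w, .z, .o, .o, .v, .w, .w, .o, .o, .z, .o, .v], [.v, .w, .v, .w, .v, .v, .z, .z,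 .v, .o, .o, .o, .o, .v], [.z, .o, .w, .z, .z, .z, .v, .v, .z, .o, .z, .o, .w, .o], [.z, .v, .o, .z, .v, .z, .w, .v, .o, .w, .w, .o, .w, .o], [.w, .w, .z, .o, .v, .w, .z, .o, .w, .o, .o, .v, .o, .v]]
theorem n360 : InR N360 := inR_mul (inR_gen .a) n284 (by decide +kernel)
/-- a product -/
def N366 : List (List GF4) := [[.z, .z, .v, .v, .w, .w, .w, .z, .z, .v, .z, .v, .w, .z], [.o, .w, .w, .z, .w, .z, .o, .z, .o, .w, .v, .z, .z, .w], [.v, .v, .z, .w, .o, .v, .z, .w, .z, .w, .z, .z, .o, .z], [.o, .o, .v, .v, .w, .o, .z, .w, .z, .v, .z, .z, .w, .z], [.w, .w, .w, .o, .z, .w, .z, .v, .z, .z, .z, .z, .v, .z], [.z, .w, .o, .z, .z, .z, .v, .w, .z, .o, .z, .o, .v, .z], [.o, .w, .w, .v, .w, .z, .o, .v, .z, .o, .z, .w, .v, .z], [.z, .o, .v, .z, .o, .z, .w, .v, .v, .o, .w, .w, .o, .o], [.v, .z, .o, .v, .z, .v, .w, .o, .w, .w, .o, .z, .o, .v],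 [.v, .z, .w, .z, .v, .w, .o, .v, .w, .o, .z, .o, .o, .v], [.w, .v, .w, .w, .o, .w, .v, .v, .v, .w, .z, .z, .v, .o], [.z, .o, .v, .z, .w, .z, .w, .o, .o, .z, .v, .v, .w, .w], [.z, .w, .o, .z, .w, .z, .v, .v, .o, .o, .v, .w, .o, .z], [.o, .o, .z, .o, .o, .o, .z, .o, .o, .o, .o, .o, .z, .o]]
theorem n366 : InR N366 := inR_mul (inR_gen .a) n288 (by decide +kernel)
/-- a product -/
def N426 : List (List GF4) := [[.z, .z, .z, .v, .v, .z, .o, .z, .o, .o, .z, .w, .w, .w], [.v, .v, .w, .z, .o, .v, .o, .v, .v, .v, .o, .z, .w, .v], [.v, .v, .z, .w, .z, .z, .v, .z, .w, .z, .o, .o, .o, .o], [.w, .w, .z, .o, .z, .z, .w, .z, .w, .z, .v, .v, .v, .w], [.w, .w, .z, .o, .z, .z, .z, .z, .v, .z, .v, .z, .v, .o], [.v, .o, .z, .v, .o, .z, .o, .z, .w, .w, .v, .o, .o, .w], [.v, .w, .z, .o, .v, .z, .w, .z, .v, .o, .w, .o, .o, .w], [.z, .w, .v, .v, .v, .o,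 .w, .o, .z, .v, .o, .z, .w, .v], [.v, .z, .o, .o, .v, .w, .z, .w, .v, .w, .w, .o, .v, .z], [.o, .z, .w, .v, .w, .z, .z, .v, .w, .w, .v, .z, .z, .z], [.z, .v, .o, .z, .v, .z, .z, .w, .z, .w, .w, .z, .o, .w], [.w, .w, .o, .v, .w, .w, .o, .w, .w, .v, .o, .w, .w, .v], [.o, .v, .w, .z, .o, .w, .v, .o, .w, .o, .w, .z, .v, .o], [.w, .v, .w, .v, .w, .o, .z, .w, .w, .o, .o, .v, .z, .w]]
theorem n426 : InR N426 := inR_mul (inR_gen .b) n338 (by decide +kernel)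
/-- a product -/
def N452 : List (List GF4) := [[.z, .z, .v, .w, .z, .v, .w, .w, .v, .z, .z, .z, .v, .w], [.w, .o, .o, .v, .w, .v, .w, .v, .w, .o, .v, .z, .v, .w], [.w, .z, .o, .v, .z, .z, .z, .v, .o, .z, .z, .z, .z, .z], [.v, .v, .z, .o, .z, .z, .z, .z, .w, .z, .z, .z, .w, .o], [.w, .z, .o, .v, .w, .z, .z, .v, .o, .o, .v, .z, .z, .z], [.w, .z, .o, .v, .z, .v, .w, .v, .o, .z, .z, .z, .z, .z], [.o, .v, .o, .w, .z, .z, .v, .v, .v, .z, .z, .w, .w, .o], [.v, .z, .z, .z, .z, .z, .z, .o, .w, .z, .z, .z, .z, .z], [.z, .w, .o, .z, .w, .z, .v, .v, .o, .o, .v, .w, .o, .z], [.o, .z, .o, .v, .z, .z, .z, .w, .v, .w, .o, .z, .z, .z], [.v, .w, .v, .v, .o, .v, .w, .w, .w, .v, .z, .z, .w, .o], [.o, .z, .w, .o, .w, .o, .v, .z, .z, .o, .v, .v, .v, .w], [.v, .z, .o, .v, .z, .v, .w, .o, .w, .w, .o, .z, .o, .v], [.o, .o, .z, .o, .o, .o, .z, .o, .o, .o,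 .o, .o, .z, .o]]
theorem n452 : InR N452 := inR_mul (inR_gen .c) n356 (by decide +kernel)
/-- a product -/
def N458 : List (List GF4) := [[.w, .o, .v, .w, .o, .o, .o, .w, .v, .v, .w, .z, .o, .o], [.o, .w, .o, .z, .o, .z, .w, .z, .w, .w, .v, .z, .z, .w], [.o, .v, .v, .v, .v, .w, .o, .v, .v, .w, .o, .z, .w, .o], [.z, .o, .w, .z, .o, .z, .v, .z, .w, .z, .v, .z, .z, .v], [.z, .z, .z, .z, .w, .z, .z, .o, .v, .v, .o, .w, .v, .o], [.z, .o, .v, .v, .v, .z, .v, .z, .w, .o, .z, .z, .z, .v], [.v, .w, .w, .z, .o, .o, .v, .w, .w, .o, .o, .z, .o, .v], [.o, .w, .w, .w, .w, .o, .v, .z, .z, .v, .o, .w, .w, .w], [.z, .v, .o, .z, .v, .z, .w, .v, .o, .w, .w, .o, .w, .o], [.o, .v, .v, .v, .w, .w, .o, .z, .o, .o, .v, .o, .v, .z], [.z, .o, .w, .z, .z, .z, .v, .v, .z, .o, .z, .o, .w, .o], [.v, .w, .v, .w, .v, .v, .z, .z, .v, .o, .o, .o, .o, .v], [.v, .o,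 .o, .w, .o, .v, .z, .z, .v, .w, .w, .o, .o, .w], [.w, .w, .z, .o, .v, .w, .z, .o, .w, .o, .o, .v, .o, .v]]
theorem n458 : InR N458 := inR_mul (inR_gen .d) n360 (by decide +kernel)
/-- a product -/
def N466 : List (List GF4) := [[.o, .w, .o, .v, .z, .w, .v, .z, .o, .o, .v, .v, .w, .w], [.o, .w, .w, .z, .w, .z, .o, .z, .o, .w, .v, .z, .z, .w], [.v, .v, .z, .w, .o, .v, .z, .w, .z, .w, .z, .z, .o, .z], [.z, .o, .v, .z, .o, .z, .w, .v, .v, .o, .w, .w, .o, .o], [.z, .w, .o, .z, .z, .z, .v, .w, .z, .o, .z, .o, .v, .z], [.w, .w, .w, .o, .z, .w, .z, .v, .z, .z, .z, .z, .v, .z], [.v, .z, .w, .z, .v, .w, .o, .v, .w, .o, .z, .o, .o, .v], [.o, .o, .v, .v, .w, .o, .z, .w, .z, .v, .z, .z, .w, .z], [.z, .w, .o, .z, .w, .z, .v, .v, .o, .o, .v, .w, .o, .z], [.o, .w, .w, .v, .w, .z, .o, .v, .z, .o, .z, .w, .v, .z], [.z, .o, .v, .z, .w, .z, .w, .o,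 .o, .z, .v, .v, .w, .w], [.w, .v, .w, .w, .o, .w, .v, .v, .v, .w, .z, .z, .v, .o], [.v, .z, .o, .v, .z, .v, .w, .o, .w, .w, .o, .z, .o, .v], [.o, .o, .z, .o, .o, .o, .z, .o, .o, .o, .o, .o, .z, .o]]
theorem n466 : InR N466 := inR_mul (inR_gen .d) n366 (by decide +kernel)
/-- a product -/
def N534 : List (List GF4) := [[.v, .o, .v, .w, .z, .w, .o, .v, .w, .v, .w, .v, .w, .o], [.v, .v, .w, .z, .o, .v, .o, .v, .v, .v, .o, .z, .w, .v], [.v, .z, .w, .z, .v, .w, .o, .z, .w, .w, .z, .v, .w, .o], [.v, .w, .w, .v, .o, .v, .w, .v, .v, .v, .z, .o, .w, .w], [.w, .v, .w, .o, .o, .z, .z, .v, .v, .v, .z, .z, .o, .w], [.z, .w, .w, .w, .w, .v, .v, .v, .o, .v, .o, .w, .w, .v], [.v, .w, .z, .o, .v, .z, .w, .z, .v, .o, .w, .o, .o, .w], [.w, .v, .z, .v, .o, .w, .v, .v, .v, .o, .w, .z, .v, .o], [.v, .z, .o, .o, .v, .w, .z, .w, .v, .w, .w, .o, .v, .z],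 [.o, .z, .w, .v, .w, .z, .z, .v, .w, .w, .v, .z, .z, .z], [.z, .v, .o, .z, .v, .z, .z, .w, .z, .w, .w, .z, .o, .w], [.w, .w, .o, .v, .w, .w, .o, .w, .w, .v, .o, .w, .w, .v], [.o, .v, .w, .z, .o, .w, .v, .o, .w, .o, .w, .z, .v, .o], [.w, .v, .w, .v, .w, .o, .z, .w, .w, .o, .o, .v, .z, .w]]
theorem n534 : InR N534 := inR_mul (inR_gen .a) n426 (by decide +kernel)
/-- a product -/
def N554 : List (List GF4) := [[.w, .o, .w, .o, .w, .z, .z, .o, .o, .o, .v, .z, .z, .z], [.w, .o, .o, .v, .w, .v, .w, .v, .w, .o, .v, .z, .v, .w], [.w, .z, .o, .v, .z, .z, .z, .v, .o, .z, .z, .z, .z, .z], [.v, .z, .z, .z, .z, .z, .z, .o, .w, .z, .z, .z, .z, .z], [.w, .z, .o, .v, .z, .v, .w, .v, .o, .z, .z, .z, .z, .z], [.w, .z, .o, .v, .w, .z, .z, .v, .o, .o, .v, .z, .z, .z], [.o, .z, .o, .v, .z, .z, .z, .w, .v, .w, .o, .z, .z, .z], [.v, .v, .z, .o, .z, .z,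 .z, .z, .w, .z, .z, .z, .w, .o], [.v, .z, .o, .v, .z, .v, .w, .o, .w, .w, .o, .z, .o, .v], [.o, .v, .o, .w, .z, .z, .v, .v, .v, .z, .z, .w, .w, .o], [.o, .z, .w, .o, .w, .o, .v, .z, .z, .o, .v, .v, .v, .w], [.v, .w, .v, .v, .o, .v, .w, .w, .w, .v, .z, .z, .w, .o], [.z, .w, .o, .z, .w, .z, .v, .v, .o, .o, .v, .w, .o, .z], [.o, .o, .z, .o, .o, .o, .z, .o, .o, .o, .o, .o, .z, .o]]
theorem n554 : InR N554 := inR_mul (inR_gen .d) n452 (by decide +kernel)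
/-- a product -/
def N558 : List (List GF4) := [[.o, .w, .w, .z, .z, .w, .w, .w, .z, .z, .z, .z, .v, .v], [.w, .o, .w, .w, .o, .v, .z, .o, .w, .o, .o, .v, .w, .z], [.z, .v, .v, .z, .z, .z, .z, .v, .z, .z, .z, .z, .v, .v], [.w, .v, .o, .w, .z, .z, .z, .o, .w, .z, .z, .z, .v, .v], [.v, .z, .v, .v, .w, .z, .z, .v, .v, .w, .w, .z, .z, .z], [.o, .z, .o, .o, .z, .w, .z, .o, .o, .z, .z, .w, .z, .z], [.o, .z, .o, .o, .z, .v, .o, .o, .o, .z, .z, .w, .z, .z], [.w, .z, .w, .w, .o, .v, .z, .z, .w, .o, .o, .v, .w, .z], [.o, .w, .o, .v, .o, .o, .w, .z, .z, .o, .o, .v, .o, .v], [.z, .w, .z, .z, .z, .v, .v, .w, .z, .o, .z, .z, .z, .z], [.v, .w, .w, .w, .o, .v, .v, .o, .v, .v, .w, .z, .z, .z], [.o, .z, .v, .v, .z, .o, .z, .o, .o, .z, .z, .w, .z, .z], [.w, .z, .o, .o, .v, .w, .z, .v, .w, .o, .o, .v, .w, .z], [.w, .w, .z, .o, .v, .w, .z, .o, .w, .o,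 .o, .v, .o, .v]]
theorem n558 : InR N558 := inR_mul (inR_gen .c) n458 (by decide +kernel)
/-- a product -/
def N564 : List (List GF4) := [[.z, .z, .o, .w, .o, .v, .z, .o, .w, .v, .z, .v, .v, .o], [.z, .v, .w, .o, .v, .o, .o, .o, .v, .v, .o, .w, .v, .z], [.o, .w, .v, .v, .v, .w, .o, .v, .w, .w, .z, .v, .v, .o], [.z, .o, .o, .v, .o, .v, .v, .o, .z, .v, .v, .z, .v, .v], [.w, .z, .z, .z, .v, .z, .z, .z, .v, .v, .o, .o, .w, .z], [.v, .w, .o, .o, .o, .w, .v, .o, .w, .v, .o, .o, .v, .z], [.w, .z, .w, .o, .w, .v, .z, .w, .o, .o, .v, .v, .w, .z], [.z, .v, .o, .o, .o, .v, .w, .v, .o, .o, .w, .v, .o, .z], [.v, .o, .o, .v, .o, .v, .v, .z, .w, .w, .z, .o, .o, .v], [.z, .o, .w, .w, .v, .o, .v, .w, .z, .w, .z, .z, .z, .z], [.w, .v, .v, .w, .z, .w, .w, .v, .v, .w, .o, .o, .w, .z], [.v, .w, .w, .v, .z, .v, .v, .w, .w, .v, .o, .o, .v, .z], [.z, .v,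 .o, .z, .v, .z, .w, .w, .o, .o, .w, .v, .o, .z], [.o, .o, .z, .o, .o, .o, .z, .o, .o, .o, .o, .o, .z, .o]]
theorem n564 : InR N564 := inR_mul (inR_gen .c) n466 (by decide +kernel)
/-- a product -/
def N588 : List (List GF4) := [[.z, .w, .o, .w, .o, .o, .z, .z, .o, .z, .v, .v, .z, .w], [.v, .v, .w, .z, .o, .v, .o, .v, .v, .v, .o, .z, .w, .v], [.v, .z, .w, .z, .v, .w, .o, .z, .w, .w, .z, .v, .w, .o], [.w, .v, .z, .v, .o, .w, .v, .v, .v, .o, .w, .z, .v, .o], [.z, .w, .w, .w, .w, .v, .v, .v, .o, .v, .o, .w, .w, .v], [.w, .v, .w, .o, .o, .z, .z, .v, .v, .v, .z, .z, .o, .w], [.o, .z, .w, .v, .w, .z, .z, .v, .w, .w, .v, .z, .z, .z], [.v, .w, .w, .v, .o, .v, .w, .v, .v, .v, .z, .o, .w, .w], [.o, .v, .w, .z, .o, .w, .v, .o, .w, .o, .w, .z, .v, .o], [.v, .w, .z, .o, .v, .z, .w, .z, .v, .o, .w, .o, .o, .w], [.w, .w, .o, .v, .w, .w, .o, .w,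 .w, .v, .o, .w, .w, .v], [.z, .v, .o, .z, .v, .z, .z, .w, .z, .w, .w, .z, .o, .w], [.v, .z, .o, .o, .v, .w, .z, .w, .v, .w, .w, .o, .v, .z], [.w, .v, .w, .v, .w, .o, .z, .w, .w, .o, .o, .v, .z, .w]]
theorem n588 : InR N588 := inR_mul (inR_gen .d) n534 (by decide +kernel)
/-- a product -/
def N598 : List (List GF4) := [[.z, .v, .v, .v, .w, .w, .o, .z, .o, .z, .o, .o, .z, .o], [.z, .v, .w, .o, .v, .o, .o, .o, .v, .v, .o, .w, .v, .z], [.o, .w, .v, .v, .v, .w, .o, .v, .w, .w, .z, .v, .v, .o], [.z, .v, .o, .o, .o, .v, .w, .v, .o, .o, .w, .v, .o, .z], [.v, .w, .o, .o, .o, .w, .v, .o, .w, .v, .o, .o, .v, .z], [.w, .z, .z, .z, .v, .z, .z, .z, .v, .v, .o, .o, .w, .z], [.z, .o, .w, .w, .v, .o, .v, .w, .z, .w, .z, .z, .z, .z], [.z, .o, .o, .v, .o, .v, .v, .o, .z, .v, .v, .z, .v, .v], [.z, .v, .o, .z, .v, .z, .w, .w, .o, .o, .w, .v, .o, .z],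 [.w, .z, .w, .o, .w, .v, .z, .w, .o, .o, .v, .v, .w, .z], [.v, .w, .w, .v, .z, .v, .v, .w, .w, .v, .o, .o, .v, .z], [.w, .v, .v, .w, .z, .w, .w, .v, .v, .w, .o, .o, .w, .z], [.v, .o, .o, .v, .o, .v, .v, .z, .w, .w, .z, .o, .o, .v], [.o, .o, .z, .o, .o, .o, .z, .o, .o, .o, .o, .o, .z, .o]]
theorem n598 : InR N598 := inR_mul (inR_gen .c) n554 (by decide +kernel)
/-- a product -/
def N600 : List (List GF4) := [[.v, .v, .z, .w, .o, .o, .w, .v, .w, .o, .o, .v, .o, .v], [.w, .o, .w, .w, .o, .v, .z, .o, .w, .o, .o, .v, .w, .z], [.v, .v, .z, .w, .o, .v, .z, .w, .v, .w, .w, .o, .w, .o], [.v, .o, .v, .w, .v, .v, .o, .z, .z, .v, .v, .w, .v, .w], [.w, .o, .o, .o, .v, .w, .w, .v, .w, .w, .o, .z, .z, .z], [.v, .z, .w, .w, .z, .v, .z, .v, .v, .z, .z, .o, .z, .z], [.o, .z, .o, .o, .z, .v, .o, .o, .o, .z, .z, .w, .z, .z], [.o, .z, .v, .v, .w, .o,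 .z, .w, .o, .v, .v, .w, .o, .z], [.v, .o, .w, .v, .z, .z, .z, .w, .v, .z, .z, .z, .o, .o], [.z, .w, .z, .z, .z, .v, .v, .w, .z, .o, .z, .z, .z, .z], [.o, .z, .o, .o, .v, .z, .z, .o, .o, .v, .v, .z, .z, .z], [.w, .z, .w, .w, .z, .v, .z, .w, .w, .z, .z, .v, .z, .z], [.v, .z, .v, .v, .w, .o, .z, .z, .v, .w, .w, .o, .v, .z], [.z, .w, .w, .z, .z, .z, .z, .w, .z, .z, .z, .z, .w, .w]]
theorem n600 : InR N600 := inR_mul (inR_gen .b) n558 (by decide +kernel)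
/-- a product -/
def N610 : List (List GF4) := [[.o, .w, .w, .z, .z, .o, .o, .w, .z, .o, .z, .z, .z, .z], [.z, .w, .v, .z, .v, .o, .w, .z, .w, .o, .v, .o, .w, .z], [.z, .z, .v, .o, .w, .v, .z, .o, .z, .z, .z, .z, .z, .z], [.z, .z, .z, .w, .v, .o, .z, .w, .z, .z, .z, .z, .z, .z], [.z, .z, .v, .v, .w, .w, .z, .o, .z, .z, .z, .z, .z, .z], [.z, .v, .v, .v, .o, .v, .w, .o, .z, .o, .z, .z, .z, .z], [.z, .o, .v, .v, .o, .w, .v, .v, .z, .w, .z, .z, .z, .z], [.v, .v, .w, .o, .o, .w, .w, .v, .o, .z, .w, .v, .o, .z], [.z, .o, .v, .w, .z, .o, .v, .z, .v, .w, .o, .w, .v, .z], [.v, .v, .o, .o, .v, .w, .o, .w, .v, .z, .w, .w, .o, .z], [.o, .v, .w, .w, .o, .z, .o, .o, .o, .o, .v, .v, .w, .z], [.w, .z, .v, .v, .o, .o, .z, .z, .w, .v, .v, .v, .o, .z], [.w, .w, .z, .v, .w, .o, .z, .v, .w, .o, .o, .v, .v, .o], [.w, .v, .w, .v, .w, .o, .z, .w, .w, .o,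 .o, .v, .z, .w]]
theorem n610 : InR N610 := inR_mul (inR_gen .c) n588 (by decide +kernel)
/-- a product -/
def N616 : List (List GF4) := [[.v, .z, .v, .w, .o, .o, .w, .z, .w, .o, .o, .v, .w, .z], [.w, .o, .w, .w, .o, .v, .z, .o, .w, .o, .o, .v, .w, .z], [.z, .z, .w, .o, .v, .w, .z, .o, .z, .z, .z, .z, .z, .z], [.w, .v, .z, .v, .v, .v, .o, .v, .o, .v, .v, .w, .o, .z], [.z, .o, .v, .v, .w, .w, .w, .o, .z, .v, .z, .z, .z, .z], [.z, .z, .o, .o, .z, .w, .z, .z, .z, .z, .z, .z, .z, .z], [.o, .z, .o, .o, .z, .v, .o, .o, .o, .z, .z, .w, .z, .z], [.z, .z, .w, .w, .o, .v, .z, .w, .z, .z, .z, .z, .z, .z], [.v, .o, .w, .v, .z, .z, .z, .w, .v, .z, .z, .z, .o, .o], [.z, .w, .z, .z, .z, .v, .v, .w, .z, .o, .z, .z, .z, .z], [.o, .z, .o, .o, .v, .z, .z, .o, .o, .v, .v, .z, .z, .z], [.w, .z, .w, .w, .z, .v, .z, .w, .w, .z, .z, .v, .z, .z], [.v, .z,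 .v, .v, .w, .o, .z, .z, .v, .w, .w, .o, .v, .z], [.z, .w, .w, .z, .z, .z, .z, .w, .z, .z, .z, .z, .w, .w]]
theorem n616 : InR N616 := inR_mul (inR_gen .a) n600 (by decide +kernel)
/-- a product -/
def N628 : List (List GF4) := [[.o, .z, .z, .z, .z, .z, .z, .z, .z, .z, .z, .z, .z, .z], [.z, .o, .z, .z, .z, .z, .z, .z, .z, .z, .z, .z, .z, .z], [.z, .z, .o, .z, .z, .z, .z, .z, .z, .z, .z, .z, .z, .z], [.z, .z, .z, .o, .z, .z, .z, .z, .z, .z, .z, .z, .z, .z], [.z, .z, .z, .z, .w, .z, .z, .z, .z, .z, .z, .z, .z, .z], [.z, .z, .z, .z, .z, .v, .z, .z, .z, .z, .z, .z, .z, .z], [.z, .z, .z, .z, .z, .z, .v, .z, .z, .z, .z, .z, .z, .z], [.z, .z, .z, .z, .z, .z, .z, .o, .z, .z, .z, .z, .z, .z], [.z, .z, .z, .z, .z, .z, .z, .z, .o, .z, .z, .z, .z, .z], [.z, .z, .z, .z, .z, .z, .z, .z, .z, .w, .z, .z, .z, .z], [.z, .z, .z, .z, .z, .z, .z, .z,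 .z, .z, .w, .z, .z, .z], [.z, .z, .z, .z, .z, .z, .z, .z, .z, .z, .z, .v, .z, .z], [.z, .z, .z, .z, .z, .z, .z, .z, .z, .z, .z, .z, .o, .z], [.z, .z, .z, .z, .z, .z, .z, .z, .z, .z, .z, .z, .z, .o]]
theorem n628 : InR N628 := inR_mul (inR_gen .e) (inR_gen .d) (by decide +kernel)
/-- a product -/
def N630 : List (List GF4) := [[.o, .o, .w, .z, .z, .z, .z, .z, .z, .z, .z, .z, .z, .z], [.z, .o, .z, .z, .z, .z, .z, .z, .z, .z, .z, .z, .z, .z], [.z, .v, .o, .z, .z, .z, .z, .z, .z, .z, .z, .z, .z, .w], [.z, .z, .z, .o, .z, .z, .z, .z, .v, .z, .z, .z, .z, .z], [.z, .z, .z, .z, .o, .z, .z, .z, .z, .z, .v, .z, .z, .z], [.z, .z, .z, .z, .z, .o, .z, .z, .z, .z, .z, .v, .z, .z], [.z, .z, .z, .z, .z, .z, .o, .z, .z, .z, .z, .z, .z, .z], [.z, .z, .z, .z, .z, .z, .z, .o, .z, .z, .z, .z, .v, .z], [.z, .z, .z, .w, .z, .z, .z, .z, .z, .z, .z, .z,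 .z, .z], [.z, .z, .z, .z, .z, .z, .z, .z, .z, .o, .z, .z, .z, .z], [.z, .z, .z, .z, .w, .z, .z, .z, .z, .z, .z, .z, .z, .z], [.z, .z, .z, .z, .z, .w, .z, .z, .z, .z, .z, .z, .z, .z], [.z, .z, .z, .z, .z, .z, .z, .w, .z, .z, .z, .z, .z, .z], [.z, .z, .v, .z, .z, .z, .z, .z, .z, .z, .z, .z, .z, .z]]
theorem n630 : InR N630 := inR_mul (inR_gen .f) (inR_gen .b) (by decide +kernel)
/-- a product -/
def N631 : List (List GF4) := [[.o, .o, .z, .z, .z, .z, .z, .z, .z, .z, .z, .z, .z, .v], [.z, .o, .z, .z, .z, .z, .z, .z, .z, .z, .z, .z, .z, .z], [.z, .z, .z, .z, .z, .z, .z, .z, .z, .z, .z, .z, .z, .w], [.z, .z, .z, .z, .z, .z, .z, .z, .v, .z, .z, .z, .z, .z], [.z, .z, .z, .z, .z, .z, .z, .z, .z, .z, .v, .z, .z, .z], [.z, .z, .z, .z, .z, .z, .z, .z, .z, .z, .z, .v, .z, .z], [.z, .z, .z, .z, .z, .z, .o, .z, .z, .z, .z, .z, .z, .z], [.z, .z,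 .z, .z, .z, .z, .z, .z, .z, .z, .z, .z, .v, .z], [.z, .z, .z, .w, .z, .z, .z, .z, .o, .z, .z, .z, .z, .z], [.z, .z, .z, .z, .z, .z, .z, .z, .z, .o, .z, .z, .z, .z], [.z, .z, .z, .z, .w, .z, .z, .z, .z, .z, .o, .z, .z, .z], [.z, .z, .z, .z, .z, .w, .z, .z, .z, .z, .z, .o, .z, .z], [.z, .z, .z, .z, .z, .z, .z, .w, .z, .z, .z, .z, .o, .z], [.z, .w, .v, .z, .z, .z, .z, .z, .z, .z, .z, .z, .z, .o]]
theorem n631 : InR N631 := inR_mul (inR_gen .b) (inR_gen .f) (by decide +kernel)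
/-- a product -/
def N642 : List (List GF4) := [[.w, .z, .o, .o, .v, .o, .o, .z, .z, .w, .o, .v, .w, .o], [.v, .z, .z, .o, .v, .w, .v, .o, .z, .v, .o, .o, .z, .v], [.w, .w, .w, .w, .z, .w, .w, .w, .z, .w, .w, .w, .z, .w], [.z, .v, .v, .v, .z, .v, .v, .z, .v, .v, .v, .v, .v, .z], [.w, .w, .w, .w, .z, .o, .o, .w, .z, .w, .w, .o, .v, .o], [.w, .o, .o, .o, .v, .o, .o, .o, .z, .w, .o, .w, .v, .o], [.v, .z, .z, .z, .o, .z, .z, .w, .w, .z, .o, .o, .w, .v], [.z, .z, .v, .z, .z, .v, .z, .v, .z, .v, .z, .z, .v, .z], [.v, .w, .w, .z, .o, .o, .v, .w, .w, .w, .o, .z, .v, .w], [.v, .v, .z, .v, .z, .o, .v, .z, .z, .z, .v, .v, .w, .v], [.v, .z, .o, .z, .v, .o, .w, .z, .o, .w, .z, .v, .w, .v], [.z, .v, .v, .z, .z, .w, .o, .z, .z, .o, .z, .w, .v, .o], [.v, .w, .w, .w, .o, .o, .w, .z, .z, .v, .w, .v, .w, .w], [.o, .v, .v, .z, .w, .w, .o, .z, .v, .o,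 .w, .o, .v, .z]]
theorem n642 : InR N642 := inR_mul (inR_gen .f) n82 (by decide +kernel)
/-- a product -/
def N646 : List (List GF4) := [[.o, .v, .w, .w, .v, .w, .w, .v, .z, .o, .w, .z, .w, .w], [.v, .z, .z, .o, .v, .w, .v, .o, .z, .v, .o, .o, .z, .v], [.w, .w, .w, .w, .z, .w, .w, .w, .z, .w, .w, .w, .z, .w], [.z, .v, .v, .v, .z, .v, .v, .z, .v, .v, .v, .v, .v, .z], [.w, .w, .w, .w, .z, .o, .o, .w, .z, .w, .w, .o, .v, .o], [.w, .o, .o, .o, .v, .o, .o, .o, .z, .w, .o, .w, .v, .o], [.v, .z, .z, .z, .o, .z, .z, .w, .w, .z, .o, .o, .w, .v], [.z, .z, .v, .z, .z, .v, .z, .v, .z, .v, .z, .z, .v, .z], [.v, .v, .v, .o, .o, .z, .w, .w, .v, .v, .z, .o, .w, .w], [.v, .v, .z, .v, .z, .o, .v, .z, .z, .z, .v, .v, .w, .v], [.z, .v, .w, .v, .v, .v, .z, .v, .o, .o, .v, .o, .v, .o], [.v, .o, .o, .w, .o, .z, .v, .w, .z, .w, .w, .o, .w, .v], [.v, .w,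 .v, .w, .o, .z, .w, .o, .z, .w, .w, .v, .v, .w], [.o, .w, .w, .v, .v, .z, .o, .v, .v, .o, .o, .w, .v, .z]]
theorem n646 : InR N646 := inR_mul (inR_gen .f) n86 (by decide +kernel)
/-- a product -/
def N662 : List (List GF4) := [[.w, .v, .w, .v, .z, .z, .o, .w, .z, .w, .v, .o, .w, .o], [.v, .z, .z, .o, .v, .w, .v, .o, .z, .v, .o, .o, .z, .v], [.w, .w, .w, .w, .z, .w, .w, .w, .z, .w, .w, .w, .z, .w], [.z, .z, .v, .z, .z, .v, .z, .v, .z, .v, .z, .z, .v, .z], [.v, .w, .w, .w, .o, .w, .w, .w, .z, .v, .w, .v, .o, .w], [.o, .o, .o, .o, .z, .v, .v, .o, .z, .o, .o, .v, .w, .v], [.w, .w, .z, .w, .z, .v, .w, .z, .z, .z, .w, .w, .o, .w], [.z, .v, .v, .v, .z, .v, .v, .z, .v, .v, .v, .v, .v, .z], [.v, .w, .v, .w, .o, .z, .w, .o, .z, .w, .w, .v, .v, .w], [.o, .z, .z, .z, .w, .z, .z, .v, .v, .z, .w, .w, .v, .o], [.o, .w, .w, .v, .w, .z, .o, .v, .z,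 .v, .v, .w, .v, .o], [.z, .w, .o, .w, .w, .w, .z, .w, .v, .v, .w, .v, .w, .v], [.v, .v, .v, .o, .o, .z, .w, .w, .v, .v, .z, .o, .w, .w], [.o, .w, .w, .v, .v, .z, .o, .v, .v, .o, .o, .w, .v, .z]]
theorem n662 : InR N662 := inR_mul (inR_gen .f) n146 (by decide +kernel)
/-- a product -/
def N678 : List (List GF4) := [[.o, .v, .w, .w, .v, .w, .w, .v, .z, .o, .w, .z, .w, .w], [.v, .z, .z, .o, .v, .w, .v, .o, .z, .v, .o, .o, .z, .v], [.w, .w, .w, .w, .z, .w, .w, .w, .z, .w, .w, .w, .z, .w], [.z, .v, .v, .v, .z, .v, .v, .z, .v, .v, .v, .v, .v, .z], [.o, .o, .o, .o, .z, .v, .v, .o, .z, .o, .o, .v, .w, .v], [.v, .w, .w, .w, .o, .w, .w, .w, .z, .v, .w, .v, .o, .w], [.o, .z, .z, .z, .w, .z, .z, .v, .v, .z, .w, .w, .v, .o], [.z, .z, .v, .z, .z, .v, .z, .v, .z, .v, .z, .z, .v, .z], [.v, .v, .v, .o, .o, .z, .w, .w, .v, .v, .z, .o, .w, .w], [.w,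 .w, .z, .w, .z, .v, .w, .z, .z, .z, .w, .w, .o, .w], [.z, .w, .o, .w, .w, .w, .z, .w, .v, .v, .w, .v, .w, .v], [.o, .w, .w, .v, .w, .z, .o, .v, .z, .v, .v, .w, .v, .o], [.v, .w, .v, .w, .o, .z, .w, .o, .z, .w, .w, .v, .v, .w], [.o, .w, .w, .v, .v, .z, .o, .v, .v, .o, .o, .w, .v, .z]]
theorem n678 : InR N678 := inR_mul (inR_gen .f) n186 (by decide +kernel)
/-- a product -/
def N867 : List (List GF4) := [[.o, .z, .z, .z, .z, .z, .z, .z, .z, .z, .z, .z, .z, .o], [.z, .o, .z, .z, .z, .z, .z, .z, .z, .z, .z, .z, .z, .z], [.z, .o, .o, .z, .z, .z, .z, .z, .z, .z, .z, .z, .z, .o], [.z, .z, .z, .o, .z, .z, .z, .z, .o, .z, .z, .z, .z, .z], [.z, .z, .z, .z, .o, .z, .z, .z, .z, .z, .o, .z, .z, .z], [.z, .z, .z, .z, .z, .o, .z, .z, .z, .z, .z, .o, .z, .z], [.z, .z, .z, .z, .z, .z, .o, .z, .z, .z, .z, .z, .z, .z], [.z, .z, .z, .z, .z, .z, .z,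 .o, .z, .z, .z, .z, .o, .z], [.z, .z, .z, .z, .z, .z, .z, .z, .o, .z, .z, .z, .z, .z], [.z, .z, .z, .z, .z, .z, .z, .z, .z, .o, .z, .z, .z, .z], [.z, .z, .z, .z, .z, .z, .z, .z, .z, .z, .o, .z, .z, .z], [.z, .z, .z, .z, .z, .z, .z, .z, .z, .z, .z, .o, .z, .z], [.z, .z, .z, .z, .z, .z, .z, .z, .z, .z, .z, .z, .o, .z], [.z, .z, .z, .z, .z, .z, .z, .z, .z, .z, .z, .z, .z, .o]]
theorem n867 : InR N867 := inR_mul (inR_gen .f) (inR_gen .a) (by decide +kernel)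
/-- a product -/
def N868 : List (List GF4) := [[.o, .z, .z, .z, .z, .z, .z, .z, .z, .z, .z, .z, .z, .o], [.z, .o, .z, .z, .z, .z, .z, .z, .z, .z, .z, .z, .z, .z], [.z, .o, .o, .z, .z, .z, .z, .z, .z, .z, .z, .z, .z, .o], [.z, .z, .z, .o, .z, .z, .z, .z, .o, .z, .z, .z, .z, .z], [.z, .z, .z, .z, .o, .z, .z, .z, .z, .z, .o, .z, .z, .z], [.z, .z, .z, .z, .z, .o, .z, .z, .z, .z, .z, .o, .z, .z], [.z, .z, .z, .z, .z, .z, .o, .z, .z, .z, .z, .z, .z, .z], [.z, .z, .z, .z, .z, .z, .z, .o, .z, .z, .z, .z, .o, .z], [.z, .z, .z, .z, .z, .z, .z, .z, .o, .z, .z, .z, .z, .z], [.z, .z, .z, .z, .z, .z, .z, .z, .z, .o, .z, .z, .z, .z], [.z, .z, .z, .z, .z, .z, .z, .z, .z, .z, .o, .z, .z, .z], [.z, .z, .z, .z, .z, .z, .z, .z, .z, .z, .z, .o, .z, .z], [.z, .z, .z, .z, .z, .z, .z, .z, .z, .z, .z, .z, .o, .z], [.z, .z, .z, .z, .z, .z, .z, .z, .z, .z,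 .z, .z, .z, .o]]
theorem n868 : InR N868 := inR_mul (inR_gen .a) (inR_gen .f) (by decide +kernel)
/-- a product -/
def N902 : List (List GF4) := [[.o, .z, .z, .z, .z, .z, .z, .z, .z, .z, .z, .z, .z, .z], [.z, .o, .z, .z, .z, .z, .z, .z, .z, .z, .z, .z, .z, .z], [.z, .z, .z, .z, .z, .z, .z, .z, .z, .z, .z, .z, .z, .w], [.z, .z, .z, .z, .z, .z, .z, .z, .z, .z, .z, .z, .v, .z], [.z, .z, .z, .z, .z, .z, .z, .z, .z, .z, .z, .v, .z, .z], [.z, .z, .z, .z, .z, .z, .z, .z, .z, .z, .v, .z, .z, .z], [.z, .z, .z, .z, .z, .z, .z, .z, .z, .o, .z, .z, .z, .z], [.z, .z, .z, .z, .z, .z, .z, .z, .v, .z, .z, .z, .z, .z], [.z, .z, .z, .z, .z, .z, .z, .w, .z, .z, .z, .z, .z, .z], [.z, .z, .z, .z, .z, .z, .o, .z, .z, .z, .z, .z, .z, .z], [.z, .z, .z, .z, .z, .w, .z, .z, .z, .z, .z, .z, .z, .z], [.z, .z, .z, .z, .w, .z, .z, .z, .z, .z, .z, .z, .z, .z],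 [.z, .z, .z, .w, .z, .z, .z, .z, .z, .z, .z, .z, .z, .z], [.z, .z, .v, .z, .z, .z, .z, .z, .z, .z, .z, .z, .z, .z]]
theorem n902 : InR N902 := inR_mul (inR_gen .d) (inR_gen .b) (by decide +kernel)
/-- a product -/
def N903 : List (List GF4) := [[.o, .z, .z, .z, .z, .z, .z, .z, .z, .z, .z, .z, .z, .z], [.z, .o, .z, .z, .z, .z, .z, .z, .z, .z, .z, .z, .z, .z], [.z, .z, .z, .z, .z, .z, .z, .z, .z, .z, .z, .z, .z, .w], [.z, .z, .z, .z, .z, .z, .z, .z, .z, .z, .z, .z, .v, .z], [.z, .z, .z, .z, .z, .z, .z, .z, .z, .z, .z, .v, .z, .z], [.z, .z, .z, .z, .z, .z, .z, .z, .z, .z, .v, .z, .z, .z], [.z, .z, .z, .z, .z, .z, .z, .z, .z, .o, .z, .z, .z, .z], [.z, .z, .z, .z, .z, .z, .z, .z, .v, .z, .z, .z, .z, .z], [.z, .z, .z, .z, .z, .z, .z, .w, .z, .z, .z, .z, .z, .z], [.z, .z, .z, .z, .z, .z, .o, .z, .z, .z, .z, .z, .z, .z], [.z, .z, .z, .z,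 .z, .w, .z, .z, .z, .z, .z, .z, .z, .z], [.z, .z, .z, .z, .w, .z, .z, .z, .z, .z, .z, .z, .z, .z], [.z, .z, .z, .w, .z, .z, .z, .z, .z, .z, .z, .z, .z, .z], [.z, .z, .v, .z, .z, .z, .z, .z, .z, .z, .z, .z, .z, .z]]
theorem n903 : InR N903 := inR_mul (inR_gen .b) (inR_gen .d) (by decide +kernel)
/-- a product -/
def N904 : List (List GF4) := [[.o, .z, .w, .o, .z, .w, .z, .z, .z, .z, .z, .z, .z, .z], [.z, .o, .z, .o, .v, .w, .z, .o, .z, .z, .z, .z, .z, .z], [.z, .v, .o, .v, .w, .o, .z, .v, .w, .z, .o, .v, .w, .w], [.v, .v, .o, .v, .w, .o, .z, .w, .z, .w, .z, .z, .v, .z], [.w, .z, .v, .w, .o, .w, .v, .w, .z, .z, .z, .v, .z, .z], [.o, .o, .w, .o, .w, .w, .z, .o, .z, .v, .v, .z, .z, .z], [.z, .z, .z, .z, .o, .z, .z, .w, .z, .o, .z, .z, .z, .z], [.v, .z, .o, .w, .w, .o, .o, .v, .v, .z, .z, .z, .z, .z], [.z, .z, .w, .z, .z, .z, .z, .w,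 .z, .z, .z, .z, .z, .z], [.z, .z, .z, .v, .z, .o, .o, .z, .z, .z, .z, .z, .z, .z], [.z, .z, .o, .z, .z, .w, .z, .z, .z, .z, .z, .z, .z, .z], [.z, .z, .v, .z, .w, .z, .z, .z, .z, .z, .z, .z, .z, .z], [.z, .z, .w, .w, .z, .z, .z, .z, .z, .z, .z, .z, .z, .z], [.z, .z, .v, .z, .z, .z, .z, .z, .z, .z, .z, .z, .z, .z]]
theorem n904 : InR N904 := inR_mul (inR_gen .c) n902 (by decide +kernel)
/-- a product -/
def N905 : List (List GF4) := [[.o, .z, .z, .z, .z, .z, .z, .z, .z, .z, .o, .z, .v, .v], [.z, .o, .z, .z, .z, .z, .z, .z, .v, .z, .o, .w, .v, .z], [.z, .z, .z, .z, .z, .z, .z, .z, .z, .z, .z, .z, .z, .w], [.z, .z, .z, .z, .z, .z, .z, .z, .z, .z, .z, .z, .v, .w], [.z, .z, .z, .z, .z, .z, .z, .z, .z, .z, .z, .v, .z, .v], [.z, .z, .z, .z, .z, .z, .z, .z, .z, .z, .v, .z, .z, .o], [.z, .z, .z, .z, .z, .z, .z, .z, .z, .o, .v, .z, .w, .z],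 [.z, .z, .z, .z, .z, .z, .z, .z, .v, .z, .z, .z, .z, .w], [.o, .z, .z, .z, .z, .z, .z, .w, .v, .w, .o, .w, .w, .v], [.z, .z, .z, .z, .z, .z, .o, .z, .o, .z, .z, .v, .z, .z], [.w, .w, .z, .z, .z, .w, .o, .z, .o, .z, .w, .w, .o, .o], [.v, .z, .z, .z, .w, .z, .z, .z, .w, .o, .w, .o, .w, .w], [.o, .o, .z, .w, .z, .z, .v, .z, .w, .z, .o, .w, .v, .v], [.z, .w, .v, .w, .v, .o, .z, .w, .o, .z, .w, .v, .o, .o]]
theorem n905 : InR N905 := inR_mul n903 (inR_gen .c) (by decide +kernel)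
/-- a product -/
def N906 : List (List GF4) := [[.o, .z, .v, .o, .z, .w, .z, .z, .z, .z, .z, .z, .z, .z], [.z, .o, .z, .o, .v, .w, .z, .o, .z, .z, .z, .z, .z, .z], [.z, .o, .v, .o, .v, .w, .z, .o, .w, .z, .o, .v, .w, .w], [.v, .v, .w, .v, .w, .o, .z, .o, .z, .w, .z, .z, .v, .z], [.w, .z, .o, .w, .o, .o, .v, .w, .z, .z, .z, .v, .z, .z], [.o, .o, .v, .o, .o, .w, .z, .o, .z, .v, .v, .z, .z, .z], [.z, .z, .z, .z, .o, .z, .z, .w, .z, .o, .z, .z, .z, .z], [.v, .z, .w, .o, .w, .o, .o, .v, .v, .z, .z, .z, .z, .z], [.z, .z, .w, .z, .z, .z, .z, .w, .z, .z, .z, .z, .z, .z], [.z, .z, .z, .v, .z, .o, .o, .z, .z, .z, .z, .z, .z, .z], [.z, .z, .o, .z, .z, .w, .z, .z, .z, .z, .z, .z, .z, .z], [.z, .z, .v, .z, .w, .z, .z, .z, .z, .z, .z, .z, .z, .z], [.z, .z, .w, .w, .z, .z, .z, .z, .z, .z, .z, .z, .z, .z], [.z, .z, .v, .z, .z, .z, .z, .z, .z, .z,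 .z, .z, .z, .z]]
theorem n906 : InR N906 := inR_mul (inR_gen .a) n904 (by decide +kernel)
/-- a product -/
def N907 : List (List GF4) := [[.o, .z, .z, .z, .z, .z, .z, .z, .z, .z, .o, .z, .v, .o], [.z, .o, .z, .z, .z, .z, .z, .z, .v, .z, .o, .w, .v, .z], [.z, .z, .z, .z, .z, .z, .z, .z, .z, .z, .z, .z, .z, .w], [.z, .z, .z, .z, .z, .z, .z, .z, .z, .z, .z, .z, .v, .w], [.z, .z, .z, .z, .z, .z, .z, .z, .z, .z, .z, .v, .z, .v], [.z, .z, .z, .z, .z, .z, .z, .z, .z, .z, .v, .z, .z, .o], [.z, .z, .z, .z, .z, .z, .z, .z, .z, .o, .v, .z, .w, .z], [.z, .z, .z, .z, .z, .z, .z, .z, .v, .z, .z, .z, .z, .w], [.o, .z, .z, .z, .z, .z, .z, .w, .v, .w, .o, .w, .o, .o], [.z, .z, .z, .z, .z, .z, .o, .z, .o, .z, .z, .v, .z, .z], [.w, .w, .z, .z, .z, .w, .o, .z, .o, .z, .w, .o, .o, .w], [.v, .z, .z, .z, .w, .z, .z, .z, .w, .o, .o, .o, .w, .v], [.o, .o,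 .z, .w, .z, .z, .v, .z, .o, .z, .o, .w, .v, .o], [.z, .v, .v, .w, .v, .o, .z, .w, .w, .z, .v, .o, .w, .v]]
theorem n907 : InR N907 := inR_mul n905 (inR_gen .a) (by decide +kernel)
/-- a product -/
def N908 : List (List GF4) := [[.o, .o, .v, .z, .v, .z, .z, .o, .z, .z, .z, .z, .z, .z], [.z, .o, .z, .o, .v, .w, .z, .o, .z, .z, .z, .z, .z, .z], [.z, .z, .o, .z, .z, .z, .z, .z, .z, .z, .z, .z, .z, .z], [.z, .z, .o, .z, .z, .z, .z, .o, .z, .z, .z, .z, .z, .z], [.z, .z, .v, .z, .z, .o, .z, .z, .z, .z, .z, .z, .z, .z], [.z, .z, .w, .z, .o, .z, .z, .z, .z, .z, .z, .z, .z, .z], [.z, .z, .z, .z, .o, .z, .z, .w, .z, .o, .z, .z, .z, .z], [.z, .z, .o, .o, .z, .z, .z, .z, .z, .z, .z, .z, .z, .z], [.o, .o, .v, .o, .v, .w, .z, .w, .z, .v, .z, .z, .o, .z], [.z, .z, .z, .v, .z, .o, .o, .z, .z, .z, .z, .z, .z, .z], [.v, .z, .w, .v, .w, .w, .o, .v,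 .z, .z, .z, .o, .z, .z], [.w, .w, .o, .w, .w, .v, .z, .w, .z, .o, .o, .z, .z, .z], [.o, .z, .v, .w, .v, .w, .w, .o, .o, .z, .z, .z, .z, .z], [.z, .v, .w, .v, .w, .o, .z, .v, .o, .z, .v, .w, .o, .o]]
theorem n908 : InR N908 := inR_mul (inR_gen .b) n906 (by decide +kernel)
/-- a product -/
def N909 : List (List GF4) := [[.o, .o, .v, .z, .w, .z, .z, .o, .z, .z, .z, .z, .z, .z], [.z, .o, .z, .o, .w, .v, .z, .o, .z, .z, .z, .z, .z, .z], [.z, .z, .o, .z, .z, .z, .z, .z, .z, .z, .z, .z, .z, .z], [.z, .z, .o, .z, .z, .z, .z, .o, .z, .z, .z, .z, .z, .z], [.z, .z, .w, .z, .z, .o, .z, .z, .z, .z, .z, .z, .z, .z], [.z, .z, .v, .z, .o, .z, .z, .z, .z, .z, .z, .z, .z, .z], [.z, .z, .z, .z, .o, .z, .z, .v, .z, .o, .z, .z, .z, .z], [.z, .z, .o, .o, .z, .z, .z, .z, .z, .z, .z, .z, .z, .z], [.o, .o, .v, .o, .w, .v, .z, .w, .z, .w, .z, .z, .o, .z],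 [.z, .z, .z, .w, .z, .o, .o, .z, .z, .z, .z, .z, .z, .z], [.w, .z, .o, .w, .v, .w, .o, .w, .z, .z, .z, .o, .z, .z], [.v, .v, .w, .v, .w, .w, .z, .v, .z, .o, .o, .z, .z, .z], [.o, .z, .v, .w, .w, .v, .v, .o, .o, .z, .z, .z, .z, .z], [.z, .v, .w, .v, .o, .w, .z, .v, .o, .z, .w, .v, .o, .o]]
theorem n909 : InR N909 := inR_mul n907 (inR_gen .b) (by decide +kernel)
/-- a product -/
def N911 : List (List GF4) := [[.o, .z, .v, .o, .z, .v, .z, .z, .z, .z, .z, .z, .z, .z], [.z, .o, .z, .o, .w, .v, .z, .o, .z, .z, .z, .z, .z, .z], [.z, .z, .o, .z, .z, .z, .z, .z, .z, .z, .z, .z, .z, .z], [.z, .z, .o, .o, .z, .z, .z, .z, .z, .z, .z, .z, .z, .z], [.z, .z, .v, .z, .o, .z, .z, .z, .z, .z, .z, .z, .z, .z], [.z, .z, .w, .z, .z, .o, .z, .z, .z, .z, .z, .z, .z, .z], [.z, .z, .z, .w, .z, .o, .o, .z, .z, .z, .z, .z, .z, .z], [.z, .z, .o, .z, .z, .z,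 .z, .o, .z, .z, .z, .z, .z, .z], [.o, .z, .v, .w, .w, .v, .v, .o, .o, .z, .z, .z, .z, .z], [.z, .z, .z, .z, .o, .z, .z, .v, .z, .o, .z, .z, .z, .z], [.v, .v, .w, .v, .w, .w, .z, .v, .z, .o, .o, .z, .z, .z], [.w, .z, .o, .w, .v, .w, .o, .w, .z, .z, .z, .o, .z, .z], [.o, .o, .v, .o, .w, .v, .z, .w, .z, .w, .z, .z, .o, .z], [.z, .v, .w, .v, .o, .w, .z, .v, .o, .z, .w, .v, .o, .o]]
theorem n911 : InR N911 := inR_mul (inR_gen .d) n909 (by decide +kernel)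
/-- a product -/
def N912 : List (List GF4) := [[.o, .o, .v, .z, .o, .z, .z, .o, .z, .z, .z, .z, .z, .z], [.z, .o, .z, .o, .o, .o, .z, .o, .z, .z, .z, .z, .z, .z], [.z, .z, .o, .z, .z, .z, .z, .z, .z, .z, .z, .z, .z, .z], [.z, .z, .o, .z, .z, .z, .z, .o, .z, .z, .z, .z, .z, .z], [.z, .z, .v, .z, .z, .v, .z, .z, .z, .z, .z, .z, .z, .z], [.z, .z, .w, .z, .w, .z, .z, .z, .z, .z, .z, .z, .z, .z], [.z, .z, .z, .z, .w, .z, .z, .w, .z, .w, .z, .z, .z, .z], [.z, .z, .o, .o, .z, .z, .z, .z, .z, .z, .z, .z, .z, .z], [.o, .o, .v, .o, .o, .o, .z, .w, .z, .o, .z, .z, .o, .z], [.z, .z, .z, .v, .z, .v, .v, .z, .z, .z, .z, .z, .z, .z], [.v, .z, .w, .v, .v, .o, .v, .v, .z, .z, .z, .v, .z, .z], [.w, .w, .o, .w, .v, .w, .z, .w, .z, .w, .w, .z, .z, .z], [.o, .z, .v, .w, .o, .o, .o, .o, .o, .z, .z, .z, .z, .z], [.z, .v, .w, .v, .v, .v, .z, .v, .o, .z,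 .o, .o, .o, .o]]
theorem n912 : InR N912 := inR_mul n908 n628 (by decide +kernel)
/-- a product -/
def N916 : List (List GF4) := [[.o, .v, .w, .w, .w, .v, .z, .v, .v, .z, .w, .o, .v, .v], [.z, .o, .z, .o, .v, .w, .z, .o, .z, .z, .z, .z, .z, .z], [.z, .w, .w, .w, .o, .v, .z, .w, .w, .z, .o, .v, .w, .w], [.v, .v, .v, .v, .w, .o, .z, .z, .z, .w, .z, .z, .v, .z], [.w, .z, .w, .w, .o, .z, .v, .w, .z, .z, .z, .v, .z, .z], [.o, .o, .o, .o, .z, .w, .z, .o, .z, .v, .v, .z, .z, .z], [.z, .z, .z, .z, .o, .z, .z, .w, .z, .o, .z, .z, .z, .z], [.v, .z, .v, .z, .w, .o, .o, .v, .v, .z, .z, .z, .z, .z], [.o, .o, .v, .o, .v, .w, .z, .w, .z, .v, .z, .z, .o, .z], [.z, .z, .z, .v, .z, .o, .o, .z, .z, .z, .z, .z, .z, .z], [.v, .z, .w, .v, .w, .w, .o, .v, .z, .z, .z, .o, .z, .z], [.w, .w, .o, .w, .w, .v, .z, .w, .z, .o, .o, .z, .z, .z], [.o, .z, .v, .w,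 .v, .w, .w, .o, .o, .z, .z, .z, .z, .z], [.z, .v, .w, .v, .w, .o, .z, .v, .o, .z, .v, .w, .o, .o]]
theorem n916 : InR N916 := inR_mul (inR_gen .f) n908 (by decide +kernel)
/-- a product -/
def N918 : List (List GF4) := [[.o, .z, .v, .z, .z, .o, .z, .z, .z, .z, .z, .z, .z, .z], [.z, .o, .o, .z, .o, .o, .z, .z, .z, .z, .z, .z, .z, .z], [.z, .z, .o, .z, .z, .z, .z, .z, .z, .z, .z, .z, .z, .z], [.z, .z, .z, .o, .z, .z, .z, .z, .z, .z, .z, .z, .z, .z], [.z, .z, .o, .z, .o, .z, .z, .z, .z, .z, .z, .z, .z, .z], [.z, .z, .o, .z, .z, .o, .z, .z, .z, .z, .z, .z, .z, .z], [.z, .z, .o, .o, .z, .z, .o, .z, .z, .z, .z, .z, .z, .z], [.z, .z, .z, .z, .z, .z, .z, .o, .z, .z, .z, .z, .z, .z], [.z, .z, .o, .v, .o, .z, .o, .z, .o, .z, .z, .z, .z, .z], [.z, .z, .o, .z, .z, .z, .z, .o, .z, .o, .z, .z, .z, .z], [.o, .o, .v, .o, .v, .o, .z, .z, .z, .z,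 .o, .z, .z, .z], [.o, .z, .w, .z, .o, .w, .z, .o, .z, .z, .z, .o, .z, .z], [.z, .z, .o, .z, .z, .o, .z, .w, .z, .o, .z, .z, .o, .z], [.o, .w, .z, .o, .v, .w, .o, .o, .z, .o, .o, .o, .z, .o]]
theorem n918 : InR N918 := inR_mul n908 n908 (by decide +kernel)
/-- a product -/
def N919 : List (List GF4) := [[.o, .z, .w, .z, .z, .o, .z, .z, .z, .z, .z, .z, .z, .z], [.z, .o, .o, .z, .o, .o, .z, .z, .z, .z, .z, .z, .z, .z], [.z, .z, .o, .z, .z, .z, .z, .z, .z, .z, .z, .z, .z, .z], [.z, .z, .z, .o, .z, .z, .z, .z, .z, .z, .z, .z, .z, .z], [.z, .z, .o, .z, .o, .z, .z, .z, .z, .z, .z, .z, .z, .z], [.z, .z, .o, .z, .z, .o, .z, .z, .z, .z, .z, .z, .z, .z], [.z, .z, .o, .o, .z, .z, .o, .z, .z, .z, .z, .z, .z, .z], [.z, .z, .z, .z, .z, .z, .z, .o, .z, .z, .z, .z, .z, .z], [.z, .z, .o, .w, .o, .z, .o, .z, .o, .z, .z, .z, .z, .z], [.z, .z, .o, .z,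 .z, .z, .z, .o, .z, .o, .z, .z, .z, .z], [.o, .o, .w, .o, .w, .o, .z, .z, .z, .z, .o, .z, .z, .z], [.o, .z, .v, .z, .o, .v, .z, .o, .z, .z, .z, .o, .z, .z], [.z, .z, .o, .z, .z, .o, .z, .v, .z, .o, .z, .z, .o, .z], [.o, .v, .z, .o, .w, .v, .o, .o, .z, .o, .o, .o, .z, .o]]
theorem n919 : InR N919 := inR_mul n909 n909 (by decide +kernel)
/-- a product -/
def N921 : List (List GF4) := [[.o, .w, .v, .o, .z, .v, .z, .z, .v, .z, .z, .w, .z, .w], [.z, .o, .z, .o, .w, .v, .z, .o, .v, .z, .o, .w, .v, .z], [.z, .v, .o, .z, .z, .z, .z, .z, .z, .z, .z, .z, .z, .w], [.z, .v, .o, .o, .z, .z, .z, .z, .v, .z, .z, .z, .z, .w], [.z, .w, .v, .z, .o, .z, .z, .z, .z, .z, .v, .z, .z, .o], [.z, .o, .w, .z, .z, .o, .z, .z, .z, .z, .z, .v, .z, .v], [.z, .z, .z, .w, .z, .o, .o, .z, .o, .z, .z, .v, .z, .z], [.z, .v, .o, .z, .z, .z, .z, .o, .z, .z, .z, .z,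 .v, .w], [.o, .w, .v, .w, .w, .v, .v, .o, .z, .z, .o, .w, .v, .w], [.z, .z, .z, .z, .o, .z, .z, .v, .z, .o, .v, .z, .w, .z], [.v, .w, .w, .v, .w, .w, .z, .v, .w, .o, .z, .o, .w, .o], [.w, .v, .o, .w, .v, .w, .o, .w, .o, .z, .w, .z, .o, .v], [.o, .v, .v, .o, .w, .v, .z, .w, .v, .w, .o, .w, .z, .w], [.z, .w, .w, .v, .o, .w, .z, .v, .v, .z, .o, .w, .v, .w]]
theorem n921 : InR N921 := inR_mul n911 (inR_gen .f) (by decide +kernel)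
/-- a product -/
def N922 : List (List GF4) := [[.o, .z, .v, .o, .z, .o, .z, .z, .z, .z, .z, .z, .z, .z], [.z, .o, .z, .o, .o, .o, .z, .o, .z, .z, .z, .z, .z, .z], [.z, .z, .o, .z, .z, .z, .z, .z, .z, .z, .z, .z, .z, .z], [.z, .z, .o, .o, .z, .z, .z, .z, .z, .z, .z, .z, .z, .z], [.z, .z, .w, .z, .w, .z, .z, .z, .z, .z, .z, .z, .z, .z], [.z, .z, .v, .z, .z, .v, .z, .z, .z, .z, .z, .z, .z, .z], [.z, .z, .z, .v, .z, .v, .v, .z, .z, .z, .z, .z, .z, .z], [.z, .z, .o, .z, .z, .z, .z, .o, .z, .z, .z, .z, .z, .z], [.o, .z, .v, .w, .o, .o, .o, .o, .o, .z, .z, .z, .z, .z], [.z, .z, .z, .z, .w, .z, .z, .w, .z, .w, .z, .z, .z, .z], [.w, .w, .o, .w, .v, .w, .z, .w, .z, .w, .w, .z, .z, .z], [.v, .z, .w, .v, .v, .o, .v, .v, .z, .z, .z, .v, .z, .z], [.o, .o, .v, .o, .o, .o, .z, .w, .z, .o, .z, .z, .o, .z], [.z, .v, .w, .v, .v, .v, .z, .v, .o, .z,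 .o, .o, .o, .o]]
theorem n922 : InR N922 := inR_mul (inR_gen .d) n912 (by decide +kernel)
/-- a product -/
def N924 : List (List GF4) := [[.o, .v, .w, .w, .v, .w, .z, .v, .v, .z, .v, .v, .v, .v], [.z, .o, .z, .o, .o, .o, .z, .o, .z, .z, .z, .z, .z, .z], [.z, .w, .w, .w, .w, .w, .z, .w, .w, .z, .w, .w, .w, .w], [.v, .v, .v, .v, .v, .v, .z, .z, .z, .v, .z, .z, .v, .z], [.w, .z, .w, .w, .w, .z, .w, .w, .z, .z, .z, .w, .z, .z], [.o, .o, .o, .o, .z, .o, .z, .o, .z, .o, .o, .z, .z, .z], [.z, .z, .z, .z, .w, .z, .z, .w, .z, .w, .z, .z, .z, .z], [.v, .z, .v, .z, .v, .v, .v, .v, .v, .z, .z, .z, .z, .z], [.o, .o, .v, .o, .o, .o, .z, .w, .z, .o, .z, .z, .o, .z], [.z, .z, .z, .v, .z, .v, .v, .z, .z, .z, .z, .z, .z, .z], [.v, .z, .w, .v, .v, .o, .v, .v, .z, .z, .z, .v, .z, .z], [.w, .w, .o, .w, .v, .w, .z, .w, .z, .w, .w, .z, .z, .z], [.o, .z,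 .v, .w, .o, .o, .o, .o, .o, .z, .z, .z, .z, .z], [.z, .v, .w, .v, .v, .v, .z, .v, .o, .z, .o, .o, .o, .o]]
theorem n924 : InR N924 := inR_mul (inR_gen .f) n912 (by decide +kernel)
/-- a product -/
def N926 : List (List GF4) := [[.o, .z, .v, .z, .z, .v, .z, .z, .z, .z, .z, .z, .z, .z], [.z, .o, .o, .z, .w, .v, .z, .z, .z, .z, .z, .z, .z, .z], [.z, .z, .o, .z, .z, .z, .z, .z, .z, .z, .z, .z, .z, .z], [.z, .z, .z, .o, .z, .z, .z, .z, .z, .z, .z, .z, .z, .z], [.z, .z, .o, .z, .w, .z, .z, .z, .z, .z, .z, .z, .z, .z], [.z, .z, .o, .z, .z, .v, .z, .z, .z, .z, .z, .z, .z, .z], [.z, .z, .o, .o, .z, .z, .v, .z, .z, .z, .z, .z, .z, .z], [.z, .z, .z, .z, .z, .z, .z, .o, .z, .z, .z, .z, .z, .z], [.z, .z, .o, .v, .w, .z, .v, .z, .o, .z, .z, .z, .z, .z], [.z, .z, .o, .z, .z, .z, .z, .o, .z, .w, .z, .z, .z, .z], [.o, .o, .v, .o, .o, .v, .z, .z,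 .z, .z, .w, .z, .z, .z], [.o, .z, .w, .z, .w, .o, .z, .o, .z, .z, .z, .v, .z, .z], [.z, .z, .o, .z, .z, .v, .z, .w, .z, .w, .z, .z, .o, .z], [.o, .w, .z, .o, .o, .o, .v, .o, .z, .w, .w, .v, .z, .o]]
theorem n926 : InR N926 := inR_mul n908 n912 (by decide +kernel)
/-- a product -/
def N932 : List (List GF4) := [[.v, .v, .o, .v, .v, .w, .v, .o, .o, .z, .o, .o, .w, .w], [.v, .z, .v, .o, .z, .o, .v, .o, .v, .v, .o, .w, .v, .z], [.z, .w, .w, .w, .o, .v, .z, .w, .w, .z, .o, .v, .w, .w], [.v, .w, .o, .w, .v, .w, .o, .o, .o, .z, .o, .v, .w, .w], [.o, .z, .z, .z, .v, .z, .z, .z, .o, .v, .z, .w, .o, .o], [.w, .v, .o, .o, .v, .o, .v, .o, .v, .z, .w, .w, .v, .v], [.v, .z, .v, .o, .w, .v, .z, .v, .o, .z, .z, .v, .z, .z], [.v, .o, .o, .o, .v, .w, .z, .w, .w, .w, .o, .v, .o, .w], [.o, .w, .o, .w, .v, .w, .o, .z, .w, .v, .z, .o, .o, .w], [.v, .v,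 .v, .v, .z, .o, .z, .v, .z, .v, .v, .z, .w, .z], [.z, .v, .w, .v, .w, .v, .w, .w, .v, .z, .v, .v, .v, .o], [.o, .v, .v, .w, .v, .v, .v, .v, .w, .o, .z, .o, .w, .v], [.o, .z, .o, .z, .w, .v, .v, .v, .o, .v, .z, .o, .w, .w], [.v, .w, .z, .o, .w, .v, .v, .o, .o, .v, .z, .o, .o, .w]]
theorem n932 : InR N932 := inR_mul n908 n916 (by decide +kernel)
/-- a product -/
def N934 : List (List GF4) := [[.o, .o, .w, .z, .o, .z, .z, .z, .z, .z, .z, .z, .z, .z], [.z, .o, .o, .z, .o, .o, .z, .z, .z, .z, .z, .z, .z, .z], [.z, .z, .o, .z, .z, .z, .z, .z, .z, .z, .z, .z, .z, .z], [.z, .z, .z, .z, .z, .z, .z, .o, .z, .z, .z, .z, .z, .z], [.z, .z, .o, .z, .z, .o, .z, .z, .z, .z, .z, .z, .z, .z], [.z, .z, .o, .z, .o, .z, .z, .z, .z, .z, .z, .z, .z, .z], [.z, .z, .o, .z, .z, .z, .z, .o, .z, .o, .z, .z, .z, .z], [.z, .z, .z, .o, .z, .z, .z, .z, .z, .z,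 .z, .z, .z, .z], [.z, .z, .o, .z, .z, .o, .z, .w, .z, .o, .z, .z, .o, .z], [.z, .z, .o, .o, .z, .z, .o, .z, .z, .z, .z, .z, .z, .z], [.o, .z, .w, .z, .o, .w, .z, .o, .z, .z, .z, .o, .z, .z], [.o, .o, .v, .o, .v, .o, .z, .z, .z, .z, .o, .z, .z, .z], [.z, .z, .o, .v, .o, .z, .o, .z, .o, .z, .z, .z, .z, .z], [.o, .w, .z, .o, .v, .w, .o, .o, .z, .o, .o, .o, .z, .o]]
theorem n934 : InR N934 := inR_mul (inR_gen .d) n918 (by decide +kernel)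
/-- a product -/
def N938 : List (List GF4) := [[.w, .o, .v, .v, .w, .z, .v, .v, .z, .v, .v, .v, .z, .v], [.z, .o, .o, .z, .o, .o, .z, .z, .z, .z, .z, .z, .z, .z], [.w, .z, .w, .w, .w, .z, .w, .w, .z, .w, .w, .w, .z, .w], [.z, .z, .v, .v, .v, .z, .v, .z, .v, .z, .z, .z, .z, .z], [.v, .v, .v, .v, .v, .v, .z, .z, .z, .z, .v, .z, .z, .z], [.v, .z, .z, .z, .v, .z, .z, .v, .z, .z, .z, .v, .z, .z], [.z, .z, .o, .o, .z, .z, .o, .z, .z, .z, .z, .z, .z, .z], [.z, .z, .v, .z, .z, .v, .z, .z, .z, .v, .z, .z, .v, .z], [.z, .z, .o, .v, .o, .z, .o, .z, .o, .z, .z, .z, .z, .z], [.z, .z, .o, .z, .z, .z, .z, .o, .z, .o, .z, .z, .z, .z], [.o, .o, .v, .o, .v, .o, .z, .z, .z, .z, .o, .z, .z, .z], [.o, .z, .w, .z, .o, .w, .z, .o, .z, .z, .z, .o, .z, .z], [.z, .z, .o, .z, .z, .o, .z, .w, .z, .o, .z, .z, .o, .z], [.o, .w, .z, .o, .v, .w, .o, .o, .z, .o,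 .o, .o, .z, .o]]
theorem n938 : InR N938 := inR_mul (inR_gen .f) n918 (by decide +kernel)
/-- a product -/
def N943 : List (List GF4) := [[.v, .z, .o, .o, .w, .v, .z, .v, .w, .v, .o, .o, .o, .w], [.v, .v, .v, .o, .o, .z, .v, .o, .v, .v, .w, .o, .v, .z], [.z, .w, .w, .w, .v, .o, .z, .w, .w, .z, .v, .o, .w, .w], [.v, .o, .o, .o, .w, .v, .z, .w, .w, .o, .v, .o, .o, .w], [.o, .o, .z, .z, .z, .v, .v, .z, .o, .z, .w, .z, .o, .o], [.w, .o, .o, .o, .o, .v, .z, .o, .v, .v, .w, .w, .v, .v], [.v, .v, .v, .v, .v, .w, .z, .o, .z, .z, .v, .z, .o, .z], [.v, .w, .o, .w, .w, .v, .w, .o, .o, .z, .v, .o, .w, .w], [.o, .v, .o, .z, .w, .v, .v, .w, .o, .o, .o, .z, .w, .w], [.v, .z, .v, .v, .o, .z, .v, .v, .w, .z, .z, .v, .z, .z], [.z, .v, .w, .w, .v, .w, .z, .v, .v, .w, .v, .v, .v, .o], [.o, .w, .v, .v, .v, .v, .o, .w, .w, .v, .o, .z, .w, .v], [.o, .o,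 .o, .v, .v, .w, .v, .z, .w, .v, .o, .z, .o, .w], [.v, .o, .z, .o, .v, .w, .v, .o, .o, .v, .o, .z, .o, .w]]
theorem n943 : InR N943 := inR_mul n921 n909 (by decide +kernel)
/-- a product -/
def N946 : List (List GF4) := [[.o, .w, .w, .v, .w, .v, .z, .w, .v, .z, .v, .v, .v, .v], [.z, .o, .z, .o, .o, .o, .z, .o, .z, .z, .z, .z, .z, .z], [.z, .w, .w, .w, .w, .w, .z, .w, .w, .z, .w, .w, .w, .w], [.v, .z, .v, .z, .v, .v, .v, .v, .v, .z, .z, .z, .z, .z], [.o, .o, .o, .o, .z, .o, .z, .o, .z, .o, .o, .z, .z, .z], [.w, .z, .w, .w, .w, .z, .w, .w, .z, .z, .z, .w, .z, .z], [.z, .z, .z, .v, .z, .v, .v, .z, .z, .z, .z, .z, .z, .z], [.v, .v, .v, .v, .v, .v, .z, .z, .z, .v, .z, .z, .v, .z], [.o, .z, .v, .w, .o, .o, .o, .o, .o, .z, .z, .z, .z, .z], [.z, .z, .z, .z, .w, .z, .z, .w, .z, .w, .z, .z, .z, .z], [.w, .w, .o, .w, .v, .w, .z, .w, .z, .w,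 .w, .z, .z, .z], [.v, .z, .w, .v, .v, .o, .v, .v, .z, .z, .z, .v, .z, .z], [.o, .o, .v, .o, .o, .o, .z, .w, .z, .o, .z, .z, .o, .z], [.z, .v, .w, .v, .v, .v, .z, .v, .o, .z, .o, .o, .o, .o]]
theorem n946 : InR N946 := inR_mul (inR_gen .f) n922 (by decide +kernel)
/-- a product -/
def N948 : List (List GF4) := [[.v, .v, .o, .v, .o, .o, .w, .o, .o, .z, .w, .v, .w, .w], [.v, .z, .v, .o, .z, .v, .w, .o, .v, .o, .w, .o, .v, .z], [.z, .w, .w, .w, .w, .w, .z, .w, .w, .z, .w, .w, .w, .w], [.v, .w, .o, .w, .o, .o, .v, .o, .o, .z, .w, .w, .w, .w], [.o, .z, .z, .z, .o, .z, .z, .z, .o, .o, .z, .o, .o, .o], [.w, .v, .o, .o, .o, .v, .w, .o, .v, .z, .v, .o, .v, .v], [.v, .z, .v, .o, .v, .w, .z, .v, .o, .z, .z, .w, .z, .z], [.v, .o, .o, .o, .o, .o, .z, .w, .w, .v, .w, .w, .o, .w], [.o, .w, .o, .w, .o, .o, .v, .z, .w, .o, .z, .v, .o, .w], [.v, .v,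 .v, .v, .z, .v, .z, .v, .z, .o, .o, .z, .w, .z], [.z, .v, .w, .v, .v, .w, .o, .w, .v, .z, .o, .w, .v, .o], [.o, .v, .v, .w, .o, .w, .w, .v, .w, .w, .z, .v, .w, .v], [.o, .z, .o, .z, .v, .w, .w, .v, .o, .o, .z, .v, .w, .w], [.v, .w, .z, .o, .v, .w, .w, .o, .o, .o, .z, .v, .o, .w]]
theorem n948 : InR N948 := inR_mul n908 n924 (by decide +kernel)
/-- a product -/
def N952 : List (List GF4) := [[.w, .o, .v, .v, .v, .z, .w, .v, .z, .o, .o, .w, .z, .v], [.z, .o, .o, .z, .w, .v, .z, .z, .z, .z, .z, .z, .z, .z], [.w, .z, .w, .w, .v, .z, .o, .w, .z, .v, .v, .o, .z, .w], [.z, .z, .v, .v, .o, .z, .w, .z, .v, .z, .z, .z, .z, .z], [.v, .v, .v, .v, .o, .w, .z, .z, .z, .z, .o, .z, .z, .z], [.v, .z, .z, .z, .o, .z, .z, .v, .z, .z, .z, .w, .z, .z], [.z, .z, .o, .o, .z, .z, .v, .z, .z, .z, .z, .z, .z, .z], [.z, .z, .v, .z, .z, .w, .z, .z, .z, .o,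 .z, .z, .v, .z], [.z, .z, .o, .v, .w, .z, .v, .z, .o, .z, .z, .z, .z, .z], [.z, .z, .o, .z, .z, .z, .z, .o, .z, .w, .z, .z, .z, .z], [.o, .o, .v, .o, .o, .v, .z, .z, .z, .z, .w, .z, .z, .z], [.o, .z, .w, .z, .w, .o, .z, .o, .z, .z, .z, .v, .z, .z], [.z, .z, .o, .z, .z, .v, .z, .w, .z, .w, .z, .z, .o, .z], [.o, .w, .z, .o, .o, .o, .v, .o, .z, .w, .w, .v, .z, .o]]
theorem n952 : InR N952 := inR_mul (inR_gen .f) n926 (by decide +kernel)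
/-- a product -/
def N958 : List (List GF4) := [[.z, .v, .w, .w, .v, .v, .z, .z, .w, .v, .z, .v, .o, .w], [.v, .z, .v, .o, .z, .o, .v, .o, .v, .v, .o, .w, .v, .z], [.z, .w, .w, .w, .o, .v, .z, .w, .w, .z, .o, .v, .w, .w], [.v, .o, .o, .o, .v, .w, .z, .w, .w, .w, .o, .v, .o, .w], [.w, .v, .o, .o, .v, .o, .v, .o, .v, .z, .w, .w, .v, .v], [.o, .z, .z, .z, .v, .z, .z, .z, .o, .v, .z, .w, .o, .o], [.v, .v, .v, .v, .z, .o, .z, .v, .z, .v, .v, .z, .w, .z], [.v, .w, .o, .w, .v, .w, .o, .o, .o, .z, .o, .v, .w, .w], [.o, .z, .o, .z, .w, .v, .v, .v, .o, .v, .z, .o, .w, .w], [.v, .z, .v, .o, .w, .v, .z, .v, .o, .z, .z, .v, .z, .z], [.o, .v, .v, .w, .v, .v, .v, .v, .w, .o, .z, .o, .w, .v], [.z, .v, .w, .v, .w, .v, .w, .w, .v, .z, .v, .v, .v, .o], [.o, .w, .o, .w, .v, .w, .o, .z, .w, .v, .z, .o, .o, .w], [.v, .w, .z, .o, .w, .v, .v, .o, .o, .v,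 .z, .o, .o, .w]]
theorem n958 : InR N958 := inR_mul (inR_gen .d) n932 (by decide +kernel)
/-- a product -/
def N970 : List (List GF4) := [[.o, .w, .w, .z, .z, .z, .w, .w, .z, .o, .z, .w, .v, .w], [.v, .v, .v, .o, .o, .z, .v, .o, .v, .v, .w, .o, .v, .z], [.w, .z, .w, .w, .w, .z, .w, .w, .z, .w, .w, .w, .z, .w], [.w, .z, .o, .w, .w, .v, .w, .w, .z, .o, .w, .w, .v, .w], [.w, .z, .o, .o, .w, .z, .o, .w, .z, .o, .o, .w, .z, .o], [.z, .v, .z, .z, .z, .v, .v, .v, .z, .v, .z, .v, .z, .v], [.v, .v, .v, .v, .v, .w, .z, .o, .z, .z, .v, .z, .o, .z], [.w, .z, .o, .o, .o, .z, .o, .w, .v, .w, .w, .w, .z, .w], [.z, .w, .o, .v, .w, .v, .o, .w, .v, .o, .z, .v, .z, .w], [.v, .z, .v, .v, .o, .z, .v, .v, .w, .z, .z, .v, .z, .z], [.v, .w, .v, .v, .o, .o, .w, .o, .w, .v, .z, .o, .w, .o], [.v, .z, .w, .w, .w, .v, .w, .z, .o, .v, .v, .o, .o, .v], [.z, .v,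 .o, .z, .z, .o, .z, .v, .z, .o, .z, .v, .v, .w], [.o, .v, .z, .o, .w, .v, .o, .o, .v, .o, .z, .v, .v, .w]]
theorem n970 : InR N970 := inR_mul n908 n938 (by decide +kernel)
/-- a product -/
def N977 : List (List GF4) := [[.v, .v, .o, .o, .w, .v, .z, .v, .o, .v, .z, .v, .v, .w], [.v, .o, .v, .o, .o, .z, .v, .o, .z, .v, .o, .o, .z, .v], [.z, .v, .w, .w, .v, .o, .z, .w, .v, .z, .o, .w, .v, .o], [.v, .w, .o, .o, .w, .v, .z, .w, .o, .o, .w, .v, .z, .w], [.o, .o, .z, .z, .z, .v, .v, .z, .o, .z, .w, .w, .o, .w], [.w, .w, .o, .o, .o, .v, .z, .o, .z, .v, .o, .z, .z, .z], [.v, .o, .v, .v, .v, .w, .z, .o, .w, .z, .o, .o, .w, .v], [.v, .o, .o, .w, .w, .v, .w, .o, .z, .z, .w, .v, .o, .w], [.o, .z, .o, .z, .w, .v, .v, .w, .o, .o, .z, .w, .v, .v], [.v, .w, .v, .v, .o, .z, .v, .v, .z, .z, .v, .v, .w, .v], [.z, .w, .w, .w, .v, .w, .z, .v, .w, .w,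 .o, .w, .o, .w], [.o, .z, .v, .v, .v, .v, .o, .w, .z, .v, .v, .w, .v, .o], [.o, .w, .o, .v, .v, .w, .v, .z, .z, .v, .v, .o, .o, .v], [.v, .o, .z, .o, .v, .w, .v, .o, .w, .v, .v, .o, .w, .z]]
theorem n977 : InR N977 := inR_mul n943 (inR_gen .f) (by decide +kernel)
/-- a product -/
def N984 : List (List GF4) := [[.z, .v, .w, .w, .o, .w, .z, .z, .w, .o, .z, .w, .o, .w], [.v, .z, .v, .o, .z, .v, .w, .o, .v, .o, .w, .o, .v, .z], [.z, .w, .w, .w, .w, .w, .z, .w, .w, .z, .w, .w, .w, .w], [.v, .o, .o, .o, .o, .o, .z, .w, .w, .v, .w, .w, .o, .w], [.w, .v, .o, .o, .o, .v, .w, .o, .v, .z, .v, .o, .v, .v], [.o, .z, .z, .z, .o, .z, .z, .z, .o, .o, .z, .o, .o, .o], [.v, .v, .v, .v, .z, .v, .z, .v, .z, .o, .o, .z, .w, .z], [.v, .w, .o, .w, .o, .o, .v, .o, .o, .z, .w, .w, .w, .w], [.o, .z, .o, .z, .v, .w, .w, .v, .o, .o, .z, .v, .w, .w], [.v, .z,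 .v, .o, .v, .w, .z, .v, .o, .z, .z, .w, .z, .z], [.o, .v, .v, .w, .o, .w, .w, .v, .w, .w, .z, .v, .w, .v], [.z, .v, .w, .v, .v, .w, .o, .w, .v, .z, .o, .w, .v, .o], [.o, .w, .o, .w, .o, .o, .v, .z, .w, .o, .z, .v, .o, .w], [.v, .w, .z, .o, .v, .w, .w, .o, .o, .o, .z, .v, .o, .w]]
theorem n984 : InR N984 := inR_mul (inR_gen .d) n948 (by decide +kernel)
/-- a product -/
def N990 : List (List GF4) := [[.z, .v, .w, .w, .w, .w, .z, .v, .w, .o, .v, .w, .w, .w], [.v, .w, .o, .z, .o, .w, .w, .z, .w, .o, .v, .z, .w, .w], [.z, .w, .w, .w, .w, .w, .z, .w, .w, .z, .w, .w, .w, .w], [.v, .v, .v, .v, .v, .v, .z, .z, .z, .v, .z, .z, .v, .z], [.w, .w, .z, .z, .z, .w, .w, .z, .w, .z, .w, .z, .w, .w], [.o, .v, .v, .v, .w, .v, .z, .v, .w, .o, .v, .w, .w, .w], [.v, .o, .o, .o, .v, .o, .z, .z, .w, .o, .w, .w, .o, .w], [.v, .z, .v, .z, .v, .v, .v, .v,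 .v, .z, .z, .z, .z, .z], [.o, .o, .o, .v, .o, .o, .w, .z, .w, .o, .w, .z, .o, .w], [.v, .w, .o, .o, .o, .w, .z, .o, .o, .z, .w, .w, .w, .w], [.o, .o, .w, .w, .w, .o, .w, .z, .w, .w, .v, .z, .o, .w], [.z, .z, .v, .v, .w, .w, .o, .o, .v, .z, .z, .w, .z, .z], [.o, .v, .o, .w, .w, .z, .v, .v, .w, .o, .v, .w, .w, .w], [.v, .o, .z, .o, .o, .o, .w, .o, .o, .o, .w, .z, .o, .w]]
theorem n990 : InR N990 := inR_mul n908 n948 (by decide +kernel)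
/-- a product -/
def N994 : List (List GF4) := [[.o, .w, .w, .z, .z, .z, .o, .w, .z, .w, .z, .o, .v, .w], [.v, .v, .v, .o, .w, .z, .w, .o, .v, .o, .v, .v, .v, .z], [.w, .z, .w, .w, .v, .z, .o, .w, .z, .v, .v, .o, .z, .w], [.w, .z, .o, .w, .v, .w, .o, .w, .z, .w, .v, .o, .v, .w], [.w, .z, .o, .o, .v, .z, .v, .w, .z, .w, .w, .o, .z, .o], [.z, .v, .z, .z, .z, .w, .w, .v, .z, .o, .z, .w, .z, .v], [.v, .v, .v, .v, .o, .o, .z, .o, .z, .z, .o, .z, .o, .z], [.w, .z, .o, .o, .w, .z, .v, .w, .v, .v, .v, .o, .z, .w], [.z, .w, .o, .v, .v, .w, .v, .w, .v, .w, .z, .w, .z, .w], [.v, .z, .v, .v, .w, .z, .w, .v, .w, .z, .z, .w, .z, .z], [.v, .w, .v, .v, .w, .v, .o, .o, .w, .o, .z, .v, .w, .o], [.v, .z, .w, .w, .v, .w, .o, .z, .o, .o, .o, .v, .o, .v], [.z, .v, .o, .z, .z, .v, .z, .v, .z, .w, .z, .w, .v, .w], [.o, .v, .z, .o, .v, .w, .v, .o, .v, .w,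 .z, .w, .v, .w]]
theorem n994 : InR N994 := inR_mul n908 n952 (by decide +kernel)
/-- a product -/
def N998 : List (List GF4) := [[.v, .v, .o, .v, .v, .w, .v, .o, .o, .z, .o, .o, .w, .w], [.v, .z, .v, .o, .z, .o, .v, .o, .v, .v, .o, .w, .v, .z], [.z, .w, .w, .w, .o, .v, .z, .w, .w, .z, .o, .v, .w, .w], [.v, .w, .o, .w, .v, .w, .o, .o, .o, .z, .o, .v, .w, .w], [.w, .z, .z, .z, .o, .z, .z, .z, .w, .o, .z, .v, .w, .w], [.o, .w, .v, .v, .w, .v, .w, .v, .w, .z, .o, .o, .w, .w], [.w, .z, .w, .v, .o, .w, .z, .w, .v, .z, .z, .w, .z, .z], [.v, .o, .o, .o, .v, .w, .z, .w, .w, .w, .o, .v, .o, .w], [.o, .w, .o, .w, .v, .w, .o, .z, .w, .v, .z, .o, .o, .w], [.o, .o, .o, .o, .z, .w, .z, .o, .z, .o, .o, .z, .v, .z], [.z, .o, .v, .o, .v, .o, .v, .v, .o, .z, .o, .o, .o, .w], [.v, .w, .w, .o, .w, .w, .w, .w, .o, .v, .z, .v, .o, .w], [.o, .z, .o, .z,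 .w, .v, .v, .v, .o, .v, .z, .o, .w, .w], [.v, .w, .z, .o, .w, .v, .v, .o, .o, .v, .z, .o, .o, .w]]
theorem n998 : InR N998 := inR_mul (inR_gen .e) n958 (by decide +kernel)
/-- a product -/
def N1000 : List (List GF4) := [[.w, .w, .w, .o, .w, .o, .w, .v, .o, .o, .z, .z, .w, .v], [.v, .z, .v, .o, .z, .o, .v, .o, .v, .v, .o, .w, .v, .z], [.v, .o, .z, .v, .w, .o, .v, .v, .w, .v, .w, .z, .w, .o], [.z, .o, .w, .o, .w, .z, .w, .z, .o, .z, .o, .z, .z, .v], [.o, .o, .v, .z, .o, .v, .o, .v, .w, .v, .w, .o, .w, .o], [.o, .w, .o, .w, .w, .w, .o, .o, .v, .v, .w, .z, .v, .w], [.v, .v, .v, .v, .z, .o, .z, .v, .z, .v, .v, .z, .w, .z], [.z, .v, .w, .v, .o, .v, .w, .o, .z, .w, .o, .z, .o, .v], [.o, .z, .o, .z, .w, .v, .v, .v, .o, .v, .z, .o, .w, .w], [.v, .z, .v, .o, .w, .v, .z, .v, .o, .z, .z, .v, .z, .z], [.o, .v, .v, .w, .v, .v, .v, .v, .w, .o,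 .z, .o, .w, .v], [.z, .v, .w, .v, .w, .v, .w, .w, .v, .z, .v, .v, .v, .o], [.o, .w, .o, .w, .v, .w, .o, .z, .w, .v, .z, .o, .o, .w], [.v, .w, .z, .o, .w, .v, .v, .o, .o, .v, .z, .o, .o, .w]]
theorem n1000 : InR N1000 := inR_mul (inR_gen .f) n958 (by decide +kernel)
/-- a product -/
def N1020 : List (List GF4) := [[.w, .o, .o, .o, .o, .z, .o, .v, .v, .w, .w, .v, .z, .w], [.v, .v, .v, .o, .o, .z, .v, .o, .v, .v, .w, .o, .v, .z], [.w, .z, .w, .w, .w, .z, .w, .w, .z, .w, .w, .w, .z, .w], [.w, .z, .o, .o, .o, .z, .o, .w, .v, .w, .w, .w, .z, .w], [.z, .v, .z, .z, .z, .v, .v, .v, .z, .v, .z, .v, .z, .v], [.w, .z, .o, .o, .w, .z, .o, .w, .z, .o, .o, .w, .z, .o], [.v, .z, .v, .v, .o, .z, .v, .v, .w, .z, .z, .v, .z, .z], [.w, .z, .o, .w, .w, .v, .w, .w, .z, .o, .w, .w, .v, .w], [.z, .v, .o, .z, .z, .o, .z, .v, .z, .o, .z, .v, .v, .w], [.v,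 .v, .v, .v, .v, .w, .z, .o, .z, .z, .v, .z, .o, .z], [.v, .z, .w, .w, .w, .v, .w, .z, .o, .v, .v, .o, .o, .v], [.v, .w, .v, .v, .o, .o, .w, .o, .w, .v, .z, .o, .w, .o], [.z, .w, .o, .v, .w, .v, .o, .w, .v, .o, .z, .v, .z, .w], [.o, .v, .z, .o, .w, .v, .o, .o, .v, .o, .z, .v, .v, .w]]
theorem n1020 : InR N1020 := inR_mul (inR_gen .d) n970 (by decide +kernel)
/-- a product -/
def N1029 : List (List GF4) := [[.v, .w, .v, .w, .v, .z, .o, .v, .o, .o, .z, .o, .v, .w], [.w, .v, .o, .w, .w, .z, .w, .w, .v, .w, .z, .v, .v, .v], [.v, .w, .z, .v, .o, .w, .v, .v, .w, .v, .z, .w, .w, .o], [.v, .v, .w, .v, .o, .z, .v, .w, .w, .o, .z, .v, .v, .w], [.v, .o, .v, .o, .z, .z, .o, .w, .v, .v, .o, .v, .v, .w], [.z, .z, .o, .z, .z, .o, .w, .v, .z, .z, .z, .o, .z, .z], [.w, .o, .o, .w, .v, .o, .z, .v, .o, .w, .z, .v, .o, .v], [.v, .o, .w, .w, .w, .v, .o,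 .z, .v, .o, .z, .v, .w, .w], [.w, .v, .w, .v, .o, .z, .v, .o, .z, .v, .v, .w, .w, .v], [.w, .o, .o, .v, .w, .z, .w, .v, .o, .z, .w, .o, .v, .v], [.z, .z, .z, .z, .w, .z, .z, .z, .v, .o, .o, .z, .z, .w], [.w, .v, .w, .o, .o, .w, .w, .o, .w, .v, .z, .z, .o, .o], [.w, .w, .w, .o, .o, .z, .v, .v, .w, .w, .z, .o, .v, .v], [.o, .v, .v, .w, .w, .z, .o, .w, .w, .o, .o, .v, .w, .z]]
theorem n1029 : InR N1029 := inR_mul n977 n909 (by decide +kernel)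
/-- a product -/
def N1042 : List (List GF4) := [[.v, .v, .o, .v, .o, .o, .w, .o, .o, .z, .w, .v, .w, .w], [.v, .z, .v, .o, .z, .v, .w, .o, .v, .o, .w, .o, .v, .z], [.z, .w, .w, .w, .w, .w, .z, .w, .w, .z, .w, .w, .w, .w], [.v, .w, .o, .w, .o, .o, .v, .o, .o, .z, .w, .w, .w, .w], [.w, .z, .z, .z, .w, .z, .z, .z, .w, .w, .z, .w, .w, .w], [.o, .w, .v, .v, .v, .w, .o, .v, .w, .z, .w, .v, .w, .w], [.w, .z, .w, .v, .w, .o, .z, .w, .v, .z, .z, .o, .z, .z], [.v, .o, .o, .o, .o, .o, .z, .w, .w, .v, .w, .w, .o, .w], [.o, .w, .o, .w, .o, .o, .v, .z, .w, .o, .z, .v, .o, .w], [.o, .o, .o, .o, .z, .o, .z, .o, .z, .w, .w, .z, .v, .z], [.z, .o, .v, .o, .o, .v, .w, .v, .o, .z, .w, .v, .o, .w], [.v, .w, .w, .o, .v, .o, .o, .w, .o, .o, .z, .w, .o, .w], [.o, .z, .o, .z, .v, .w, .w, .v, .o, .o, .z, .v, .w, .w], [.v, .w, .z, .o, .v, .w, .w, .o, .o, .o,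 .z, .v, .o, .w]]
theorem n1042 : InR N1042 := inR_mul (inR_gen .e) n984 (by decide +kernel)
/-- a product -/
def N1044 : List (List GF4) := [[.w, .w, .w, .o, .v, .v, .o, .v, .o, .w, .z, .z, .w, .v], [.v, .z, .v, .o, .z, .v, .w, .o, .v, .o, .w, .o, .v, .z], [.v, .o, .z, .v, .v, .v, .w, .v, .w, .o, .v, .z, .w, .o], [.z, .o, .w, .o, .v, .z, .o, .z, .o, .z, .w, .z, .z, .v], [.o, .o, .v, .z, .w, .w, .v, .v, .w, .o, .v, .v, .w, .o], [.o, .w, .o, .w, .v, .o, .v, .o, .v, .o, .v, .z, .v, .w], [.v, .v, .v, .v, .z, .v, .z, .v, .z, .o, .o, .z, .w, .z], [.z, .v, .w, .v, .w, .w, .o, .o, .z, .v, .w, .z, .o, .v], [.o, .z, .o, .z, .v, .w, .w, .v, .o, .o, .z, .v, .w, .w], [.v, .z, .v, .o, .v, .w, .z, .v, .o, .z, .z, .w, .z, .z], [.o, .v, .v, .w, .o, .w, .w, .v, .w, .w, .z, .v, .w, .v], [.z, .v, .w, .v, .v, .w, .o, .w, .v, .z, .o, .w, .v, .o], [.o,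 .w, .o, .w, .o, .o, .v, .z, .w, .o, .z, .v, .o, .w], [.v, .w, .z, .o, .v, .w, .w, .o, .o, .o, .z, .v, .o, .w]]
theorem n1044 : InR N1044 := inR_mul (inR_gen .f) n984 (by decide +kernel)
/-- a product -/
def N1052 : List (List GF4) := [[.v, .o, .v, .w, .v, .z, .w, .v, .z, .z, .z, .w, .z, .z], [.v, .w, .o, .z, .o, .w, .w, .z, .w, .o, .v, .z, .w, .w], [.z, .w, .w, .w, .w, .w, .z, .w, .w, .z, .w, .w, .w, .w], [.v, .z, .v, .z, .v, .v, .v, .v, .v, .z, .z, .z, .z, .z], [.o, .v, .v, .v, .w, .v, .z, .v, .w, .o, .v, .w, .w, .w], [.w, .w, .z, .z, .z, .w, .w, .z, .w, .z, .w, .z, .w, .w], [.v, .w, .o, .o, .o, .w, .z, .o, .o, .z, .w, .w, .w, .w], [.v, .v, .v, .v, .v, .v, .z, .z, .z, .v, .z, .z, .v, .z], [.o, .v, .o, .w, .w, .z, .v, .v, .w, .o, .v, .w, .w, .w], [.v, .o, .o, .o, .v, .o, .z, .z, .w, .o, .w, .w, .o, .w], [.z, .z, .v, .v, .w, .w, .o,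 .o, .v, .z, .z, .w, .z, .z], [.o, .o, .w, .w, .w, .o, .w, .z, .w, .w, .v, .z, .o, .w], [.o, .o, .o, .v, .o, .o, .w, .z, .w, .o, .w, .z, .o, .w], [.v, .o, .z, .o, .o, .o, .w, .o, .o, .o, .w, .z, .o, .w]]
theorem n1052 : InR N1052 := inR_mul (inR_gen .d) n990 (by decide +kernel)
/-- a product -/
def N1064 : List (List GF4) := [[.w, .z, .w, .v, .w, .o, .v, .o, .w, .v, .z, .z, .o, .v], [.v, .v, .v, .o, .w, .z, .w, .o, .v, .o, .v, .v, .v, .z], [.w, .v, .z, .v, .v, .v, .o, .v, .v, .v, .o, .z, .v, .o], [.w, .o, .w, .z, .o, .v, .v, .v, .w, .v, .v, .z, .v, .v], [.z, .o, .v, .v, .w, .w, .z, .o, .o, .o, .w, .v, .o, .w], [.w, .v, .o, .o, .w, .v, .o, .v, .v, .w, .v, .z, .v, .o], [.v, .v, .v, .v, .o, .o, .z, .o, .z, .z, .o, .z, .o, .z], [.w, .w, .w, .o, .w, .w, .v, .z, .v, .w, .v, .z, .w, .v], [.z, .w, .o, .v, .v, .w, .v, .w, .v, .w, .z, .w, .z,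 .w], [.v, .z, .v, .v, .w, .z, .w, .v, .w, .z, .z, .w, .z, .z], [.v, .w, .v, .v, .w, .v, .o, .o, .w, .o, .z, .v, .w, .o], [.v, .z, .w, .w, .v, .w, .o, .z, .o, .o, .o, .v, .o, .v], [.z, .v, .o, .z, .z, .v, .z, .v, .z, .w, .z, .w, .v, .w], [.o, .v, .z, .o, .v, .w, .v, .o, .v, .w, .z, .w, .v, .w]]
theorem n1064 : InR N1064 := inR_mul (inR_gen .f) n994 (by decide +kernel)
/-- a product -/
def N1066 : List (List GF4) := [[.z, .o, .w, .w, .z, .z, .o, .o, .z, .v, .v, .v, .z, .w], [.w, .w, .z, .o, .o, .o, .o, .o, .z, .v, .w, .v, .z, .w], [.w, .z, .w, .w, .v, .z, .o, .w, .z, .v, .v, .o, .z, .w], [.z, .z, .v, .v, .o, .z, .w, .z, .v, .z, .z, .z, .z, .z], [.o, .v, .o, .o, .w, .w, .o, .w, .z, .v, .w, .o, .z, .w], [.o, .z, .w, .w, .w, .z, .o, .o, .z, .v, .v, .v, .z, .w], [.w, .z, .z, .z, .w, .z, .z, .w, .v, .v, .v, .o, .z, .w], [.z, .z, .v, .z,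 .z, .w, .z, .z, .z, .o, .z, .z, .v, .z], [.o, .v, .v, .o, .v, .w, .z, .w, .v, .v, .w, .o, .z, .w], [.w, .z, .z, .w, .v, .w, .o, .v, .z, .z, .v, .o, .v, .w], [.v, .v, .o, .w, .o, .o, .v, .o, .v, .v, .w, .v, .z, .w], [.w, .w, .w, .v, .v, .o, .z, .z, .z, .o, .o, .z, .v, .z], [.o, .z, .v, .w, .w, .z, .o, .w, .z, .o, .v, .v, .z, .w], [.z, .w, .w, .v, .w, .o, .z, .v, .v, .z, .w, .o, .v, .w]]
theorem n1066 : InR N1066 := inR_mul n908 n994 (by decide +kernel)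
/-- a product -/
def N1070 : List (List GF4) := [[.o, .w, .o, .z, .w, .z, .o, .w, .w, .w, .o, .w, .o, .v], [.v, .z, .v, .o, .z, .o, .v, .o, .v, .v, .o, .w, .v, .z], [.v, .o, .z, .v, .w, .o, .v, .v, .w, .v, .w, .z, .w, .o], [.z, .v, .w, .v, .o, .v, .w, .o, .z, .w, .o, .z, .o, .v], [.w, .v, .w, .v, .v, .v, .w, .w, .o, .o, .v, .z, .o, .v], [.v, .v, .w, .z, .v, .w, .v, .w, .o, .w, .o, .v, .o, .v], [.w, .z, .w, .v, .o, .w, .z, .w, .v, .z, .z, .w, .z, .z], [.z, .o, .w, .o, .w, .z, .w, .z, .o, .z, .o, .z, .z, .v], [.o, .w, .o, .w, .v, .w, .o, .z, .w, .v, .z, .o, .o, .w], [.o, .o, .o, .o, .z, .w, .z, .o, .z, .o, .o, .z, .v, .z], [.z, .o, .v, .o, .v, .o, .v, .v, .o, .z, .o, .o, .o, .w], [.v, .w, .w, .o, .w, .w, .w, .w, .o, .v, .z, .v, .o, .w], [.o, .z, .o, .z, .w, .v, .v, .v, .o, .v, .z, .o, .w, .w], [.v, .w, .z, .o, .w, .v, .v, .o, .o, .v,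 .z, .o, .o, .w]]
theorem n1070 : InR N1070 := inR_mul (inR_gen .f) n998 (by decide +kernel)
/-- a product -/
def N1100 : List (List GF4) := [[.o, .w, .w, .z, .z, .z, .w, .w, .z, .o, .z, .w, .v, .w], [.v, .v, .v, .o, .o, .z, .v, .o, .v, .v, .w, .o, .v, .z], [.w, .z, .w, .w, .w, .z, .w, .w, .z, .w, .w, .w, .z, .w], [.w, .z, .o, .w, .w, .v, .w, .w, .z, .o, .w, .w, .v, .w], [.v, .z, .w, .w, .v, .z, .w, .v, .z, .w, .w, .v, .z, .w], [.z, .w, .z, .z, .z, .w, .w, .w, .z, .w, .z, .w, .z, .w], [.w, .w, .w, .w, .w, .o, .z, .v, .z, .z, .w, .z, .v, .z], [.w, .z, .o, .o, .o, .z, .o, .w, .v, .w, .w, .w, .z, .w], [.z, .w, .o, .v, .w, .v, .o, .w, .v, .o, .z, .v, .z, .w], [.o, .z, .o, .o, .w, .z, .o, .o, .v, .z, .z, .o, .z, .z], [.o, .v, .o, .o, .w, .w, .v, .w, .v, .o, .z, .w, .v, .w], [.w, .z, .o, .o, .o, .w, .o, .z, .v, .w, .w, .v, .v, .w], [.z,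 .v, .o, .z, .z, .o, .z, .v, .z, .o, .z, .v, .v, .w], [.o, .v, .z, .o, .w, .v, .o, .o, .v, .o, .z, .v, .v, .w]]
theorem n1100 : InR N1100 := inR_mul (inR_gen .e) n1020 (by decide +kernel)
/-- a product -/
def N1107 : List (List GF4) := [[.v, .o, .v, .v, .z, .v, .o, .w, .v, .o, .o, .z, .o, .w], [.w, .o, .o, .w, .z, .w, .w, .w, .v, .w, .v, .z, .v, .v], [.v, .o, .z, .v, .w, .o, .v, .v, .w, .v, .w, .z, .w, .o], [.v, .z, .w, .w, .z, .o, .o, .v, .v, .v, .v, .z, .w, .w], [.v, .w, .v, .w, .z, .z, .v, .o, .v, .o, .v, .o, .v, .w], [.z, .z, .o, .v, .o, .z, .z, .z, .z, .w, .o, .z, .z, .z], [.w, .v, .o, .v, .o, .v, .w, .w, .o, .z, .v, .z, .o, .v], [.v, .w, .w, .z, .v, .w, .o, .w, .w, .o, .v, .z, .v, .w], [.w, .o, .w, .o, .z, .o, .v, .v, .w, .v, .w, .v, .z, .v], [.w, .v, .o, .v, .z, .w, .z, .v, .v, .w, .o, .w, .o, .v], [.z, .z, .z, .z, .z, .w,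 .o, .z, .z, .z, .z, .o, .v, .w], [.w, .o, .w, .o, .w, .o, .v, .o, .o, .w, .z, .z, .w, .o], [.w, .z, .w, .v, .z, .o, .w, .o, .v, .v, .o, .z, .w, .v], [.o, .w, .v, .w, .z, .w, .o, .w, .w, .o, .v, .o, .w, .z]]
theorem n1107 : InR N1107 := inR_mul n1029 (inR_gen .d) (by decide +kernel)
/-- a product -/
def N1134 : List (List GF4) := [[.o, .w, .o, .z, .v, .z, .v, .w, .w, .v, .w, .o, .o, .v], [.v, .z, .v, .o, .z, .v, .w, .o, .v, .o, .w, .o, .v, .z], [.v, .o, .z, .v, .v, .v, .w, .v, .w, .o, .v, .z, .w, .o], [.z, .v, .w, .v, .w, .w, .o, .o, .z, .v, .w, .z, .o, .v], [.w, .v, .w, .v, .o, .w, .o, .w, .o, .w, .o, .z, .o, .v], [.v, .v, .w, .z, .o, .o, .w, .w, .o, .v, .w, .w, .o, .v], [.w, .z, .w, .v, .w, .o, .z, .w, .v, .z, .z, .o, .z, .z], [.z, .o, .w, .o, .v, .z, .o, .z, .o, .z, .w, .z, .z, .v], [.o, .w, .o, .w, .o, .o, .v, .z, .w, .o, .z,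 .v, .o, .w], [.o, .o, .o, .o, .z, .o, .z, .o, .z, .w, .w, .z, .v, .z], [.z, .o, .v, .o, .o, .v, .w, .v, .o, .z, .w, .v, .o, .w], [.v, .w, .w, .o, .v, .o, .o, .w, .o, .o, .z, .w, .o, .w], [.o, .z, .o, .z, .v, .w, .w, .v, .o, .o, .z, .v, .w, .w], [.v, .w, .z, .o, .v, .w, .w, .o, .o, .o, .z, .v, .o, .w]]
theorem n1134 : InR N1134 := inR_mul (inR_gen .f) n1042 (by decide +kernel)
/-- a product -/
def N1136 : List (List GF4) := [[.z, .o, .o, .o, .w, .o, .o, .v, .w, .z, .z, .v, .z, .z], [.w, .w, .v, .z, .o, .w, .o, .z, .w, .v, .o, .v, .w, .z], [.v, .o, .z, .v, .v, .v, .w, .v, .w, .o, .v, .z, .w, .o], [.v, .w, .w, .z, .o, .o, .v, .w, .w, .w, .o, .z, .v, .w], [.v, .o, .o, .z, .o, .v, .w, .v, .w, .w, .o, .z, .w, .o], [.z, .v, .v, .o, .v, .v, .z, .w, .o, .v, .w, .v, .o, .v], [.w, .z, .v, .z, .w, .v, .o, .w, .v, .z, .z, .o, .z, .z], [.v, .z,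 .w, .w, .z, .v, .v, .v, .v, .o, .o, .z, .w, .w], [.o, .v, .v, .z, .w, .w, .o, .z, .v, .o, .w, .o, .v, .z], [.w, .w, .v, .w, .o, .w, .z, .w, .z, .z, .v, .z, .o, .z], [.v, .v, .v, .z, .o, .w, .o, .w, .w, .z, .o, .v, .w, .z], [.w, .o, .z, .w, .v, .z, .w, .z, .o, .w, .v, .w, .o, .z], [.o, .o, .v, .z, .o, .v, .w, .w, .v, .z, .w, .o, .v, .z], [.z, .z, .v, .w, .o, .v, .z, .w, .z, .z, .z, .z, .z, .z]]
theorem n1136 : InR N1136 := inR_mul n908 n1044 (by decide +kernel)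
/-- a product -/
def N1150 : List (List GF4) := [[.o, .w, .v, .o, .z, .v, .v, .z, .v, .v, .o, .w, .v, .o], [.v, .w, .o, .z, .o, .w, .w, .z, .w, .o, .v, .z, .w, .w], [.v, .o, .o, .z, .v, .o, .w, .z, .o, .o, .v, .w, .o, .z], [.z, .w, .z, .o, .w, .v, .o, .o, .w, .v, .w, .o, .o, .o], [.o, .v, .o, .o, .v, .w, .v, .z, .z, .o, .v, .v, .w, .w], [.o, .o, .o, .o, .o, .o, .v, .z, .v, .o, .z, .z, .o, .v], [.v, .w, .o, .o, .o, .w, .z, .o, .o, .z, .w, .w, .w, .w], [.z, .z, .z, .o, .z, .z, .o, .z, .o, .z, .o, .z, .z, .o], [.o, .v, .o, .w, .w, .z, .v, .v, .w, .o, .v, .w, .w, .w], [.v, .o, .o, .o, .v, .o, .z, .z, .w, .o, .w, .w, .o, .w], [.z, .z, .v, .v, .w, .w, .o, .o, .v, .z, .z, .w, .z, .z], [.o, .o, .w, .w, .w, .o, .w, .z, .w, .w, .v, .z, .o, .w], [.o, .o, .o, .v, .o, .o, .w, .z, .w, .o, .w, .z, .o, .w], [.v, .o, .z, .o, .o, .o, .w, .o, .o, .o,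 .w, .z, .o, .w]]
theorem n1150 : InR N1150 := inR_mul (inR_gen .f) n1052 (by decide +kernel)
/-- a product -/
def N1174 : List (List GF4) := [[.w, .z, .o, .v, .o, .z, .o, .o, .v, .o, .w, .o, .o, .w], [.z, .w, .v, .z, .v, .o, .z, .z, .z, .z, .v, .o, .z, .v], [.w, .v, .z, .v, .v, .v, .o, .v, .v, .v, .o, .z, .v, .o], [.z, .o, .w, .w, .o, .o, .w, .v, .z, .o, .w, .z, .o, .w], [.v, .o, .o, .v, .z, .o, .w, .o, .o, .z, .z, .z, .o, .w], [.v, .z, .v, .w, .v, .v, .w, .z, .z, .z, .z, .v, .z, .z], [.z, .w, .v, .w, .v, .o, .v, .w, .w, .w, .v, .o, .w, .v], [.z, .w, .w, .v, .w, .z, .w, .z, .o, .z, .w, .z, .z, .w], [.z, .w, .v, .z, .v, .z, .v, .w, .v, .w, .w, .w, .o, .v], [.z, .v, .v, .w, .z, .z, .v, .z, .w, .z, .z, .z, .z, .v], [.o, .v, .v, .w, .z, .z, .v, .w, .o, .z, .z, .w, .w, .w], [.o, .o, .z, .z, .z, .o, .v, .z, .v, .z, .o, .o, .z, .o], [.z,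 .v, .v, .w, .v, .z, .v, .z, .o, .z, .v, .z, .z, .v], [.o, .v, .v, .w, .v, .z, .v, .w, .w, .w, .w, .w, .w, .z]]
theorem n1174 : InR N1174 := inR_mul n908 n1064 (by decide +kernel)
/-- a product -/
def N1176 : List (List GF4) := [[.w, .v, .w, .v, .o, .o, .z, .z, .z, .z, .o, .z, .z, .z], [.w, .w, .z, .o, .o, .o, .o, .o, .z, .v, .w, .v, .z, .w], [.w, .z, .w, .w, .v, .z, .o, .w, .z, .v, .v, .o, .z, .w], [.z, .z, .v, .z, .z, .w, .z, .z, .z, .o, .z, .z, .v, .z], [.o, .z, .w, .w, .w, .z, .o, .o, .z, .v, .v, .v, .z, .w], [.o, .v, .o, .o, .w, .w, .o, .w, .z, .v, .w, .o, .z, .w], [.w, .z, .z, .w, .v, .w, .o, .v, .z, .z, .v, .o, .v, .w], [.z, .z, .v, .v, .o, .z, .w, .z, .v, .z, .z, .z, .z, .z], [.o, .z, .v, .w, .w, .z, .o, .w, .z, .o, .v, .v, .z, .w], [.w, .z, .z, .z, .w, .z, .z, .w, .v, .v, .v, .o, .z, .w], [.w, .w, .w, .v, .v, .o, .z, .z,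 .z, .o, .o, .z, .v, .z], [.v, .v, .o, .w, .o, .o, .v, .o, .v, .v, .w, .v, .z, .w], [.o, .v, .v, .o, .v, .w, .z, .w, .v, .v, .w, .o, .z, .w], [.z, .w, .w, .v, .w, .o, .z, .v, .v, .z, .w, .o, .v, .w]]
theorem n1176 : InR N1176 := inR_mul (inR_gen .d) n1066 (by decide +kernel)
/-- a product -/
def N1180 : List (List GF4) := [[.z, .z, .v, .z, .o, .v, .o, .v, .w, .v, .w, .z, .w, .v], [.w, .w, .z, .o, .o, .o, .o, .o, .z, .v, .w, .v, .z, .w], [.v, .w, .o, .z, .v, .o, .w, .z, .o, .o, .o, .o, .o, .z], [.v, .w, .o, .z, .v, .o, .w, .o, .o, .w, .o, .v, .z, .o], [.v, .o, .w, .z, .o, .o, .v, .o, .w, .o, .v, .v, .z, .v], [.z, .o, .v, .z, .z, .v, .o, .o, .z, .z, .z, .v, .w, .w], [.w, .z, .z, .z, .w, .z, .z, .w, .v, .v, .v, .o, .z, .w], [.v, .z, .o, .o, .o, .w, .v, .o, .z, .w, .w, .w, .v, .o], [.o, .v, .v, .o, .v, .w, .z, .w, .v, .v, .w, .o, .z,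 .w], [.w, .z, .z, .w, .v, .w, .o, .v, .z, .z, .v, .o, .v, .w], [.v, .v, .o, .w, .o, .o, .v, .o, .v, .v, .w, .v, .z, .w], [.w, .w, .w, .v, .v, .o, .z, .z, .z, .o, .o, .z, .v, .z], [.o, .z, .v, .w, .w, .z, .o, .w, .z, .o, .v, .v, .z, .w], [.z, .w, .w, .v, .w, .o, .z, .v, .v, .z, .w, .o, .v, .w]]
theorem n1180 : InR N1180 := inR_mul (inR_gen .f) n1066 (by decide +kernel)
/-- a product -/
def N1242 : List (List GF4) := [[.o, .w, .o, .z, .o, .z, .w, .z, .w, .z, .v, .z, .z, .o], [.v, .o, .o, .o, .z, .w, .w, .w, .v, .w, .w, .w, .v, .v], [.v, .o, .z, .v, .v, .v, .w, .v, .w, .o, .v, .z, .w, .o], [.v, .z, .w, .w, .z, .v, .v, .v, .v, .o, .o, .z, .w, .w], [.o, .z, .w, .w, .v, .v, .v, .z, .z, .z, .z, .w, .z, .z], [.v, .o, .w, .w, .z, .v, .w, .v, .w, .z, .z, .z, .w, .o], [.v, .z, .z, .z, .z, .v, .v, .v, .v, .z, .z, .z, .w, .w], [.v, .w, .w, .z,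 .o, .o, .v, .w, .w, .w, .o, .z, .v, .w], [.w, .z, .v, .v, .z, .o, .o, .w, .w, .w, .w, .z, .v, .v], [.o, .o, .o, .o, .w, .o, .o, .v, .w, .o, .v, .v, .w, .o], [.o, .z, .v, .v, .o, .o, .o, .v, .v, .o, .o, .v, .w, .w], [.z, .w, .v, .v, .z, .v, .o, .z, .w, .z, .z, .w, .z, .o], [.o, .z, .z, .v, .w, .o, .w, .v, .z, .z, .o, .v, .w, .v], [.o, .o, .w, .z, .w, .o, .w, .v, .w, .z, .o, .v, .w, .z]]
theorem n1242 : InR N1242 := inR_mul n908 n1134 (by decide +kernel)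
/-- a product -/
def N1248 : List (List GF4) := [[.z, .o, .v, .z, .o, .v, .o, .w, .w, .z, .z, .v, .z, .z], [.w, .w, .v, .z, .o, .w, .o, .z, .w, .v, .o, .v, .w, .z], [.w, .z, .v, .z, .w, .v, .o, .z, .v, .v, .z, .w, .v, .o], [.z, .z, .z, .z, .z, .z, .z, .w, .z, .o, .z, .v, .o, .w], [.o, .v, .v, .z, .w, .w, .o, .w, .v, .w, .w, .w, .v, .o], [.o, .z, .v, .z, .o, .v, .o, .w, .w, .w, .z, .w, .w, .v], [.w, .z, .v, .z, .w, .v, .o, .w, .v, .z, .z, .o, .z, .z], [.z, .v, .z, .w, .v, .o, .w, .w, .o, .o, .z, .v, .z, .w], [.o, .v, .v, .z, .w, .w, .o, .z, .v, .o, .w, .o, .v, .z], [.w, .w, .v, .w, .o, .w, .z, .w, .z, .z, .v, .z, .o, .z], [.v, .v, .v, .z, .o, .w, .o, .w, .w, .z, .o, .v, .w, .z], [.w, .o, .z, .w, .v, .z, .w, .z, .o, .w, .v, .w, .o, .z], [.o, .o, .v, .z, .o, .v, .w, .w, .v, .z, .w, .o, .v, .z], [.z, .z, .v, .w, .o, .v, .z, .w, .z, .z,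 .z, .z, .z, .z]]
theorem n1248 : InR N1248 := inR_mul (inR_gen .f) n1136 (by decide +kernel)
/-- a product -/
def N1308 : List (List GF4) := [[.w, .w, .w, .v, .w, .o, .o, .o, .v, .o, .o, .z, .o, .o], [.z, .w, .v, .z, .v, .o, .z, .z, .z, .z, .v, .o, .z, .v], [.w, .v, .z, .v, .v, .v, .o, .v, .v, .v, .o, .z, .v, .o], [.z, .w, .w, .v, .w, .z, .w, .z, .o, .z, .w, .z, .z, .w], [.o, .z, .o, .v, .o, .o, .v, .z, .z, .z, .z, .o, .z, .z], [.w, .v, .v, .w, .z, .v, .o, .v, .v, .z, .z, .z, .v, .o], [.z, .w, .w, .o, .z, .z, .w, .z, .o, .z, .z, .z, .z, .w], [.z, .o, .w, .w, .o, .o, .w, .v, .z, .o, .w, .z, .o, .w], [.z, .v, .v, .w, .v, .z, .v, .z, .o, .z, .v, .z, .z, .v], [.z, .v, .o, .v, .o, .w, .o, .v, .v, .v, .o, .w, .v, .o], [.w, .w, .z, .z, .z, .w, .o, .z, .o, .z, .w, .w, .z, .w], [.v, .w, .w, .o, .z, .z, .w, .o, .v, .z, .z, .o, .o, .o], [.z,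 .w, .v, .z, .v, .z, .v, .w, .v, .w, .w, .w, .o, .v], [.o, .v, .v, .w, .v, .z, .v, .w, .w, .w, .w, .w, .w, .z]]
theorem n1308 : InR N1308 := inR_mul (inR_gen .e) n1174 (by decide +kernel)
/-- a product -/
def N1312 : List (List GF4) := [[.z, .o, .w, .w, .z, .z, .o, .o, .z, .v, .v, .v, .z, .w], [.w, .w, .z, .o, .o, .o, .o, .o, .z, .v, .w, .v, .z, .w], [.w, .z, .w, .w, .v, .z, .o, .w, .z, .v, .v, .o, .z, .w], [.z, .z, .v, .v, .o, .z, .w, .z, .v, .z, .z, .z, .z, .z], [.w, .o, .w, .w, .v, .v, .w, .v, .z, .o, .v, .w, .z, .v], [.v, .z, .o, .o, .o, .z, .v, .v, .z, .w, .w, .w, .z, .o], [.o, .z, .z, .z, .o, .z, .z, .o, .w, .w, .w, .v, .z, .o], [.z, .z, .v, .z, .z, .w, .z, .z, .z, .o, .z, .z, .v, .z], [.o, .v, .v, .o, .v, .w, .z, .w, .v, .v, .w, .o, .z, .w], [.v, .z, .z, .v, .o, .v, .w, .o, .z, .z, .o, .w, .o, .v], [.o, .o, .w, .v, .w, .w,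 .o, .w, .o, .o, .v, .o, .z, .v], [.o, .o, .o, .w, .w, .v, .z, .z, .z, .v, .v, .z, .w, .z], [.o, .z, .v, .w, .w, .z, .o, .w, .z, .o, .v, .v, .z, .w], [.z, .w, .w, .v, .w, .o, .z, .v, .v, .z, .w, .o, .v, .w]]
theorem n1312 : InR N1312 := inR_mul (inR_gen .e) n1176 (by decide +kernel)
/-- a product -/
def N1322 : List (List GF4) := [[.o, .z, .z, .z, .z, .z, .z, .z, .z, .w, .v, .z, .w, .w], [.z, .o, .z, .z, .z, .z, .z, .z, .z, .z, .v, .o, .z, .v], [.v, .w, .o, .z, .v, .o, .w, .z, .o, .o, .o, .o, .o, .z], [.z, .w, .z, .o, .w, .v, .o, .o, .o, .v, .v, .v, .w, .o], [.w, .z, .z, .z, .w, .z, .z, .o, .v, .v, .v, .z, .o, .w], [.w, .w, .z, .z, .z, .v, .z, .o, .z, .v, .o, .o, .w, .v], [.z, .o, .z, .z, .z, .z, .v, .z, .w, .w, .v, .o, .w, .v], [.z, .z, .z, .z, .z, .z, .z, .o, .z, .v, .z, .w, .o, .o], [.z, .z, .z, .z, .z, .z, .z, .z, .o, .z, .w,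 .v, .o, .z], [.z, .z, .z, .z, .z, .z, .z, .z, .z, .w, .z, .z, .w, .v], [.z, .z, .z, .z, .z, .z, .z, .z, .z, .z, .w, .z, .o, .w], [.z, .z, .z, .z, .z, .z, .z, .z, .z, .z, .z, .v, .o, .w], [.z, .z, .z, .z, .z, .z, .z, .z, .z, .z, .z, .z, .o, .z], [.z, .z, .z, .z, .z, .z, .z, .z, .z, .z, .z, .z, .z, .o]]
theorem n1322 : InR N1322 := inR_mul n908 n1180 (by decide +kernel)
/-- a product -/
def N1382 : List (List GF4) := [[.z, .w, .v, .w, .z, .v, .z, .w, .w, .v, .w, .v, .o, .v], [.o, .o, .v, .o, .v, .v, .v, .w, .o, .o, .w, .v, .o, .o], [.v, .o, .z, .v, .v, .v, .w, .v, .w, .o, .v, .z, .w, .o], [.z, .v, .w, .v, .w, .w, .o, .o, .z, .v, .w, .z, .o, .v], [.o, .w, .w, .z, .w, .o, .v, .o, .v, .v, .w, .z, .v, .w], [.z, .w, .w, .v, .w, .w, .z, .o, .v, .w, .o, .w, .v, .w], [.o, .w, .z, .v, .v, .z, .v, .z, .o, .w, .o, .o, .v, .w], [.z, .o, .w, .o,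 .v, .z, .o, .z, .o, .z, .w, .z, .z, .v], [.w, .w, .z, .v, .z, .z, .v, .z, .w, .z, .v, .w, .o, .w], [.w, .o, .v, .v, .z, .w, .v, .w, .v, .v, .v, .z, .o, .w], [.w, .w, .z, .v, .z, .z, .w, .z, .v, .z, .v, .o, .o, .z], [.z, .o, .z, .w, .o, .z, .w, .z, .w, .v, .v, .z, .z, .w], [.z, .o, .o, .z, .z, .o, .z, .v, .z, .o, .z, .o, .w, .o], [.v, .v, .z, .o, .z, .z, .o, .z, .o, .z, .o, .v, .w, .w]]
theorem n1382 : InR N1382 := inR_mul n908 n1242 (by decide +kernel)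
/-- a product -/
def N1388 : List (List GF4) := [[.z, .w, .z, .w, .v, .v, .w, .o, .o, .o, .z, .v, .w, .w], [.v, .v, .z, .w, .o, .v, .w, .w, .w, .o, .z, .o, .w, .w], [.w, .z, .v, .z, .w, .v, .o, .z, .v, .v, .z, .w, .v, .o], [.w, .v, .v, .w, .o, .w, .v, .w, .w, .w, .z, .o, .v, .v], [.z, .z, .o, .z, .z, .o, .w, .w, .z, .z, .z, .v, .z, .z], [.w, .v, .w, .z, .o, .v, .v, .w, .w, .v, .w, .o, .w, .v], [.v, .z, .z, .o, .w, .w, .w, .v, .o, .z, .o, .v, .w, .w], [.w, .z, .v, .z, .w, .v, .o, .w, .v, .w, .z, .o, .w, .v], [.w, .z, .z, .w, .o, .v, .v, .w, .w, .z, .z, .z, .z, .z], [.v, .z, .z, .z, .v, .z, .z, .o, .o, .o, .z, .o, .o, .w], [.v, .o, .z, .v, .w, .o, .v, .v, .v, .v, .z, .w, .o, .o], [.o, .z, .z, .o, .v, .w, .w, .o, .v, .z, .v, .v, .o, .o], [.w, .v, .z, .w, .o, .v, .w, .w, .w, .w, .v, .o, .w, .z], [.z, .z, .z, .z, .z, .z, .z, .z, .v, .z,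 .w, .o, .v, .v]]
theorem n1388 : InR N1388 := inR_mul n908 n1248 (by decide +kernel)
/-- a product -/
def N1472 : List (List GF4) := [[.v, .o, .z, .z, .w, .z, .z, .v, .v, .z, .z, .w, .z, .z], [.v, .v, .z, .w, .o, .v, .w, .w, .w, .o, .z, .o, .w, .w], [.w, .z, .v, .z, .w, .v, .o, .z, .v, .v, .z, .w, .v, .o], [.w, .z, .v, .z, .w, .v, .o, .w, .v, .w, .z, .o, .w, .v], [.v, .o, .v, .z, .w, .o, .o, .v, .v, .o, .v, .w, .v, .o], [.z, .z, .v, .z, .z, .v, .o, .o, .z, .z, .z, .w, .z, .z], [.w, .z, .z, .z, .w, .z, .z, .v, .v, .v, .z, .v, .v, .o], [.w, .v, .v, .w, .o, .w, .v, .w, .w, .w, .z, .o, .v, .v], [.w, .v, .z, .w, .o, .v, .w, .w, .w, .w, .v, .o, .w, .z], [.o, .z, .z, .w, .v, .v, .v, .o, .w, .z, .w, .o, .v, .v], [.w, .z, .z, .w, .o, .v, .v, .w, .o, .z, .o, .o, .w, .w], [.w, .v, .z, .w, .o, .v, .w, .w, .w, .w, .z, .o, .v, .v], [.w, .z, .z,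 .w, .o, .v, .v, .w, .w, .z, .z, .z, .z, .z], [.z, .z, .z, .z, .z, .z, .z, .z, .v, .z, .w, .o, .v, .v]]
theorem n1472 : InR N1472 := inR_mul (inR_gen .e) n1388 (by decide +kernel)
/-- a product -/
def N1585 : List (List GF4) := [[.o, .w, .o, .z, .z, .z, .z, .z, .z, .z, .z, .z, .z, .o], [.z, .o, .z, .z, .z, .z, .z, .z, .z, .z, .z, .z, .z, .z], [.z, .v, .w, .z, .z, .z, .z, .z, .z, .z, .z, .z, .z, .o], [.z, .z, .z, .v, .z, .z, .z, .z, .o, .z, .z, .z, .z, .z], [.z, .z, .z, .z, .v, .z, .z, .z, .z, .z, .o, .z, .z, .z], [.z, .z, .z, .z, .z, .v, .z, .z, .z, .z, .z, .o, .z, .z], [.z, .z, .z, .z, .z, .z, .o, .z, .z, .z, .z, .z, .z, .z], [.z, .z, .z, .z, .z, .z, .z, .v, .z, .z, .z, .z, .o, .z], [.z, .z, .z, .w, .z, .z, .z, .z, .o, .z, .z, .z, .z, .z], [.z, .z, .z, .z, .z, .z, .z, .z, .z, .o, .z, .z, .z, .z], [.z, .z, .z, .z, .w, .z, .z, .z,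 .z, .z, .o, .z, .z, .z], [.z, .z, .z, .z, .z, .w, .z, .z, .z, .z, .z, .o, .z, .z], [.z, .z, .z, .z, .z, .z, .z, .w, .z, .z, .z, .z, .o, .z], [.z, .w, .v, .z, .z, .z, .z, .z, .z, .z, .z, .z, .z, .o]]
theorem n1585 : InR N1585 := inR_mul (inR_gen .a) n631 (by decide +kernel)
/-- a product -/
def N1586 : List (List GF4) := [[.o, .w, .w, .z, .z, .z, .z, .z, .z, .z, .z, .z, .z, .v], [.z, .o, .z, .z, .z, .z, .z, .z, .z, .z, .z, .z, .z, .z], [.z, .o, .o, .z, .z, .z, .z, .z, .z, .z, .z, .z, .z, .o], [.z, .z, .z, .o, .z, .z, .z, .z, .o, .z, .z, .z, .z, .z], [.z, .z, .z, .z, .o, .z, .z, .z, .z, .z, .o, .z, .z, .z], [.z, .z, .z, .z, .z, .o, .z, .z, .z, .z, .z, .o, .z, .z], [.z, .z, .z, .z, .z, .z, .o, .z, .z, .z, .z, .z, .z, .z], [.z, .z, .z, .z, .z, .z, .z, .o, .z, .z, .z, .z, .o, .z], [.z, .z, .z, .w, .z, .z, .z, .z, .v, .z, .z, .z, .z, .z],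 [.z, .z, .z, .z, .z, .z, .z, .z, .z, .o, .z, .z, .z, .z], [.z, .z, .z, .z, .w, .z, .z, .z, .z, .z, .v, .z, .z, .z], [.z, .z, .z, .z, .z, .w, .z, .z, .z, .z, .z, .v, .z, .z], [.z, .z, .z, .z, .z, .z, .z, .w, .z, .z, .z, .z, .v, .z], [.z, .o, .v, .z, .z, .z, .z, .z, .z, .z, .z, .z, .z, .w]]
theorem n1586 : InR N1586 := inR_mul n630 (inR_gen .a) (by decide +kernel)
/-- a product -/
def N1587 : List (List GF4) := [[.o, .v, .o, .z, .z, .z, .z, .z, .z, .z, .z, .z, .z, .o], [.z, .o, .z, .z, .z, .z, .z, .z, .z, .z, .z, .z, .z, .z], [.z, .v, .w, .z, .z, .z, .z, .z, .z, .z, .z, .z, .z, .o], [.z, .z, .z, .z, .z, .z, .z, .v, .z, .z, .z, .z, .o, .z], [.z, .z, .z, .z, .z, .v, .z, .z, .z, .z, .z, .o, .z, .z], [.z, .z, .z, .z, .v, .z, .z, .z, .z, .z, .o, .z, .z, .z], [.z, .z, .z, .z, .z, .z, .z, .z, .z, .o, .z, .z, .z, .z], [.z, .z, .z, .v, .z,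 .z, .z, .z, .o, .z, .z, .z, .z, .z], [.z, .z, .z, .z, .z, .z, .z, .w, .z, .z, .z, .z, .o, .z], [.z, .z, .z, .z, .z, .z, .o, .z, .z, .z, .z, .z, .z, .z], [.z, .z, .z, .z, .z, .w, .z, .z, .z, .z, .z, .o, .z, .z], [.z, .z, .z, .z, .w, .z, .z, .z, .z, .z, .o, .z, .z, .z], [.z, .z, .z, .w, .z, .z, .z, .z, .o, .z, .z, .z, .z, .z], [.z, .w, .v, .z, .z, .z, .z, .z, .z, .z, .z, .z, .z, .o]]
theorem n1587 : InR N1587 := inR_mul (inR_gen .d) n1585 (by decide +kernel)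
/-- a product -/
def N1588 : List (List GF4) := [[.o, .v, .w, .z, .z, .z, .z, .z, .z, .z, .z, .z, .z, .v], [.z, .o, .z, .z, .z, .z, .z, .z, .z, .z, .z, .z, .z, .z], [.z, .o, .o, .z, .z, .z, .z, .z, .z, .z, .z, .z, .z, .o], [.z, .z, .z, .z, .z, .z, .z, .o, .z, .z, .z, .z, .o, .z], [.z, .z, .z, .z, .z, .o, .z, .z, .z, .z, .z, .o, .z, .z], [.z, .z, .z, .z, .o, .z, .z, .z, .z, .z, .o, .z, .z, .z], [.z, .z, .z, .z, .z, .z, .z, .z, .z, .o, .z, .z, .z, .z], [.z, .z, .z, .o, .z, .z, .z, .z, .o, .z, .z, .z, .z, .z], [.z, .z, .z, .z, .z, .z, .z, .w, .z, .z, .z, .z, .v, .z], [.z, .z, .z, .z, .z, .z, .o, .z, .z, .z, .z, .z, .z, .z], [.z, .z, .z, .z, .z, .w, .z, .z, .z, .z, .z, .v, .z, .z], [.z, .z, .z, .z, .w, .z, .z, .z, .z, .z, .v, .z, .z, .z], [.z, .z, .z, .w, .z, .z, .z, .z, .v, .z, .z, .z, .z, .z], [.z, .o, .v, .z, .z, .z, .z, .z, .z, .z,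 .z, .z, .z, .w]]
theorem n1588 : InR N1588 := inR_mul n1586 (inR_gen .d) (by decide +kernel)
/-- a product -/
def N1589 : List (List GF4) := [[.o, .w, .o, .z, .z, .z, .z, .z, .z, .z, .z, .z, .z, .o], [.z, .o, .z, .z, .z, .z, .z, .z, .z, .z, .z, .z, .z, .z], [.z, .v, .o, .z, .z, .z, .z, .z, .z, .z, .z, .z, .z, .w], [.z, .z, .z, .z, .z, .z, .z, .o, .z, .z, .z, .z, .v, .z], [.z, .z, .z, .z, .z, .o, .z, .z, .z, .z, .z, .v, .z, .z], [.z, .z, .z, .z, .o, .z, .z, .z, .z, .z, .v, .z, .z, .z], [.z, .z, .z, .z, .z, .z, .z, .z, .z, .o, .z, .z, .z, .z], [.z, .z, .z, .o, .z, .z, .z, .z, .v, .z, .z, .z, .z, .z], [.z, .z, .z, .z, .z, .z, .z, .o, .z, .z, .z, .z, .w, .z], [.z, .z, .z, .z, .z, .z, .o, .z, .z, .z, .z, .z, .z, .z], [.z, .z, .z, .z, .z, .o, .z, .z, .z, .z, .z, .w, .z, .z], [.z, .z, .z, .z, .o, .z, .z, .z, .z, .z, .w, .z, .z, .z], [.z,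 .z, .z, .o, .z, .z, .z, .z, .w, .z, .z, .z, .z, .z], [.z, .w, .o, .z, .z, .z, .z, .z, .z, .z, .z, .z, .z, .v]]
theorem n1589 : InR N1589 := inR_mul (inR_gen .b) n1587 (by decide +kernel)
/-- a product -/
def N1590 : List (List GF4) := [[.o, .w, .w, .z, .z, .z, .z, .z, .z, .z, .z, .z, .z, .v], [.z, .o, .z, .z, .z, .z, .z, .z, .z, .z, .z, .z, .z, .z], [.z, .o, .v, .z, .z, .z, .z, .z, .z, .z, .z, .z, .z, .w], [.z, .z, .z, .z, .z, .z, .z, .w, .z, .z, .z, .z, .v, .z], [.z, .z, .z, .z, .z, .w, .z, .z, .z, .z, .z, .v, .z, .z], [.z, .z, .z, .z, .w, .z, .z, .z, .z, .z, .v, .z, .z, .z], [.z, .z, .z, .z, .z, .z, .z, .z, .z, .o, .z, .z, .z, .z], [.z, .z, .z, .w, .z, .z, .z, .z, .v, .z, .z, .z, .z, .z], [.z, .z, .z, .z, .z, .z, .z, .o, .z, .z, .z, .z, .o, .z], [.z, .z, .z, .z, .z, .z, .o, .z, .z, .z, .z, .z, .z, .z], [.z, .z, .z, .z, .z, .o,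 .z, .z, .z, .z, .z, .o, .z, .z], [.z, .z, .z, .z, .o, .z, .z, .z, .z, .z, .o, .z, .z, .z], [.z, .z, .z, .o, .z, .z, .z, .z, .o, .z, .z, .z, .z, .z], [.z, .o, .o, .z, .z, .z, .z, .z, .z, .z, .z, .z, .z, .o]]
theorem n1590 : InR N1590 := inR_mul n1588 (inR_gen .b) (by decide +kernel)
/-- a product -/
def N1591 : List (List GF4) := [[.o, .v, .v, .z, .o, .z, .z, .z, .z, .z, .v, .z, .z, .w], [.z, .w, .o, .z, .o, .o, .z, .z, .z, .z, .v, .v, .z, .w], [.z, .v, .o, .z, .z, .z, .z, .z, .z, .z, .z, .z, .z, .w], [.z, .z, .z, .z, .z, .z, .z, .o, .z, .z, .z, .z, .v, .z], [.z, .v, .o, .z, .z, .o, .z, .z, .z, .z, .z, .v, .z, .w], [.z, .v, .o, .z, .o, .z, .z, .z, .z, .z, .v, .z, .z, .w], [.z, .v, .o, .z, .z, .z, .z, .o, .z, .o, .z, .z, .v, .w], [.z, .z, .z, .o, .z, .z, .z, .z, .v, .z, .z, .z, .z, .z], [.z, .v, .o, .z, .z, .o, .z, .v, .z, .o, .z,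 .v, .v, .w], [.z, .v, .o, .o, .z, .z, .o, .z, .v, .z, .z, .z, .z, .w], [.o, .w, .v, .z, .o, .v, .z, .o, .z, .z, .v, .v, .v, .w], [.o, .z, .w, .o, .w, .o, .z, .z, .v, .z, .z, .v, .z, .z], [.z, .v, .o, .w, .o, .z, .o, .z, .z, .z, .v, .z, .z, .w], [.o, .v, .z, .o, .w, .v, .o, .o, .v, .o, .z, .v, .v, .w]]
theorem n1591 : InR N1591 := inR_mul n919 n1589 (by decide +kernel)
/-- a product -/
def N1592 : List (List GF4) := [[.w, .v, .v, .v, .z, .w, .v, .v, .z, .v, .v, .v, .z, .v], [.z, .o, .o, .z, .o, .o, .z, .z, .z, .z, .z, .z, .z, .z], [.w, .w, .w, .w, .z, .w, .w, .w, .z, .w, .w, .w, .z, .w], [.z, .z, .v, .z, .z, .v, .z, .v, .z, .v, .z, .z, .v, .z], [.v, .z, .v, .z, .v, .v, .z, .v, .z, .z, .z, .v, .z, .z], [.v, .v, .z, .v, .z, .v, .z, .z, .z, .z, .v, .z, .z, .z], [.z, .z, .o, .z, .z, .z, .z, .o, .z, .o, .z, .z, .z, .z], [.z, .z, .v, .z,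 .v, .z, .v, .z, .v, .z, .z, .z, .z, .z], [.z, .z, .o, .z, .z, .o, .z, .v, .z, .o, .z, .z, .o, .z], [.z, .z, .o, .o, .z, .z, .o, .z, .z, .z, .z, .z, .z, .z], [.o, .z, .v, .z, .o, .v, .z, .o, .z, .z, .z, .o, .z, .z], [.o, .o, .w, .o, .w, .o, .z, .z, .z, .z, .o, .z, .z, .z], [.z, .z, .o, .w, .o, .z, .o, .z, .o, .z, .z, .z, .z, .z], [.o, .v, .z, .o, .w, .v, .o, .o, .z, .o, .o, .o, .z, .o]]
theorem n1592 : InR N1592 := inR_mul n1590 n918 (by decide +kernel)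
/-- a product -/
def N1593 : List (List GF4) := [[.o, .w, .v, .z, .z, .w, .z, .z, .z, .z, .z, .o, .z, .w], [.z, .w, .o, .z, .v, .w, .z, .z, .z, .z, .w, .o, .z, .w], [.z, .v, .o, .z, .z, .z, .z, .z, .z, .z, .z, .z, .z, .w], [.z, .z, .z, .o, .z, .z, .z, .z, .v, .z, .z, .z, .z, .z], [.z, .v, .o, .z, .v, .z, .z, .z, .z, .z, .w, .z, .z, .w], [.z, .v, .o, .z, .z, .w, .z, .z, .z, .z, .z, .o, .z, .w], [.z, .v, .o, .o, .z, .z, .w, .z, .v, .z, .z, .z, .z, .w], [.z, .z, .z, .z, .z, .z, .z, .o, .z, .z, .z, .z, .v, .z], [.z, .v, .o, .v, .v, .z, .w, .z, .v, .z, .w, .z, .z, .w], [.z, .v, .o, .z, .z, .z, .z, .o, .z, .v, .z, .z, .v, .w], [.o, .v, .v, .o, .w, .w, .z, .z, .v, .z, .w, .o, .z, .w], [.o, .o, .w, .z, .v, .v, .z, .o, .z, .z, .w, .z, .v, .z], [.z, .v, .o, .z, .z, .w, .z, .w, .z, .v, .z, .o, .z, .w], [.o, .w, .z, .o, .w, .v, .w, .o, .v, .v,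 .w, .z, .v, .w]]
theorem n1593 : InR N1593 := inR_mul n1591 (inR_gen .e) (by decide +kernel)
/-- a product -/
def N1595 : List (List GF4) := [[.o, .o, .w, .z, .z, .o, .z, .z, .z, .z, .z, .v, .z, .z], [.z, .w, .o, .z, .o, .o, .z, .z, .z, .z, .v, .v, .z, .w], [.z, .v, .o, .z, .z, .z, .z, .z, .z, .z, .z, .z, .z, .w], [.z, .z, .z, .o, .z, .z, .z, .z, .v, .z, .z, .z, .z, .z], [.z, .o, .w, .z, .w, .z, .z, .z, .z, .z, .o, .z, .z, .v], [.z, .w, .v, .z, .z, .v, .z, .z, .z, .z, .z, .w, .z, .o], [.z, .w, .v, .v, .z, .z, .v, .z, .w, .z, .z, .z, .z, .o], [.z, .z, .z, .z, .z, .z, .z, .o, .z, .z, .z, .z, .v, .z], [.z, .v, .o, .w, .o, .z, .o, .z, .z, .z, .v, .z, .z, .w], [.z, .o, .w, .z, .z, .z, .z, .w, .z, .w, .z, .z, .o, .v], [.w, .z, .v, .w, .v, .w, .z, .z, .o, .z, .z, .o, .z, .z], [.v, .o, .w, .z, .v, .w, .z, .v, .z, .z, .w, .w, .w, .o], [.z,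 .v, .o, .z, .z, .o, .z, .v, .z, .o, .z, .v, .v, .w], [.o, .v, .z, .o, .w, .v, .o, .o, .v, .o, .z, .v, .v, .w]]
theorem n1595 : InR N1595 := inR_mul (inR_gen .e) n1591 (by decide +kernel)
/-- a product -/
def N1596 : List (List GF4) := [[.w, .o, .v, .v, .o, .z, .o, .v, .z, .w, .w, .o, .z, .v], [.z, .o, .o, .z, .v, .w, .z, .z, .z, .z, .z, .z, .z, .z], [.w, .z, .w, .w, .o, .z, .v, .w, .z, .o, .o, .v, .z, .w], [.z, .z, .v, .v, .w, .z, .o, .z, .v, .z, .z, .z, .z, .z], [.v, .v, .v, .v, .w, .o, .z, .z, .z, .z, .w, .z, .z, .z], [.v, .z, .z, .z, .w, .z, .z, .v, .z, .z, .z, .o, .z, .z], [.z, .z, .o, .o, .z, .z, .w, .z, .z, .z, .z, .z, .z, .z], [.z, .z, .v, .z, .z, .o, .z, .z, .z, .w, .z, .z, .v, .z], [.z, .z, .o, .v, .v, .z, .w, .z, .o, .z, .z, .z, .z, .z], [.z, .z, .o, .z, .z, .z, .z, .o, .z, .v, .z, .z, .z, .z], [.o, .o, .v, .o, .w, .w,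 .z, .z, .z, .z, .v, .z, .z, .z], [.o, .z, .w, .z, .v, .v, .z, .o, .z, .z, .z, .w, .z, .z], [.z, .z, .o, .z, .z, .w, .z, .w, .z, .v, .z, .z, .o, .z], [.o, .w, .z, .o, .w, .v, .w, .o, .z, .v, .v, .w, .z, .o]]
theorem n1596 : InR N1596 := inR_mul n1592 (inR_gen .e) (by decide +kernel)
/-- a product -/
def N1597 : List (List GF4) := [[.w, .o, .v, .v, .z, .w, .v, .v, .w, .v, .v, .w, .w, .v], [.z, .w, .o, .z, .o, .o, .z, .z, .z, .z, .v, .v, .z, .w], [.w, .v, .w, .w, .z, .w, .w, .w, .o, .w, .w, .v, .o, .z], [.z, .w, .v, .z, .z, .v, .z, .v, .z, .v, .z, .w, .o, .o], [.v, .w, .v, .z, .v, .v, .z, .v, .z, .z, .w, .o, .w, .v], [.v, .v, .z, .v, .z, .v, .z, .z, .w, .z, .v, .w, .z, .w], [.z, .v, .o, .z, .z, .z, .z, .o, .z, .o, .z, .z, .v, .w], [.z, .w, .v, .z, .v, .z, .v, .z, .v, .z, .w, .z, .z, .o], [.z, .v, .o, .z, .z, .o, .z, .v, .z, .o, .z,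 .v, .v, .w], [.z, .v, .o, .o, .z, .z, .o, .z, .v, .z, .z, .z, .z, .w], [.o, .w, .v, .z, .o, .v, .z, .o, .z, .z, .v, .v, .v, .w], [.o, .z, .w, .o, .w, .o, .z, .z, .v, .z, .z, .v, .z, .z], [.z, .v, .o, .w, .o, .z, .o, .z, .z, .z, .v, .z, .z, .w], [.o, .v, .z, .o, .w, .v, .o, .o, .v, .o, .z, .v, .v, .w]]
theorem n1597 : InR N1597 := inR_mul (inR_gen .f) n1591 (by decide +kernel)
/-- a product -/
def N1599 : List (List GF4) := [[.z, .v, .z, .w, .w, .o, .w, .o, .o, .w, .v, .w, .v, .w], [.w, .z, .z, .o, .w, .v, .w, .o, .v, .w, .z, .v, .v, .v], [.w, .v, .w, .w, .z, .w, .w, .w, .o, .w, .w, .v, .o, .z], [.z, .w, .v, .z, .v, .z, .v, .z, .v, .z, .w, .z, .z, .o], [.o, .z, .w, .o, .z, .o, .w, .w, .v, .w, .o, .o, .o, .w], [.o, .o, .o, .w, .v, .o, .w, .o, .o, .w, .z, .w, .v, .v], [.w, .w, .z, .v, .v, .w, .z, .w, .o, .w, .z, .v, .o, .v], [.z, .w,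 .v, .z, .z, .v, .z, .v, .z, .v, .z, .w, .o, .o], [.o, .o, .z, .w, .v, .o, .z, .w, .w, .w, .v, .o, .o, .o], [.w, .w, .z, .w, .z, .o, .w, .z, .o, .z, .w, .o, .v, .v], [.v, .o, .z, .o, .w, .v, .o, .o, .z, .w, .z, .v, .v, .z], [.w, .w, .z, .v, .o, .w, .z, .v, .w, .v, .z, .o, .o, .o], [.o, .w, .z, .w, .v, .o, .w, .w, .o, .v, .z, .w, .o, .o], [.z, .z, .z, .z, .z, .z, .z, .z, .v, .z, .o, .w, .v, .w]]
theorem n1599 : InR N1599 := inR_mul n1591 n1591 (by decide +kernel)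

end Cfsg.Agent.Helper28.G2
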