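import Cfsg.Agent.Helper28.G2.Slp1

/-!
# Elements of the image of the presented group in the Chevalley group of type `G₂` (helper28; generated)

A chain of products of the matrices of the generators, leading to the matrices of the root elements.
-/

set_option autoImplicit false

namespace Cfsg.Agent.Helper28.G2

open Cfsg.Agent.Helper28 Matrix

/-- a product -/
def N1600 : List (List GF4) := [[.z, .v, .z, .w, .w, .o, .w, .o, .w, .w, .o, .z, .w, .v], [.w, .z, .z, .o, .w, .v, .w, .o, .z, .w, .o, .o, .z, .w], [.v, .w, .w, .o, .o, .z, .v, .o, .o, .v, .v, .w, .o, .z], [.v, .v, .v, .o, .o, .v, .v, .o, .o, .o, .v, .o, .z, .o], [.v, .w, .w, .w, .o, .v, .o, .o, .w, .v, .w, .o, .z, .v], [.z, .v, .o, .z, .z, .z, .w, .v, .z, .z, .z, .o, .w, .w], [.w, .w, .z, .v, .v, .w, .z, .w, .v, .w, .w, .w, .z, .w], [.v, .o, .v, .o, .w, .z, .o, .w, .z, .o,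 .o, .v, .v, .o], [.o, .o, .z, .w, .v, .o, .z, .w, .v, .w, .o, .w, .z, .w], [.w, .w, .z, .w, .z, .o, .w, .z, .z, .z, .w, .w, .v, .w], [.v, .o, .z, .o, .w, .v, .o, .o, .v, .w, .o, .o, .z, .w], [.w, .w, .z, .v, .o, .w, .z, .v, .z, .v, .v, .z, .v, .z], [.o, .w, .z, .w, .v, .o, .w, .w, .z, .v, .w, .o, .z, .w], [.z, .z, .z, .z, .z, .z, .z, .z, .v, .z, .o, .w, .v, .w]]
theorem n1600 : InR N1600 := inR_mul n1592 n1592 (by decide +kernel)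
/-- a product -/
def N1601 : List (List GF4) := [[.o, .z, .w, .z, .v, .z, .z, .z, .z, .z, .w, .z, .z, .z], [.z, .w, .o, .z, .v, .w, .z, .z, .z, .z, .w, .o, .z, .w], [.z, .v, .o, .z, .z, .z, .z, .z, .z, .z, .z, .z, .z, .w], [.z, .z, .z, .z, .z, .z, .z, .o, .z, .z, .z, .z, .v, .z], [.z, .o, .w, .z, .z, .v, .z, .z, .z, .z, .z, .w, .z, .v], [.z, .w, .v, .z, .w, .z, .z, .z, .z, .z, .o, .z, .z, .o], [.z, .w, .v, .z, .z, .z, .z, .v, .z, .w, .z, .z, .w, .o], [.z, .z, .z, .o, .z, .z, .z, .z, .v, .z, .z, .z, .z, .z], [.z, .v, .o, .z, .z, .w, .z, .w, .z, .v, .z, .o, .z, .w], [.z, .o, .w, .w, .z, .z, .v, .z, .o, .z, .z, .z, .z, .v], [.w, .w, .v, .z, .o, .o, .z, .w, .z, .z, .v, .z, .o, .z], [.v, .w, .w, .v, .o, .o, .z, .z, .w, .z, .o, .v, .z, .o], [.z, .v, .o, .v, .v, .z, .w, .z, .v, .z, .w, .z, .z, .w], [.o, .w, .z, .o, .w, .v, .w, .o, .v, .v,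 .w, .z, .v, .w]]
theorem n1601 : InR N1601 := inR_mul (inR_gen .e) n1593 (by decide +kernel)
/-- a product -/
def N1605 : List (List GF4) := [[.z, .v, .z, .o, .v, .v, .v, .w, .v, .o, .o, .o, .o, .w], [.w, .w, .z, .o, .w, .v, .v, .o, .v, .o, .w, .z, .v, .v], [.w, .o, .w, .w, .o, .z, .v, .w, .o, .o, .w, .v, .o, .z], [.z, .w, .v, .z, .z, .o, .z, .z, .z, .w, .z, .v, .v, .o], [.o, .o, .w, .w, .v, .z, .v, .o, .o, .o, .v, .w, .v, .w], [.o, .z, .o, .o, .v, .o, .v, .w, .v, .o, .o, .z, .o, .v], [.w, .z, .z, .w, .o, .o, .v, .v, .o, .z, .w, .z, .o, .v], [.z, .w, .v, .v, .w, .z, .o, .z, .o, .z, .o, .z, .z, .o], [.o, .z, .z, .w, .v, .o, .v, .w, .o, .z, .v, .o, .w, .o], [.w, .z, .z, .z, .v, .z, .z, .w, .v, .o, .v, .v, .o, .v], [.v, .w, .z, .o, .w, .v, .v, .o, .v, .v, .w, .z, .z, .z], [.w, .z, .z, .v, .o, .w, .o, .v, .o, .z, .v, .z, .w, .o], [.o,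 .v, .z, .w, .v, .o, .o, .w, .o, .o, .o, .z, .o, .o], [.z, .z, .z, .z, .z, .z, .z, .z, .v, .z, .o, .w, .v, .w]]
theorem n1605 : InR N1605 := inR_mul n1591 n1593 (by decide +kernel)
/-- a product -/
def N1609 : List (List GF4) := [[.w, .w, .w, .v, .z, .w, .w, .w, .w, .w, .v, .v, .o, .z], [.o, .o, .o, .v, .v, .z, .w, .z, .w, .w, .o, .z, .z, .v], [.w, .v, .w, .w, .z, .w, .w, .w, .o, .w, .w, .v, .o, .z], [.z, .w, .v, .z, .z, .v, .z, .v, .z, .v, .z, .w, .o, .o], [.z, .w, .z, .w, .w, .z, .w, .z, .o, .w, .v, .z, .z, .w], [.v, .w, .w, .v, .z, .v, .w, .w, .w, .w, .v, .z, .o, .v], [.w, .z, .v, .w, .z, .o, .w, .v, .o, .v, .w, .o, .o, .w], [.z, .w, .v, .z, .v, .z, .v, .z, .v, .z, .w, .z, .z, .o], [.z, .o, .o, .w, .w, .v, .w, .v, .o, .v, .v, .w, .o, .z], [.w, .v, .w, .o, .v, .w, .w, .w, .z, .w, .z, .v, .o, .z], [.z, .z, .v, .v, .v, .v, .w, .v,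 .w, .o, .o, .w, .o, .v], [.v, .o, .w, .z, .w, .v, .v, .w, .v, .z, .o, .z, .o, .o], [.v, .z, .o, .w, .z, .v, .o, .w, .o, .w, .v, .z, .o, .w], [.o, .w, .z, .o, .w, .v, .w, .o, .z, .v, .v, .w, .z, .o]]
theorem n1609 : InR N1609 := inR_mul n1591 n1595 (by decide +kernel)
/-- a product -/
def N1610 : List (List GF4) := [[.o, .w, .w, .z, .o, .z, .v, .o, .w, .z, .w, .w, .w, .v], [.o, .w, .o, .v, .v, .z, .w, .z, .z, .w, .v, .z, .z, .w], [.v, .z, .o, .w, .o, .v, .z, .z, .o, .w, .v, .w, .o, .z], [.z, .o, .z, .o, .o, .o, .o, .o, .z, .o, .o, .z, .o, .o], [.z, .v, .w, .z, .z, .w, .v, .w, .z, .o, .z, .z, .w, .v], [.o, .v, .v, .v, .o, .o, .z, .v, .w, .w, .v, .v, .z, .w], [.w, .w, .v, .w, .z, .o, .w, .v, .z, .v, .w, .w, .v, .w], [.w, .w, .z, .o, .v, .w, .z, .o, .v, .o, .w, .o, .z, .o], [.z, .w, .o, .w, .w, .v, .w, .v, .z, .v, .w, .z, .v, .w], [.w,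 .w, .w, .o, .v, .w, .w, .w, .v, .w, .w, .w, .z, .w], [.z, .w, .v, .v, .v, .v, .w, .v, .z, .o, .v, .z, .v, .w], [.v, .z, .w, .z, .w, .v, .v, .w, .v, .z, .z, .w, .z, .z], [.v, .v, .o, .w, .z, .v, .o, .w, .z, .w, .v, .w, .z, .w], [.o, .w, .z, .o, .w, .v, .w, .o, .v, .v, .w, .z, .v, .w]]
theorem n1610 : InR N1610 := inR_mul n1596 n1592 (by decide +kernel)
/-- a product -/
def N1611 : List (List GF4) := [[.w, .v, .z, .v, .z, .w, .z, .z, .w, .z, .v, .o, .z, .o], [.w, .z, .z, .o, .w, .v, .w, .o, .v, .w, .z, .v, .v, .v], [.w, .v, .w, .w, .z, .w, .w, .w, .o, .w, .w, .v, .o, .z], [.z, .w, .v, .z, .z, .v, .z, .v, .z, .v, .z, .w, .o, .o], [.w, .w, .w, .v, .o, .w, .v, .w, .w, .v, .z, .v, .o, .o], [.v, .z, .o, .v, .z, .v, .o, .o, .w, .o, .v, .v, .v, .o], [.o, .o, .z, .o, .z, .v, .o, .z, .v, .z, .o, .v, .w, .w], [.z, .w, .v, .z, .v, .z, .v, .z,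 .v, .z, .w, .z, .z, .o], [.o, .w, .z, .w, .v, .o, .w, .w, .o, .v, .z, .w, .o, .o], [.v, .v, .z, .o, .o, .v, .z, .v, .w, .v, .z, .o, .w, .o], [.v, .v, .z, .o, .w, .v, .z, .o, .v, .o, .z, .w, .w, .w], [.w, .v, .z, .v, .o, .w, .v, .v, .z, .o, .z, .w, .w, .z], [.o, .o, .z, .w, .v, .o, .z, .w, .w, .w, .v, .o, .o, .o], [.z, .z, .z, .z, .z, .z, .z, .z, .v, .z, .o, .w, .v, .w]]
theorem n1611 : InR N1611 := inR_mul (inR_gen .e) n1599 (by decide +kernel)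
/-- a product -/
def N1615 : List (List GF4) := [[.v, .w, .v, .w, .w, .o, .v, .w, .w, .o, .o, .w, .z, .o], [.w, .z, .o, .w, .w, .z, .w, .w, .w, .w, .o, .v, .w, .z], [.v, .v, .w, .o, .o, .z, .v, .o, .w, .v, .z, .w, .w, .o], [.v, .v, .v, .o, .w, .z, .o, .w, .v, .o, .z, .v, .w, .w], [.v, .v, .v, .o, .o, .z, .o, .w, .w, .v, .z, .v, .w, .o], [.z, .z, .z, .v, .z, .v, .w, .z, .o, .z, .o, .o, .o, .v], [.w, .w, .o, .w, .v, .o, .z, .v, .z, .w, .w, .z, .v, .z], [.v, .o, .v, .o, .o, .v, .v, .o, .w, .o, .z, .v, .v, .w], [.w, .o, .o, .w, .v, .z, .w, .o, .z, .v, .w, .w, .o, .w], [.w, .z, .o, .v, .v, .o, .z, .w, .o, .z, .z, .w, .z, .z], [.z, .v, .v, .o, .v, .z, .o, .z, .z, .o, .o, .z, .z, .o], [.w, .v, .w, .w, .v, .v, .v, .v, .z, .v, .w, .v, .z, .v], [.w, .o, .o, .z, .w, .o, .v, .w, .o, .w, .w, .w, .z, .w], [.o, .v, .z, .o, .w, .v, .o, .o, .z, .o,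 .o, .o, .z, .o]]
theorem n1615 : InR N1615 := inR_mul n1591 n1599 (by decide +kernel)
/-- a product -/
def N1616 : List (List GF4) := [[.z, .w, .v, .o, .v, .v, .z, .o, .o, .w, .z, .v, .v, .v], [.w, .v, .o, .w, .w, .z, .w, .w, .v, .w, .z, .v, .v, .v], [.z, .o, .o, .w, .v, .o, .z, .w, .w, .z, .v, .o, .w, .o], [.w, .z, .z, .z, .z, .z, .z, .o, .v, .v, .o, .w, .w, .w], [.v, .w, .o, .w, .v, .z, .w, .w, .v, .z, .o, .v, .v, .w], [.o, .o, .o, .w, .w, .o, .z, .w, .z, .w, .o, .z, .z, .z], [.w, .o, .o, .w, .v, .o, .z, .v, .o, .w, .z, .v, .o, .v], [.w, .w, .z, .o, .z, .z, .o, .z, .w, .z, .o, .w, .v, .w], [.w, .w, .o, .w, .v, .z, .w, .o, .o, .v, .z, .w, .w, .o], [.w, .v, .o, .v, .v, .o, .z, .w, .v, .z, .w, .o, .o, .v], [.z, .o, .v, .o, .v, .z, .o, .z, .v, .o, .v, .z, .z, .z], [.w, .w, .w, .w, .v, .v, .v, .v, .o, .v, .z, .o, .w, .o], [.w, .w, .o,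 .z, .w, .o, .v, .w, .o, .w, .v, .o, .o, .o], [.o, .v, .z, .o, .w, .v, .o, .o, .v, .o, .z, .v, .v, .w]]
theorem n1616 : InR N1616 := inR_mul n1600 n1592 (by decide +kernel)
/-- a product -/
def N1619 : List (List GF4) := [[.w, .z, .w, .w, .o, .z, .v, .v, .o, .o, .w, .o, .w, .z], [.o, .z, .o, .z, .z, .o, .v, .v, .z, .o, .z, .w, .w, .v], [.w, .o, .w, .w, .o, .z, .v, .w, .o, .o, .w, .v, .o, .z], [.z, .w, .v, .v, .w, .z, .o, .z, .o, .z, .o, .z, .z, .o], [.z, .w, .z, .z, .z, .v, .v, .w, .z, .o, .z, .o, .o, .w], [.v, .o, .w, .w, .w, .z, .v, .v, .o, .o, .z, .o, .w, .v], [.w, .w, .v, .v, .v, .z, .o, .w, .o, .o, .v, .v, .o, .w], [.z, .w, .v, .z, .z, .o, .z, .z, .z, .w, .z, .v, .v, .o], [.z, .o, .o, .v, .w, .v, .o, .w, .o, .o, .o, .o, .o, .z], [.w, .o, .w, .w, .o, .o, .v, .o, .o, .o, .w, .z, .z, .z], [.z, .z, .v, .v, .w, .o, .w, .v, .o, .o,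 .o, .w, .w, .v], [.v, .w, .w, .w, .w, .v, .z, .z, .o, .w, .z, .w, .v, .o], [.v, .v, .o, .w, .w, .z, .v, .w, .o, .v, .z, .o, .o, .w], [.o, .v, .z, .o, .w, .v, .o, .o, .z, .o, .o, .o, .z, .o]]
theorem n1619 : InR N1619 := inR_mul n1591 n1601 (by decide +kernel)
/-- a product -/
def N1621 : List (List GF4) := [[.w, .o, .z, .z, .o, .z, .z, .v, .z, .z, .v, .o, .w, .o], [.w, .w, .z, .o, .w, .v, .v, .o, .v, .o, .w, .z, .v, .v], [.w, .o, .w, .w, .o, .z, .v, .w, .o, .o, .w, .v, .o, .z], [.z, .w, .v, .v, .w, .z, .o, .z, .o, .z, .o, .z, .z, .o], [.w, .z, .w, .w, .o, .w, .o, .v, .o, .w, .w, .z, .w, .o], [.v, .v, .o, .o, .w, .z, .w, .v, .v, .v, .w, .o, .w, .o], [.o, .z, .z, .z, .w, .z, .z, .o, .w, .v, .w, .w, .v, .w], [.z, .w, .v, .z, .z, .o, .z, .z, .z, .w, .z, .v, .v, .o], [.o, .v, .z, .w, .v, .o, .o, .w, .o, .o, .o, .z, .o, .o], [.v, .z, .z,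 .v, .w, .w, .o, .o, .w, .z, .v, .z, .w, .o], [.v, .z, .z, .o, .w, .v, .w, .o, .w, .z, .o, .z, .v, .w], [.w, .o, .z, .v, .o, .w, .w, .v, .w, .w, .o, .z, .z, .z], [.o, .z, .z, .w, .v, .o, .v, .w, .o, .z, .v, .o, .w, .o], [.z, .z, .z, .z, .z, .z, .z, .z, .v, .z, .o, .w, .v, .w]]
theorem n1621 : InR N1621 := inR_mul (inR_gen .e) n1605 (by decide +kernel)
/-- a product -/
def N1625 : List (List GF4) := [[.v, .o, .v, .w, .v, .v, .w, .w, .z, .w, .o, .w, .w, .o], [.w, .w, .o, .w, .z, .v, .v, .w, .w, .o, .w, .w, .w, .z], [.v, .z, .w, .o, .z, .w, .o, .o, .w, .w, .o, .z, .w, .o], [.v, .z, .v, .w, .z, .v, .w, .o, .w, .v, .w, .z, .v, .w], [.v, .z, .v, .w, .z, .w, .o, .o, .w, .v, .w, .z, .w, .o], [.z, .z, .z, .z, .w, .z, .z, .v, .o, .o, .v, .w, .o, .v], [.w, .z, .o, .v, .v, .o, .v, .w, .v, .z, .z, .v, .z, .z], [.v, .w, .v, .o, .w, .w, .w, .o,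 .v, .w, .w, .z, .w, .w], [.w, .v, .o, .o, .z, .o, .o, .w, .o, .o, .o, .v, .z, .w], [.w, .w, .o, .w, .v, .o, .z, .v, .z, .z, .o, .z, .o, .z], [.z, .v, .v, .z, .z, .o, .w, .o, .z, .v, .z, .w, .z, .o], [.w, .o, .w, .v, .w, .o, .o, .w, .z, .w, .w, .v, .z, .v], [.w, .v, .o, .w, .v, .v, .v, .z, .z, .w, .o, .v, .o, .w], [.o, .w, .z, .o, .w, .v, .w, .o, .z, .v, .v, .w, .z, .o]]
theorem n1625 : InR N1625 := inR_mul n1591 n1605 (by decide +kernel)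
/-- a product -/
def N1628 : List (List GF4) := [[.o, .v, .w, .o, .z, .w, .z, .z, .w, .w, .o, .v, .w, .v], [.o, .v, .o, .z, .z, .o, .v, .v, .z, .o, .z, .o, .z, .w], [.v, .v, .o, .z, .w, .w, .v, .w, .o, .z, .o, .o, .o, .z], [.z, .o, .z, .o, .v, .w, .w, .o, .o, .v, .z, .w, .z, .o], [.z, .v, .w, .w, .o, .z, .w, .z, .w, .w, .z, .z, .z, .v], [.o, .w, .v, .v, .v, .w, .v, .v, .z, .z, .w, .o, .w, .w], [.w, .z, .v, .v, .v, .z, .o, .w, .v, .o, .o, .v, .z, .w], [.w, .z, .z, .o, .o, .o, .w, .o, .z, .z, .v, .v, .v, .o], [.z, .w, .o, .v, .w, .v, .o, .w, .v, .o, .z, .v, .z, .w], [.w, .z, .w, .w, .o, .o, .v, .o, .z, .o, .o, .v, .v, .w], [.z, .w, .v, .v, .w, .o, .w, .v, .v, .o, .z, .o, .z, .w], [.v, .v, .w, .w, .w, .v, .z, .z, .z, .w, .o, .z, .v, .z], [.v, .z, .o, .w, .w, .z, .v, .w, .z, .v, .o, .o, .z, .w], [.o, .v, .z, .o, .w, .v, .o, .o, .v, .o,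 .z, .v, .v, .w]]
theorem n1628 : InR N1628 := inR_mul n1610 (inR_gen .e) (by decide +kernel)
/-- a product -/
def N1631 : List (List GF4) := [[.w, .w, .w, .w, .o, .z, .w, .v, .z, .w, .z, .v, .o, .z], [.v, .o, .o, .w, .v, .z, .o, .o, .w, .v, .o, .o, .z, .v], [.v, .v, .o, .w, .o, .v, .z, .z, .z, .w, .z, .z, .o, .z], [.w, .w, .z, .o, .v, .w, .z, .o, .z, .o, .z, .z, .v, .z], [.w, .w, .w, .o, .z, .w, .z, .v, .z, .z, .z, .z, .v, .z], [.v, .o, .v, .w, .o, .o, .v, .w, .z, .v, .z, .o, .w, .z], [.v, .w, .v, .w, .o, .v, .w, .v, .z, .o, .z, .v, .v, .z], [.z, .o, .z, .o, .o, .o, .o, .o, .v, .o, .w, .v, .w, .o], [.w, .z, .o, .o, .o, .w, .v, .z, .o, .v, .v, .v, .o, .w], [.o, .w, .w, .o, .z, .v, .v, .w, .w, .z, .z, .w, .w, .v], [.o, .v, .v, .w, .z, .w, .v, .w, .o, .z, .z, .v, .w, .w], [.z, .z, .w, .o, .v, .o, .v, .v, .o, .o, .v, .o, .v, .w], [.o,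 .w, .o, .z, .o, .o, .o, .z, .o, .o, .w, .v, .o, .z], [.o, .v, .z, .o, .w, .v, .o, .o, .z, .o, .o, .o, .z, .o]]
theorem n1631 : InR N1631 := inR_mul n1591 n1609 (by decide +kernel)
/-- a product -/
def N1633 : List (List GF4) := [[.w, .v, .z, .v, .z, .w, .z, .z, .z, .z, .z, .z, .w, .z], [.w, .z, .z, .o, .w, .v, .w, .o, .v, .w, .z, .v, .v, .v], [.v, .v, .w, .o, .o, .z, .v, .o, .w, .v, .z, .w, .w, .o], [.v, .v, .v, .o, .w, .z, .o, .w, .v, .o, .z, .v, .w, .w], [.z, .z, .w, .z, .z, .z, .v, .o, .z, .z, .z, .w, .z, .z], [.w, .w, .o, .o, .v, .w, .v, .v, .w, .w, .v, .w, .w, .o], [.o, .o, .z, .o, .z, .v, .o, .z, .v, .z, .o, .v, .w, .w], [.v, .o, .v, .o, .o, .v, .v, .o, .w, .o, .z, .v, .v, .w], [.o, .w, .z, .w, .v, .o, .w, .w, .o, .v, .z, .w, .o, .o], [.v, .v, .z, .o, .o, .v, .z, .v, .w, .v, .z, .o, .w, .o], [.v, .v, .z, .o, .w, .v, .z, .o,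 .v, .o, .z, .w, .w, .w], [.w, .v, .z, .v, .o, .w, .v, .v, .z, .o, .z, .w, .w, .z], [.o, .o, .z, .w, .v, .o, .z, .w, .w, .w, .v, .o, .o, .o], [.z, .z, .z, .z, .z, .z, .z, .z, .v, .z, .o, .w, .v, .w]]
theorem n1633 : InR N1633 := inR_mul (inR_gen .f) n1611 (by decide +kernel)
/-- a product -/
def N1635 : List (List GF4) := [[.w, .o, .v, .o, .o, .o, .v, .v, .w, .z, .z, .z, .z, .z], [.v, .o, .o, .o, .z, .o, .o, .w, .v, .v, .v, .o, .v, .v], [.v, .v, .w, .o, .o, .z, .v, .o, .w, .v, .z, .w, .w, .o], [.v, .o, .v, .o, .o, .v, .v, .o, .w, .o, .z, .v, .v, .w], [.o, .o, .v, .z, .w, .w, .z, .w, .z, .o, .v, .z, .z, .z], [.v, .v, .z, .o, .o, .z, .z, .z, .w, .v, .z, .z, .w, .o], [.v, .o, .o, .o, .o, .z, .z, .v, .w, .o, .z, .z, .v, .w], [.v, .v, .v, .o, .w, .z, .o, .w, .v, .o, .z, .v, .w, .w], [.o, .z, .o, .z, .v, .w, .w, .z, .o, .v, .z, .w, .o,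 .o], [.o, .o, .o, .o, .v, .v, .v, .v, .w, .w, .o, .w, .w, .o], [.z, .w, .v, .o, .o, .w, .v, .w, .w, .v, .w, .v, .v, .w], [.v, .z, .w, .o, .v, .z, .z, .o, .w, .o, .v, .z, .z, .z], [.w, .o, .o, .z, .o, .w, .o, .o, .o, .w, .o, .z, .w, .o], [.o, .w, .z, .o, .w, .v, .w, .o, .v, .v, .w, .z, .v, .w]]
theorem n1635 : InR N1635 := inR_mul n1591 n1611 (by decide +kernel)
/-- a product -/
def N1641 : List (List GF4) := [[.o, .z, .z, .z, .z, .z, .z, .z, .z, .z, .v, .z, .w, .w], [.z, .o, .z, .z, .z, .z, .z, .z, .w, .z, .v, .o, .w, .z], [.z, .w, .o, .w, .v, .o, .z, .w, .v, .z, .o, .w, .v, .v], [.w, .w, .z, .o, .z, .z, .o, .z, .o, .z, .o, .w, .v, .v], [.o, .z, .z, .z, .o, .z, .z, .z, .w, .w, .o, .o, .w, .w], [.v, .v, .z, .z, .z, .o, .w, .z, .o, .z, .w, .o, .o, .o], [.z, .z, .z, .z, .z, .z, .o, .z, .v, .z, .z, .w, .z, .z], [.w, .z, .z, .z, .z, .z,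 .z, .o, .v, .v, .o, .w, .o, .v], [.z, .z, .z, .z, .z, .z, .z, .z, .o, .z, .z, .z, .z, .w], [.z, .z, .z, .z, .z, .z, .z, .z, .z, .o, .w, .z, .o, .z], [.z, .z, .z, .z, .z, .z, .z, .z, .z, .z, .o, .z, .z, .o], [.z, .z, .z, .z, .z, .z, .z, .z, .z, .z, .z, .o, .z, .v], [.z, .z, .z, .z, .z, .z, .z, .z, .z, .z, .z, .z, .o, .w], [.z, .z, .z, .z, .z, .z, .z, .z, .z, .z, .z, .z, .z, .o]]
theorem n1641 : InR N1641 := inR_mul n1591 n1615 (by decide +kernel)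
/-- a product -/
def N1643 : List (List GF4) := [[.v, .z, .v, .w, .o, .o, .z, .z, .o, .z, .w, .v, .z, .v], [.o, .z, .o, .z, .z, .o, .v, .v, .z, .o, .z, .w, .w, .v], [.w, .o, .w, .w, .o, .z, .v, .w, .o, .o, .w, .v, .o, .z], [.z, .w, .v, .z, .z, .o, .z, .z, .z, .w, .z, .v, .v, .o], [.o, .w, .v, .v, .v, .z, .o, .o, .w, .w, .z, .w, .v, .o], [.z, .o, .z, .z, .z, .w, .w, .o, .z, .v, .z, .v, .v, .o], [.o, .v, .o, .o, .v, .v, .w, .v, .v, .v, .o, .z, .z, .z], [.z, .w, .v, .v, .w, .z, .o, .z, .o, .z, .o, .z, .z, .o], [.v, .v, .o, .w, .w, .z, .v, .w, .o, .v, .z, .o, .o, .w], [.v, .v, .o, .o, .o, .z, .w, .v, .w, .w, .o, .o, .w, .v], [.o, .v, .v, .v, .v, .o, .z, .z, .w, .v, .z, .v, .o, .w], [.z, .z, .w, .w, .o, .v, .o, .w, .v, .v, .v, .o, .o, .w], [.z, .o, .o, .v, .w, .v, .o, .w, .o, .o, .o, .o, .o, .z], [.o, .v, .z, .o, .w, .v, .o, .o, .z, .o,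 .o, .o, .z, .o]]
theorem n1643 : InR N1643 := inR_mul (inR_gen .e) n1619 (by decide +kernel)
/-- a product -/
def N1649 : List (List GF4) := [[.w, .o, .z, .z, .o, .z, .z, .v, .w, .z, .z, .z, .z, .z], [.w, .w, .z, .o, .w, .v, .v, .o, .v, .o, .w, .z, .v, .v], [.v, .z, .w, .o, .z, .w, .o, .o, .w, .w, .o, .z, .w, .o], [.v, .z, .v, .w, .z, .v, .w, .o, .w, .v, .w, .z, .v, .w], [.z, .z, .w, .o, .z, .z, .z, .z, .z, .w, .o, .z, .z, .z], [.w, .z, .o, .v, .o, .o, .v, .o, .w, .w, .o, .o, .w, .o], [.o, .z, .z, .z, .w, .z, .z, .o, .w, .v, .w, .w, .v, .w], [.v, .w, .v, .o, .w, .w, .w, .o, .v, .w, .w, .z, .w, .w], [.o, .v, .z, .w, .v, .o, .o, .w, .o, .o, .o, .z, .o, .o], [.v, .z, .z, .v, .w, .w, .o, .o, .w, .z, .v, .z, .w, .o], [.v, .z, .z, .o, .w, .v, .w, .o, .w, .z, .o, .z, .v, .w], [.w, .o, .z, .v, .o, .w, .w, .v, .w, .w, .o, .z, .z, .z], [.o,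 .z, .z, .w, .v, .o, .v, .w, .o, .z, .v, .o, .w, .o], [.z, .z, .z, .z, .z, .z, .z, .z, .v, .z, .o, .w, .v, .w]]
theorem n1649 : InR N1649 := inR_mul (inR_gen .f) n1621 (by decide +kernel)
/-- a product -/
def N1651 : List (List GF4) := [[.w, .v, .v, .v, .v, .w, .z, .o, .z, .w, .z, .z, .w, .z], [.v, .w, .o, .w, .v, .z, .o, .o, .v, .v, .v, .o, .v, .v], [.v, .z, .w, .o, .z, .w, .o, .o, .w, .w, .o, .z, .w, .o], [.v, .w, .v, .o, .w, .w, .w, .o, .v, .w, .w, .z, .w, .w], [.o, .z, .v, .w, .o, .v, .w, .z, .z, .z, .z, .o, .z, .z], [.v, .z, .z, .z, .z, .w, .o, .o, .w, .z, .z, .z, .w, .o], [.v, .w, .o, .v, .z, .w, .w, .o, .v, .z, .z, .z, .w, .w], [.v, .z, .v, .w, .z, .v, .w, .o, .w, .v, .w, .z, .v, .w], [.o, .o, .o, .z, .o, .o, .o, .z, .o, .o, .o, .z, .o, .o], [.o, .z, .o, .v, .w, .o, .v, .o, .w, .w, .o, .w, .w, .o], [.z, .w, .v, .w, .o, .w,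 .o, .o, .v, .w, .w, .v, .w, .w], [.v, .v, .w, .o, .z, .o, .w, .o, .z, .z, .z, .o, .w, .z], [.w, .v, .o, .o, .o, .w, .v, .z, .w, .v, .z, .w, .o, .o], [.o, .v, .z, .o, .w, .v, .o, .o, .v, .o, .z, .v, .v, .w]]
theorem n1651 : InR N1651 := inR_mul n1591 n1621 (by decide +kernel)
/-- a product -/
def N1655 : List (List GF4) := [[.z, .z, .v, .o, .w, .o, .v, .o, .z, .z, .v, .v, .w, .w], [.w, .w, .o, .w, .z, .v, .v, .w, .w, .o, .w, .w, .w, .z], [.z, .w, .o, .w, .v, .o, .z, .w, .v, .z, .o, .w, .v, .v], [.w, .w, .z, .o, .z, .z, .o, .z, .o, .z, .o, .w, .v, .v], [.v, .w, .o, .w, .z, .o, .z, .w, .w, .o, .w, .o, .w, .w], [.o, .v, .o, .w, .v, .v, .v, .w, .o, .z, .w, .z, .o, .o], [.w, .z, .o, .v, .v, .o, .v, .w, .v, .z, .z, .v, .z, .z], [.w, .z, .z, .z, .z, .z, .z, .o, .v, .v, .o, .w, .o, .v], [.w, .v, .o, .o, .z, .o, .o, .w, .o, .o, .o, .v, .z,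 .w], [.w, .w, .o, .w, .v, .o, .z, .v, .z, .z, .o, .z, .o, .z], [.z, .v, .v, .z, .z, .o, .w, .o, .z, .v, .z, .w, .z, .o], [.w, .o, .w, .v, .w, .o, .o, .w, .z, .w, .w, .v, .z, .v], [.w, .v, .o, .w, .v, .v, .v, .z, .z, .w, .o, .v, .o, .w], [.o, .w, .z, .o, .w, .v, .w, .o, .z, .v, .v, .w, .z, .o]]
theorem n1655 : InR N1655 := inR_mul (inR_gen .f) n1625 (by decide +kernel)
/-- a product -/
def N1657 : List (List GF4) := [[.o, .o, .z, .z, .z, .z, .z, .z, .w, .z, .z, .o, .z, .w], [.z, .o, .z, .z, .z, .z, .z, .z, .w, .z, .v, .o, .w, .z], [.z, .w, .o, .w, .v, .o, .z, .w, .v, .z, .o, .w, .v, .v], [.w, .z, .z, .z, .z, .z, .z, .o, .v, .v, .o, .w, .o, .v], [.o, .o, .z, .z, .z, .w, .v, .z, .w, .z, .v, .w, .w, .w], [.v, .z, .z, .z, .v, .z, .z, .z, .o, .o, .v, .v, .o, .o], [.z, .z, .z, .z, .z, .z, .z, .z, .z, .v, .o, .z, .v, .z], [.w, .w, .z, .o,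 .z, .z, .o, .z, .o, .z, .o, .w, .v, .v], [.z, .z, .z, .z, .z, .z, .z, .z, .z, .z, .z, .z, .o, .w], [.z, .z, .z, .z, .z, .z, .w, .z, .o, .z, .z, .v, .z, .z], [.z, .z, .z, .z, .z, .z, .z, .z, .z, .z, .z, .w, .z, .o], [.z, .z, .z, .z, .z, .z, .z, .z, .z, .z, .v, .z, .z, .v], [.z, .z, .z, .z, .z, .z, .z, .z, .o, .z, .z, .z, .z, .w], [.z, .z, .z, .z, .z, .z, .z, .z, .z, .z, .z, .z, .z, .o]]
theorem n1657 : InR N1657 := inR_mul n1591 n1625 (by decide +kernel)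
/-- a product -/
def N1663 : List (List GF4) := [[.o, .v, .v, .z, .w, .z, .v, .w, .w, .o, .o, .w, .o, .v], [.v, .o, .o, .w, .v, .z, .o, .o, .w, .v, .o, .o, .z, .v], [.v, .v, .o, .w, .o, .v, .z, .z, .z, .w, .z, .z, .o, .z], [.z, .o, .z, .o, .o, .o, .o, .o, .v, .o, .w, .v, .w, .o], [.o, .w, .o, .v, .w, .w, .o, .v, .z, .o, .z, .w, .v, .z], [.o, .o, .o, .v, .z, .o, .z, .w, .z, .z, .z, .z, .w, .z], [.v, .o, .o, .v, .z, .w, .w, .o, .o, .z, .z, .o, .o, .w], [.w, .w, .z, .o, .v, .w, .z, .o, .z, .o, .z, .z, .v, .z], [.o, .w, .o, .z, .o, .o, .o, .z, .o, .o, .w, .v, .o, .z], [.o, .v, .o, .v, .w, .o, .v, .o, .z, .w, .z, .o, .o, .z], [.z, .z, .v, .w, .o, .w, .o, .o, .w, .w, .o, .w, .o, .v], [.v, .w, .w, .o, .z, .o, .w, .o, .v, .z, .z, .w, .o, .o], [.w, .z, .o, .o, .o, .w, .v, .z, .o, .v, .v, .v, .o, .w], [.o, .v, .z, .o, .w, .v, .o, .o, .z, .o,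 .o, .o, .z, .o]]
theorem n1663 : InR N1663 := inR_mul (inR_gen .e) n1631 (by decide +kernel)
/-- a product -/
def N1671 : List (List GF4) := [[.o, .v, .z, .z, .z, .z, .v, .z, .o, .w, .v, .z, .z, .v], [.z, .o, .z, .z, .z, .z, .z, .z, .z, .z, .w, .w, .w, .v], [.v, .v, .o, .z, .w, .w, .v, .w, .o, .z, .o, .o, .o, .z], [.w, .z, .z, .o, .o, .o, .w, .o, .z, .z, .v, .v, .v, .o], [.w, .z, .z, .w, .o, .w, .v, .o, .w, .z, .v, .o, .v, .o], [.w, .v, .z, .v, .v, .o, .o, .o, .z, .v, .v, .v, .v, .o], [.z, .w, .z, .z, .z, .z, .w, .z, .v, .w, .v, .z, .z, .z], [.z, .o, .z, .o, .v, .w, .w, .o, .o, .v, .z, .w, .z, .o], [.z, .z, .z, .z, .z, .z, .z, .z, .o, .z, .o, .o, .o, .w], [.z, .v, .z, .z, .z, .z, .o, .z, .w, .w, .o, .v, .w, .v], [.z, .z, .z, .z, .z, .z, .z, .z, .w, .z, .o, .w, .o, .w], [.z, .z, .z, .z, .z, .z, .z, .z, .v, .z, .v, .o, .o, .w], [.z,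 .z, .z, .z, .z, .z, .z, .z, .o, .z, .v, .w, .o, .z], [.z, .z, .z, .z, .z, .z, .z, .z, .z, .z, .z, .z, .z, .o]]
theorem n1671 : InR N1671 := inR_mul n1591 n1635 (by decide +kernel)
/-- a product -/
def N1679 : List (List GF4) := [[.o, .w, .z, .z, .z, .z, .v, .z, .o, .w, .o, .w, .w, .v], [.z, .o, .z, .z, .z, .z, .z, .z, .z, .z, .w, .w, .w, .v], [.v, .z, .o, .z, .w, .w, .v, .w, .o, .z, .z, .z, .z, .z], [.z, .o, .z, .o, .v, .w, .w, .o, .w, .v, .w, .v, .v, .o], [.v, .o, .z, .o, .o, .w, .w, .w, .v, .o, .w, .z, .z, .z], [.o, .z, .z, .o, .v, .o, .w, .v, .w, .z, .z, .z, .z, .z], [.z, .w, .z, .z, .z, .z, .v, .z, .o, .o, .v, .w, .o, .w], [.w, .z, .z, .o, .o, .o, .w, .o, .v, .z, .z, .z, .z, .z], [.z, .z, .z, .z, .z, .z, .z, .z, .o, .z, .v, .w, .o, .z], [.z, .v, .z, .z, .z, .z, .v, .z, .o, .v, .o, .z, .z, .z], [.z, .z, .z, .z, .z, .z, .z, .z,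 .o, .z, .o, .w, .w, .v], [.z, .z, .z, .z, .z, .z, .z, .z, .o, .z, .v, .o, .v, .o], [.z, .z, .z, .z, .z, .z, .z, .z, .o, .z, .o, .o, .o, .w], [.z, .z, .z, .z, .z, .z, .z, .z, .z, .z, .z, .z, .z, .o]]
theorem n1679 : InR N1679 := inR_mul n1591 n1643 (by decide +kernel)
/-- a product -/
def N2132 : List (List GF4) := [[.o, .o, .z, .z, .z, .z, .z, .z, .z, .z, .z, .z, .z, .o], [.z, .o, .z, .z, .z, .z, .z, .z, .z, .z, .z, .z, .z, .z], [.z, .z, .z, .z, .z, .z, .z, .z, .z, .z, .z, .z, .z, .w], [.z, .z, .z, .z, .z, .z, .z, .z, .v, .z, .z, .z, .z, .z], [.z, .z, .z, .z, .z, .z, .z, .z, .z, .z, .v, .z, .z, .z], [.z, .z, .z, .z, .z, .z, .z, .z, .z, .z, .z, .v, .z, .z], [.z, .z, .z, .z, .z, .z, .o, .z, .z, .z, .z, .z, .z, .z], [.z, .z, .z, .z, .z, .z, .z, .z, .z, .z, .z, .z, .v, .z], [.z, .z, .z, .w, .z, .z, .z, .z, .w, .z, .z, .z, .z, .z], [.z,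 .z, .z, .z, .z, .z, .z, .z, .z, .o, .z, .z, .z, .z], [.z, .z, .z, .z, .w, .z, .z, .z, .z, .z, .w, .z, .z, .z], [.z, .z, .z, .z, .z, .w, .z, .z, .z, .z, .z, .w, .z, .z], [.z, .z, .z, .z, .z, .z, .z, .w, .z, .z, .z, .z, .w, .z], [.z, .v, .v, .z, .z, .z, .z, .z, .z, .z, .z, .z, .z, .v]]
theorem n2132 : InR N2132 := inR_mul (inR_gen .b) n867 (by decide +kernel)
/-- a product -/
def N2134 : List (List GF4) := [[.o, .z, .o, .z, .z, .z, .z, .z, .z, .z, .z, .z, .z, .z], [.z, .o, .z, .z, .z, .z, .z, .z, .z, .z, .z, .z, .z, .z], [.z, .z, .w, .z, .z, .z, .z, .z, .z, .z, .z, .z, .z, .z], [.z, .z, .z, .v, .z, .z, .z, .z, .z, .z, .z, .z, .z, .z], [.z, .z, .z, .z, .v, .z, .z, .z, .z, .z, .z, .z, .z, .z], [.z, .z, .z, .z, .z, .v, .z, .z, .z, .z, .z, .z, .z, .z], [.z, .z, .z, .z, .z, .z, .o, .z, .z, .z, .z, .z, .z, .z], [.z, .z, .z, .z, .z, .z, .z,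 .v, .z, .z, .z, .z, .z, .z], [.z, .z, .z, .w, .z, .z, .z, .z, .w, .z, .z, .z, .z, .z], [.z, .z, .z, .z, .z, .z, .z, .z, .z, .o, .z, .z, .z, .z], [.z, .z, .z, .z, .w, .z, .z, .z, .z, .z, .w, .z, .z, .z], [.z, .z, .z, .z, .z, .w, .z, .z, .z, .z, .z, .w, .z, .z], [.z, .z, .z, .z, .z, .z, .z, .w, .z, .z, .z, .z, .w, .z], [.z, .v, .v, .z, .z, .z, .z, .z, .z, .z, .z, .z, .z, .v]]
theorem n2134 : InR N2134 := inR_mul (inR_gen .a) n2132 (by decide +kernel)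
/-- a product -/
def N2136 : List (List GF4) := [[.o, .w, .v, .z, .z, .z, .z, .z, .z, .z, .z, .z, .z, .w], [.z, .o, .z, .z, .z, .z, .z, .z, .z, .z, .z, .z, .z, .z], [.z, .w, .v, .z, .z, .z, .z, .z, .z, .z, .z, .z, .z, .o], [.z, .z, .z, .w, .z, .z, .z, .z, .o, .z, .z, .z, .z, .z], [.z, .z, .z, .z, .w, .z, .z, .z, .z, .z, .o, .z, .z, .z], [.z, .z, .z, .z, .z, .w, .z, .z, .z, .z, .z, .o, .z, .z], [.z, .z, .z, .z, .z, .z, .o, .z, .z, .z, .z, .z, .z, .z], [.z, .z, .z, .z, .z, .z, .z, .w, .z, .z, .z, .z, .o, .z], [.z, .z, .z, .w, .z, .z, .z, .z, .w, .z, .z, .z, .z, .z], [.z, .z, .z, .z, .z, .z, .z, .z, .z, .o, .z, .z, .z, .z], [.z, .z, .z, .z, .w, .z, .z, .z, .z, .z, .w, .z, .z, .z], [.z, .z, .z, .z, .z, .w, .z, .z, .z, .z, .z, .w, .z, .z], [.z, .z, .z, .z, .z, .z, .z, .w, .z, .z, .z, .z, .w, .z], [.z, .v, .v, .z, .z, .z, .z, .z, .z, .z,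 .z, .z, .z, .v]]
theorem n2136 : InR N2136 := inR_mul (inR_gen .f) n2134 (by decide +kernel)
/-- a product -/
def N2138 : List (List GF4) := [[.o, .z, .o, .z, .w, .z, .z, .o, .z, .z, .w, .z, .o, .z], [.z, .o, .z, .o, .w, .v, .z, .o, .o, .z, .w, .v, .o, .z], [.z, .z, .w, .w, .v, .o, .z, .w, .z, .z, .z, .z, .z, .z], [.v, .v, .v, .z, .o, .w, .w, .v, .v, .z, .o, .w, .v, .z], [.w, .z, .w, .w, .z, .o, .z, .w, .w, .v, .v, .o, .w, .z], [.o, .o, .o, .o, .w, .z, .v, .o, .o, .z, .w, .v, .o, .z], [.z, .z, .z, .w, .z, .o, .o, .z, .w, .z, .z, .o, .z, .z], [.v, .z, .v, .v, .o, .w, .z, .z, .v, .o, .o, .w, .v, .z], [.z, .w, .w, .w, .z, .z, .z, .z, .w, .z, .z, .z, .z, .w], [.z, .z, .z, .z, .o, .z, .z, .v, .z, .o, .o, .z, .v, .z], [.z, .o, .o, .z, .w, .z, .z, .z, .z, .z, .w, .z, .z, .o], [.z, .v, .v, .z, .z, .w, .z, .z, .z, .z, .z, .w, .z, .v], [.z,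 .w, .w, .z, .z, .z, .z, .w, .z, .z, .z, .z, .w, .w], [.z, .v, .v, .z, .z, .z, .z, .z, .z, .z, .z, .z, .z, .v]]
theorem n2138 : InR N2138 := inR_mul (inR_gen .c) n2136 (by decide +kernel)
/-- a product -/
def N2140 : List (List GF4) := [[.o, .o, .z, .z, .w, .z, .z, .o, .z, .z, .w, .z, .o, .o], [.z, .o, .z, .o, .w, .v, .z, .o, .o, .z, .w, .v, .o, .z], [.z, .z, .z, .z, .z, .z, .z, .z, .w, .z, .v, .o, .w, .w], [.v, .z, .z, .v, .o, .w, .w, .v, .z, .z, .o, .w, .v, .v], [.w, .w, .z, .w, .v, .o, .z, .w, .w, .v, .z, .o, .w, .w], [.o, .z, .z, .o, .w, .v, .v, .o, .o, .z, .w, .z, .o, .o], [.z, .z, .z, .w, .z, .o, .o, .z, .w, .z, .z, .o, .z, .z], [.v, .v, .z, .v, .o, .w, .z, .v, .v, .o, .o, .w, .z, .v], [.z, .w, .w, .w, .z, .z, .z, .z, .w, .z, .z, .z, .z, .w], [.z, .z, .z, .z, .o, .z, .z, .v, .z, .o, .o, .z, .v, .z], [.z, .o, .o, .z, .w, .z,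 .z, .z, .z, .z, .w, .z, .z, .o], [.z, .v, .v, .z, .z, .w, .z, .z, .z, .z, .z, .w, .z, .v], [.z, .w, .w, .z, .z, .z, .z, .w, .z, .z, .z, .z, .w, .w], [.z, .v, .v, .z, .z, .z, .z, .z, .z, .z, .z, .z, .z, .v]]
theorem n2140 : InR N2140 := inR_mul (inR_gen .a) n2138 (by decide +kernel)
/-- a product -/
def N2142 : List (List GF4) := [[.o, .z, .z, .o, .z, .v, .z, .z, .o, .z, .z, .v, .z, .o], [.z, .o, .z, .o, .w, .v, .z, .o, .o, .z, .w, .v, .o, .z], [.z, .z, .z, .z, .z, .z, .z, .z, .w, .z, .v, .o, .w, .w], [.v, .v, .z, .v, .o, .w, .z, .v, .v, .o, .o, .w, .z, .v], [.w, .z, .z, .w, .v, .o, .o, .w, .w, .z, .v, .z, .w, .w], [.o, .o, .z, .o, .w, .v, .z, .o, .o, .w, .z, .v, .o, .o], [.z, .z, .z, .z, .v, .z, .z, .w, .z, .v, .v, .z, .w, .z], [.v, .z, .z, .v, .o, .w, .w, .v, .z, .z, .o, .w, .v, .v], [.z, .w, .w, .z, .z, .z, .z, .w, .z, .z, .z,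 .z, .w, .w], [.z, .z, .z, .v, .z, .w, .w, .z, .v, .z, .z, .w, .z, .z], [.z, .o, .o, .z, .z, .v, .z, .z, .z, .z, .z, .v, .z, .o], [.z, .v, .v, .z, .o, .z, .z, .z, .z, .z, .o, .z, .z, .v], [.z, .w, .w, .w, .z, .z, .z, .z, .w, .z, .z, .z, .z, .w], [.z, .v, .v, .z, .z, .z, .z, .z, .z, .z, .z, .z, .z, .v]]
theorem n2142 : InR N2142 := inR_mul (inR_gen .e) n2140 (by decide +kernel)
/-- a product -/
def N2144 : List (List GF4) := [[.o, .o, .o, .o, .z, .v, .z, .z, .o, .z, .z, .v, .z, .z], [.z, .o, .z, .o, .w, .v, .z, .o, .o, .z, .w, .v, .o, .z], [.z, .z, .w, .w, .v, .o, .z, .w, .z, .z, .z, .z, .z, .z], [.v, .z, .v, .v, .o, .w, .z, .z, .v, .o, .o, .w, .v, .z], [.w, .w, .w, .w, .v, .z, .o, .w, .w, .z, .v, .o, .w, .z], [.o, .z, .o, .o, .z, .v, .z, .o, .o, .w, .w, .v, .o, .z], [.z, .z, .z, .z, .v, .z, .z, .w, .z, .v, .v, .z, .w, .z], [.v, .v,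 .v, .z, .o, .w, .w, .v, .v, .z, .o, .w, .v, .z], [.z, .w, .w, .z, .z, .z, .z, .w, .z, .z, .z, .z, .w, .w], [.z, .z, .z, .v, .z, .w, .w, .z, .v, .z, .z, .w, .z, .z], [.z, .o, .o, .z, .z, .v, .z, .z, .z, .z, .z, .v, .z, .o], [.z, .v, .v, .z, .o, .z, .z, .z, .z, .z, .o, .z, .z, .v], [.z, .w, .w, .w, .z, .z, .z, .z, .w, .z, .z, .z, .z, .w], [.z, .v, .v, .z, .z, .z, .z, .z, .z, .z, .z, .z, .z, .v]]
theorem n2144 : InR N2144 := inR_mul (inR_gen .a) n2142 (by decide +kernel)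
/-- a product -/
def N2146 : List (List GF4) := [[.o, .z, .o, .z, .w, .z, .z, .o, .z, .z, .w, .z, .o, .z], [.z, .o, .z, .o, .w, .v, .z, .o, .o, .z, .w, .v, .o, .z], [.z, .z, .w, .w, .v, .o, .z, .w, .z, .z, .z, .z, .z, .z], [.v, .v, .v, .z, .o, .w, .w, .v, .v, .z, .o, .w, .v, .z], [.o, .z, .o, .o, .z, .v, .z, .o, .o, .w, .w, .v, .o, .z], [.w, .w, .w, .w, .v, .z, .o, .w, .w, .z, .v, .o, .w, .z], [.z, .z, .z, .v, .z, .w, .w, .z, .v, .z, .z, .w, .z, .z], [.v, .z, .v, .v, .o, .w, .z, .z, .v, .o, .o, .w, .v, .z], [.z, .w, .w, .w, .z, .z, .z, .z, .w, .z, .z, .z, .z, .w], [.z, .z, .z, .z, .v, .z, .z, .w, .z, .v, .v, .z, .w, .z], [.z, .v, .v, .z, .o, .z, .z, .z, .z, .z, .o, .z, .z, .v], [.z, .o, .o, .z, .z, .v, .z, .z, .z, .z, .z, .v, .z, .o], [.z, .w, .w, .z, .z, .z, .z, .w, .z, .z, .z, .z, .w, .w], [.z, .v, .v, .z, .z, .z, .z, .z, .z, .z,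 .z, .z, .z, .v]]
theorem n2146 : InR N2146 := inR_mul (inR_gen .d) n2144 (by decide +kernel)
/-- a product -/
def N2148 : List (List GF4) := [[.o, .z, .z, .z, .z, .z, .z, .z, .z, .z, .z, .z, .z, .v], [.z, .o, .z, .z, .z, .z, .z, .z, .z, .z, .z, .z, .z, .z], [.z, .z, .z, .z, .z, .z, .z, .z, .z, .z, .z, .z, .z, .v], [.z, .z, .z, .z, .z, .z, .z, .z, .z, .z, .z, .z, .w, .z], [.z, .z, .z, .z, .z, .z, .z, .z, .z, .z, .z, .v, .z, .z], [.z, .z, .z, .z, .z, .z, .z, .z, .z, .z, .o, .z, .z, .z], [.z, .z, .z, .z, .z, .z, .z, .z, .z, .v, .z, .z, .z, .z], [.z, .z, .z, .z, .z, .z, .z, .z, .w, .z, .z, .z, .z, .z], [.z, .z, .z, .z, .z, .z, .z, .v, .z, .z, .z, .z, .w, .z], [.z, .z, .z, .z, .z, .z, .w, .z, .z, .z, .z, .z, .z, .z], [.z, .z, .z, .z, .z, .o, .z, .z, .z, .z, .z, .v, .z, .z], [.z, .z, .z, .z, .w, .z, .z, .z, .z, .z, .o, .z, .z, .z], [.z,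 .z, .z, .v, .z, .z, .z, .z, .w, .z, .z, .z, .z, .z], [.z, .o, .w, .z, .z, .z, .z, .z, .z, .z, .z, .z, .z, .v]]
theorem n2148 : InR N2148 := inR_mul n33 n2146 (by decide +kernel)
/-- a product -/
def N2150 : List (List GF4) := [[.v, .v, .v, .v, .z, .o, .w, .w, .o, .v, .v, .v, .z, .o], [.w, .w, .o, .w, .z, .v, .v, .w, .w, .o, .w, .w, .w, .z], [.v, .z, .w, .o, .z, .w, .o, .o, .w, .w, .o, .z, .w, .o], [.v, .w, .v, .o, .z, .v, .o, .w, .w, .v, .o, .w, .w, .w], [.v, .z, .v, .w, .w, .v, .w, .w, .v, .w, .o, .w, .w, .o], [.z, .z, .z, .z, .z, .o, .v, .z, .z, .z, .z, .z, .o, .v], [.w, .z, .o, .v, .z, .v, .z, .v, .o, .o, .v, .o, .v, .z], [.v, .z, .v, .w, .z, .v, .w, .o, .w, .v, .w, .z, .v, .w], [.w, .w, .o, .z, .o, .w, .o, .o, .o, .w, .w, .o, .o, .w], [.w, .z, .o, .v, .v, .o, .v, .w, .v, .z, .z, .v, .z, .z], [.z, .w, .v, .w, .w, .z, .z, .z, .o,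 .v, .v, .z, .z, .o], [.w, .z, .w, .o, .z, .z, .v, .v, .o, .w, .o, .o, .z, .v], [.w, .v, .o, .o, .z, .o, .o, .w, .o, .o, .o, .v, .z, .w], [.o, .w, .z, .o, .w, .v, .w, .o, .z, .v, .v, .w, .z, .o]]
theorem n2150 : InR N2150 := inR_mul n1107 n2148 (by decide +kernel)
/-- a product -/
def N2152 : List (List GF4) := [[.o, .o, .z, .z, .z, .z, .z, .z, .w, .o, .w, .z, .z, .z], [.z, .o, .z, .z, .z, .z, .z, .z, .w, .z, .z, .z, .w, .v], [.v, .z, .o, .w, .z, .z, .z, .w, .o, .z, .z, .z, .z, .z], [.w, .z, .z, .z, .z, .z, .z, .o, .v, .z, .z, .z, .z, .z], [.w, .z, .z, .z, .z, .o, .w, .o, .v, .z, .z, .z, .z, .z], [.w, .z, .z, .z, .o, .z, .z, .o, .v, .w, .v, .z, .z, .z], [.z, .z, .z, .z, .z, .z, .z, .z, .z, .o, .w, .z, .z, .z], [.z, .w, .z, .o, .o, .o, .w, .o, .z, .w, .v, .z, .v, .o], [.z, .z, .z, .z, .z, .z, .z, .z, .z, .z, .z, .z, .o, .w], [.z, .o,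 .z, .z, .z, .z, .o, .z, .w, .o, .w, .w, .w, .v], [.z, .z, .z, .z, .z, .z, .z, .z, .z, .z, .z, .o, .o, .w], [.z, .z, .z, .z, .z, .z, .z, .z, .z, .z, .o, .z, .o, .w], [.z, .z, .z, .z, .z, .z, .z, .z, .o, .z, .o, .o, .o, .z], [.z, .z, .z, .z, .z, .z, .z, .z, .z, .z, .z, .z, .z, .o]]
theorem n2152 : InR N2152 := inR_mul n1628 n2150 (by decide +kernel)
/-- a product -/
def N2164 : List (List GF4) := [[.z, .o, .z, .z, .z, .o, .z, .w, .z, .z, .z, .w, .o, .z], [.o, .v, .o, .z, .z, .w, .o, .w, .z, .w, .z, .v, .z, .v], [.v, .v, .o, .z, .o, .v, .o, .w, .o, .z, .v, .w, .o, .z], [.v, .w, .o, .o, .v, .z, .w, .v, .z, .w, .v, .o, .o, .o], [.z, .w, .v, .z, .z, .w, .v, .v, .z, .v, .z, .w, .z, .w], [.v, .v, .w, .z, .w, .v, .w, .z, .w, .v, .v, .z, .o, .v], [.w, .v, .z, .w, .v, .v, .v, .o, .z, .o, .o, .v, .o, .w], [.z, .z, .z, .z, .z, .z, .z, .o, .z,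 .o, .z, .o, .z, .o], [.z, .z, .o, .z, .z, .w, .z, .w, .z, .v, .z, .z, .o, .z], [.w, .w, .v, .z, .v, .w, .v, .w, .v, .z, .w, .w, .o, .z], [.w, .o, .v, .v, .w, .v, .o, .z, .z, .o, .w, .v, .o, .v], [.z, .v, .w, .z, .z, .v, .w, .v, .z, .z, .z, .w, .o, .o], [.w, .w, .o, .z, .o, .w, .o, .o, .o, .w, .w, .o, .o, .w], [.o, .w, .z, .o, .w, .v, .w, .o, .z, .v, .v, .w, .z, .o]]
theorem n2164 : InR N2164 := inR_mul n2152 n1625 (by decide +kernel)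
/-- a product -/
def N2168 : List (List GF4) := [[.w, .w, .z, .v, .o, .v, .v, .o, .w, .o, .o, .o, .w, .v], [.o, .w, .o, .w, .w, .v, .o, .v, .o, .v, .z, .w, .z, .w], [.v, .v, .o, .w, .z, .z, .z, .w, .z, .z, .z, .z, .o, .z], [.v, .o, .o, .v, .w, .v, .o, .v, .v, .v, .z, .w, .o, .o], [.o, .z, .v, .z, .o, .v, .o, .w, .w, .w, .z, .w, .w, .v], [.z, .v, .w, .w, .w, .o, .w, .o, .o, .v, .z, .v, .z, .w], [.o, .w, .z, .v, .o, .z, .w, .z, .o, .v, .w, .v, .v, .w], [.z, .w, .z, .o, .o, .o, .w, .o, .v, .w, .z, .v, .z, .o], [.z, .w, .o, .w, .w, .v, .w, .v, .z, .v, .w, .z, .v, .w], [.w, .o, .v, .w, .v, .v, .v, .w, .o, .v, .v, .o, .z, .w], [.v, .w, .v, .v, .o, .v, .w, .w, .w, .w, .o, .z, .v, .w], [.z, .z, .w, .v, .v, .o, .o, .o, .w, .z, .z, .v, .z, .z], [.z, .v, .o, .z, .z, .w, .z, .w, .z, .v, .z, .o, .z, .w], [.o, .w, .z, .o, .w, .v, .w, .o, .v, .v,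 .w, .z, .v, .w]]
theorem n2168 : InR N2168 := inR_mul n2152 n1635 (by decide +kernel)
/-- a product -/
def N2174 : List (List GF4) := [[.w, .z, .z, .o, .w, .w, .w, .v, .w, .w, .v, .w, .w, .v], [.o, .v, .o, .v, .w, .v, .o, .w, .z, .v, .o, .z, .o, .w], [.v, .z, .o, .w, .z, .z, .z, .w, .o, .z, .z, .z, .z, .z], [.v, .w, .o, .v, .w, .v, .o, .v, .o, .v, .o, .z, .v, .o], [.o, .o, .v, .w, .w, .w, .v, .z, .w, .v, .o, .z, .w, .v], [.z, .v, .w, .o, .v, .v, .o, .w, .z, .o, .w, .z, .o, .w], [.o, .v, .z, .z, .z, .w, .o, .v, .v, .o, .w, .v, .o, .w], [.z, .w, .z, .o, .v, .w, .v, .o, .z, .o, .w, .z, .v, .o], [.z, .w, .o, .v, .w, .v, .o, .w, .v, .o, .z, .v, .z, .w], [.w, .v, .v, .w, .w, .o, .o, .w, .z, .w, .v, .o, .o, .w], [.v, .o, .v, .w, .w, .w, .v, .v, .v, .o, .z, .w, .w, .w], [.z, .z, .w, .o, .v, .o, .z, .v, .z, .v, .w, .z, .w, .z], [.z, .v, .o,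 .w, .o, .z, .o, .z, .z, .z, .v, .z, .z, .w], [.o, .v, .z, .o, .w, .v, .o, .o, .v, .o, .z, .v, .v, .w]]
theorem n2174 : InR N2174 := inR_mul n2152 n1651 (by decide +kernel)
/-- a product -/
def N2176 : List (List GF4) := [[.v, .z, .z, .v, .o, .v, .o, .o, .z, .w, .w, .v, .o, .v], [.o, .v, .o, .z, .z, .w, .o, .w, .z, .w, .z, .v, .z, .v], [.w, .w, .w, .w, .w, .v, .o, .o, .o, .z, .w, .v, .o, .z], [.v, .w, .w, .o, .v, .o, .w, .w, .z, .z, .v, .o, .w, .o], [.o, .o, .o, .w, .o, .z, .z, .v, .z, .z, .o, .z, .v, .z], [.v, .o, .v, .z, .w, .o, .v, .w, .w, .v, .v, .o, .w, .z], [.w, .v, .z, .w, .v, .v, .v, .o, .z, .o, .o, .v, .o, .w], [.o, .o, .v, .z, .v, .o, .v, .w, .v, .z, .o, .w, .v, .z], [.z, .z, .o, .z, .z, .w, .z, .w, .z, .v, .z, .z, .o, .z], [.w, .w, .v, .z, .v, .w, .v, .w, .v, .z, .w, .w, .o, .z], [.w, .o, .v, .v, .w, .v, .o, .z, .z, .o,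 .w, .v, .o, .v], [.z, .v, .w, .z, .z, .v, .w, .v, .z, .z, .z, .w, .o, .o], [.w, .w, .o, .z, .o, .w, .o, .o, .o, .w, .w, .o, .o, .w], [.o, .w, .z, .o, .w, .v, .w, .o, .z, .v, .v, .w, .z, .o]]
theorem n2176 : InR N2176 := inR_mul n2152 n1655 (by decide +kernel)
/-- a product -/
def N2180 : List (List GF4) := [[.o, .w, .z, .w, .v, .z, .o, .z, .o, .o, .o, .z, .z, .o], [.o, .z, .o, .v, .w, .v, .o, .w, .w, .v, .z, .w, .z, .v], [.w, .w, .w, .w, .w, .v, .o, .o, .o, .z, .w, .v, .o, .z], [.v, .w, .w, .o, .v, .o, .w, .w, .z, .z, .v, .o, .w, .o], [.v, .o, .o, .v, .v, .v, .o, .w, .w, .z, .v, .v, .w, .w], [.z, .o, .v, .w, .o, .z, .o, .z, .o, .v, .z, .z, .z, .v], [.o, .v, .z, .z, .z, .w, .o, .v, .v, .o, .w, .w, .v, .o], [.z, .w, .v, .z, .z, .w, .z, .o, .z, .o, .z, .o, .z, .o], [.z, .o, .o, .v, .w, .v, .o, .w, .o, .o, .o, .o, .o, .z], [.w, .o, .v,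 .w, .w, .o, .o, .w, .o, .w, .w, .w, .z, .w], [.v, .v, .v, .w, .w, .w, .v, .v, .w, .o, .o, .v, .z, .o], [.z, .o, .w, .o, .v, .o, .z, .v, .v, .v, .z, .v, .z, .v], [.z, .z, .o, .w, .o, .z, .o, .z, .o, .z, .z, .z, .z, .z], [.o, .v, .z, .o, .w, .v, .o, .o, .z, .o, .o, .o, .z, .o]]
theorem n2180 : InR N2180 := inR_mul n2152 n1663 (by decide +kernel)
/-- a product -/
def N2218 : List (List GF4) := [[.o, .o, .z, .z, .z, .z, .z, .z, .w, .o, .w, .z, .z, .v], [.z, .o, .z, .z, .z, .z, .z, .z, .w, .z, .z, .z, .w, .v], [.v, .v, .o, .w, .z, .z, .z, .w, .z, .z, .z, .z, .o, .z], [.w, .z, .z, .z, .z, .z, .z, .o, .v, .z, .z, .z, .v, .o], [.w, .z, .z, .z, .z, .o, .w, .o, .v, .z, .z, .v, .v, .o], [.w, .z, .z, .z, .o, .z, .z, .o, .v, .w, .z, .z, .v, .o], [.z, .z, .z, .z, .z, .z, .z, .z, .z, .o, .w, .z, .z, .z], [.z, .w, .z, .o, .o, .o, .w, .o, .v, .w,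 .z, .v, .z, .o], [.z, .z, .z, .z, .z, .z, .z, .z, .z, .z, .z, .z, .o, .w], [.z, .o, .z, .z, .z, .z, .o, .z, .w, .o, .w, .w, .w, .v], [.z, .z, .z, .z, .z, .z, .z, .z, .z, .z, .z, .o, .o, .w], [.z, .z, .z, .z, .z, .z, .z, .z, .z, .z, .o, .z, .o, .w], [.z, .z, .z, .z, .z, .z, .z, .z, .o, .z, .o, .o, .o, .z], [.z, .z, .z, .z, .z, .z, .z, .z, .z, .z, .z, .z, .z, .o]]
theorem n2218 : InR N2218 := inR_mul n2152 (inR_gen .f) (by decide +kernel)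
/-- a product -/
def N2220 : List (List GF4) := [[.o, .o, .z, .z, .z, .z, .o, .z, .w, .z, .z, .z, .z, .z], [.z, .o, .z, .z, .z, .z, .z, .z, .z, .z, .w, .w, .w, .v], [.v, .z, .o, .z, .w, .w, .v, .w, .o, .z, .z, .z, .z, .z], [.w, .z, .z, .o, .o, .o, .w, .o, .v, .z, .z, .z, .z, .z], [.z, .z, .z, .o, .z, .o, .w, .z, .z, .z, .z, .z, .z, .z], [.z, .w, .z, .o, .o, .z, .w, .z, .v, .w, .v, .z, .z, .z], [.z, .o, .z, .z, .z, .z, .o, .z, .w, .o, .w, .z, .z, .z], [.w, .w, .z, .o, .z, .z, .w, .z, .z, .z, .v, .v, .v, .o], [.z, .z, .z, .z, .z, .z, .z, .z, .o, .z, .o, .o, .o, .w], [.z, .z, .z, .z, .z, .z, .o, .z, .w, .z, .z, .w, .z, .z], [.z, .z, .z, .z, .z, .z, .z, .z, .o, .z, .z, .o, .z, .z], [.z, .z, .z, .z, .z, .z, .z, .z, .o, .z, .o, .z, .z, .z], [.z, .z, .z, .z, .z, .z, .z, .z, .o, .z, .z, .z, .z, .w], [.z, .z, .z, .z, .z, .z, .z, .z, .z, .z,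 .z, .z, .z, .o]]
theorem n2220 : InR N2220 := inR_mul n2152 n2152 (by decide +kernel)
/-- a product -/
def N2222 : List (List GF4) := [[.o, .o, .z, .z, .z, .z, .o, .z, .w, .z, .z, .z, .z, .v], [.z, .o, .z, .z, .z, .z, .z, .z, .z, .z, .w, .w, .w, .v], [.v, .v, .o, .z, .w, .w, .v, .w, .o, .z, .o, .o, .o, .z], [.w, .z, .z, .o, .o, .o, .w, .o, .z, .z, .v, .v, .v, .o], [.z, .z, .z, .o, .z, .o, .w, .z, .v, .z, .z, .v, .z, .z], [.z, .w, .z, .o, .o, .z, .w, .z, .z, .w, .z, .z, .z, .z], [.z, .o, .z, .z, .z, .z, .o, .z, .w, .o, .w, .z, .z, .z], [.w, .w, .z, .o, .z, .z, .w, .z, .v, .z, .v, .v, .v, .z], [.z, .z, .z, .z, .z, .z, .z, .z, .o, .z, .o, .o, .o, .w], [.z, .z, .z, .z, .z, .z, .o, .z, .w, .z, .z, .w, .z, .z], [.z, .z, .z, .z, .z, .z, .z, .z, .o, .z, .z, .o, .z, .z], [.z, .z, .z, .z, .z, .z, .z, .z, .o, .z, .o, .z, .z, .z], [.z, .z, .z,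 .z, .z, .z, .z, .z, .o, .z, .z, .z, .z, .w], [.z, .z, .z, .z, .z, .z, .z, .z, .z, .z, .z, .z, .z, .o]]
theorem n2222 : InR N2222 := inR_mul n2152 n2218 (by decide +kernel)
/-- a product -/
def N2224 : List (List GF4) := [[.o, .z, .z, .z, .z, .z, .z, .z, .z, .z, .z, .z, .z, .w], [.z, .o, .z, .z, .z, .z, .z, .z, .z, .z, .z, .z, .z, .z], [.z, .w, .o, .z, .z, .z, .z, .z, .z, .z, .z, .z, .z, .v], [.z, .z, .z, .o, .z, .z, .z, .z, .w, .z, .z, .z, .z, .z], [.z, .z, .z, .z, .w, .z, .z, .z, .z, .z, .v, .z, .z, .z], [.z, .z, .z, .z, .z, .v, .z, .z, .z, .z, .z, .o, .z, .z], [.z, .z, .z, .z, .z, .z, .v, .z, .z, .z, .z, .z, .z, .z], [.z, .z, .z, .z, .z, .z, .z, .o, .z, .z, .z, .z, .w, .z], [.z, .z, .z, .z, .z, .z, .z, .z, .o, .z, .z, .z, .z, .z], [.z, .z, .z, .z, .z, .z, .z, .z, .z, .w, .z, .z, .z, .z], [.z, .z, .z, .z, .z, .z, .z, .z, .z, .z,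 .w, .z, .z, .z], [.z, .z, .z, .z, .z, .z, .z, .z, .z, .z, .z, .v, .z, .z], [.z, .z, .z, .z, .z, .z, .z, .z, .z, .z, .z, .z, .o, .z], [.z, .z, .z, .z, .z, .z, .z, .z, .z, .z, .z, .z, .z, .o]]
theorem n2224 : InR N2224 := inR_mul (inR_gen .a) n628 (by decide +kernel)
/-- a product -/
def N2226 : List (List GF4) := [[.o, .o, .z, .z, .z, .z, .z, .z, .z, .z, .z, .z, .z, .w], [.z, .o, .z, .z, .z, .z, .z, .z, .z, .z, .z, .z, .z, .z], [.z, .w, .o, .z, .z, .z, .z, .z, .z, .z, .z, .z, .z, .v], [.z, .z, .z, .z, .z, .z, .z, .o, .z, .z, .z, .z, .w, .z], [.z, .z, .z, .z, .z, .o, .z, .z, .z, .z, .z, .w, .z, .z], [.z, .z, .z, .z, .o, .z, .z, .z, .z, .z, .w, .z, .z, .z], [.z, .z, .z, .z, .z, .z, .z, .z, .z, .o, .z, .z, .z, .z], [.z, .z, .z, .o, .z, .z, .z, .z, .w, .z, .z, .z, .z, .z], [.z, .z, .z, .z, .z, .z, .z, .z, .z, .z, .z, .z, .o, .z], [.z,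 .z, .z, .z, .z, .z, .o, .z, .z, .z, .z, .z, .z, .z], [.z, .z, .z, .z, .z, .z, .z, .z, .z, .z, .z, .o, .z, .z], [.z, .z, .z, .z, .z, .z, .z, .z, .z, .z, .o, .z, .z, .z], [.z, .z, .z, .z, .z, .z, .z, .z, .o, .z, .z, .z, .z, .z], [.z, .z, .z, .z, .z, .z, .z, .z, .z, .z, .z, .z, .z, .o]]
theorem n2226 : InR N2226 := inR_mul (inR_gen .e) n2224 (by decide +kernel)
/-- a product -/
def N2228 : List (List GF4) := [[.o, .z, .z, .z, .z, .z, .z, .z, .z, .z, .z, .z, .z, .w], [.z, .o, .z, .z, .z, .z, .z, .z, .z, .z, .z, .z, .z, .z], [.z, .z, .z, .z, .z, .z, .z, .z, .z, .z, .z, .z, .z, .w], [.z, .z, .z, .z, .z, .z, .z, .z, .z, .z, .z, .z, .v, .z], [.z, .z, .z, .z, .z, .z, .z, .z, .z, .z, .z, .v, .z, .z], [.z, .z, .z, .z, .z, .z, .z, .z, .z, .z, .v, .z, .z, .z], [.z, .z, .z, .z, .z, .z, .z, .z, .z, .o, .z, .z, .z, .z], [.z, .z, .z, .z, .z, .z,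 .z, .z, .v, .z, .z, .z, .z, .z], [.z, .z, .z, .z, .z, .z, .z, .w, .z, .z, .z, .z, .v, .z], [.z, .z, .z, .z, .z, .z, .o, .z, .z, .z, .z, .z, .z, .z], [.z, .z, .z, .z, .z, .w, .z, .z, .z, .z, .z, .v, .z, .z], [.z, .z, .z, .z, .w, .z, .z, .z, .z, .z, .v, .z, .z, .z], [.z, .z, .z, .w, .z, .z, .z, .z, .v, .z, .z, .z, .z, .z], [.z, .o, .v, .z, .z, .z, .z, .z, .z, .z, .z, .z, .z, .w]]
theorem n2228 : InR N2228 := inR_mul (inR_gen .b) n2226 (by decide +kernel)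
/-- a product -/
def N2230 : List (List GF4) := [[.o, .o, .z, .z, .z, .z, .z, .z, .z, .z, .z, .z, .z, .w], [.z, .o, .z, .z, .z, .z, .z, .z, .z, .z, .z, .z, .z, .z], [.z, .z, .z, .z, .z, .z, .z, .z, .z, .z, .z, .z, .z, .w], [.z, .z, .z, .z, .z, .z, .z, .z, .v, .z, .z, .z, .z, .z], [.z, .z, .z, .z, .z, .z, .z, .z, .z, .z, .v, .z, .z, .z], [.z, .z, .z, .z, .z, .z, .z, .z, .z, .z, .z, .v, .z, .z], [.z, .z, .z, .z, .z, .z, .o, .z, .z, .z, .z, .z, .z, .z], [.z, .z, .z, .z, .z, .z, .z, .z, .z, .z, .z, .z, .v, .z], [.z, .z, .z, .w, .z, .z, .z, .z, .v, .z, .z, .z, .z, .z], [.z, .z, .z, .z, .z, .z, .z, .z, .z, .o, .z, .z, .z, .z], [.z, .z, .z, .z, .w, .z, .z, .z, .z, .z, .v, .z, .z, .z], [.z, .z, .z, .z, .z, .w, .z, .z, .z, .z, .z, .v, .z, .z], [.z, .z, .z, .z, .z, .z, .z, .w, .z, .z, .z, .z, .v, .z], [.z, .o, .v, .z, .z, .z, .z, .z, .z, .z,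 .z, .z, .z, .w]]
theorem n2230 : InR N2230 := inR_mul (inR_gen .d) n2228 (by decide +kernel)
/-- a product -/
def N2232 : List (List GF4) := [[.o, .w, .w, .z, .w, .z, .z, .o, .z, .z, .v, .z, .w, .v], [.z, .o, .z, .o, .w, .v, .z, .o, .w, .z, .v, .o, .w, .z], [.z, .o, .o, .v, .o, .w, .z, .v, .v, .z, .o, .w, .v, .o], [.v, .w, .o, .w, .o, .w, .w, .v, .z, .z, .w, .v, .o, .w], [.w, .v, .v, .w, .w, .o, .z, .w, .v, .v, .z, .w, .v, .o], [.o, .v, .w, .o, .w, .w, .v, .o, .w, .z, .v, .z, .w, .v], [.z, .z, .z, .w, .z, .o, .o, .z, .v, .z, .z, .w, .z, .z], [.v, .o, .o, .v, .o, .w, .z, .w, .o, .o, .w, .v, .z, .w], [.z, .v, .w, .w, .z, .z, .z, .z, .v, .z, .z, .z, .z, .o], [.z, .z, .z, .z, .o, .z, .z, .v, .z, .o, .w, .z, .o, .z], [.z, .w, .o, .z, .w, .z, .z, .z, .z, .z, .v, .z, .z, .v], [.z, .o, .v, .z, .z, .w, .z, .z, .z, .z, .z, .v, .z, .w], [.z,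 .v, .w, .z, .z, .z, .z, .w, .z, .z, .z, .z, .v, .o], [.z, .o, .v, .z, .z, .z, .z, .z, .z, .z, .z, .z, .z, .w]]
theorem n2232 : InR N2232 := inR_mul (inR_gen .c) n2230 (by decide +kernel)
/-- a product -/
def N2234 : List (List GF4) := [[.o, .o, .z, .z, .z, .z, .z, .z, .z, .z, .z, .z, .z, .w], [.z, .o, .z, .z, .z, .z, .z, .z, .z, .z, .z, .z, .z, .z], [.z, .z, .z, .z, .z, .z, .z, .z, .z, .z, .z, .z, .z, .w], [.z, .z, .z, .z, .z, .z, .z, .z, .v, .z, .z, .z, .z, .z], [.z, .z, .z, .z, .z, .z, .z, .z, .z, .z, .v, .z, .z, .z], [.z, .z, .z, .z, .z, .z, .z, .z, .z, .z, .z, .v, .z, .z], [.z, .z, .z, .z, .z, .z, .o, .z, .z, .z, .z, .z, .z, .z], [.z, .z, .z, .z, .z, .z, .z, .z, .z, .z, .z, .z, .v, .z], [.z, .z, .z, .w, .z, .z, .z, .z, .v, .z, .z, .z, .z, .z], [.z, .z, .z, .z, .z, .z, .z, .z, .z, .o, .z, .z, .z, .z], [.z, .z, .z, .z, .w, .z,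 .z, .z, .z, .z, .v, .z, .z, .z], [.z, .z, .z, .z, .z, .w, .z, .z, .z, .z, .z, .v, .z, .z], [.z, .z, .z, .z, .z, .z, .z, .w, .z, .z, .z, .z, .v, .z], [.z, .o, .v, .z, .z, .z, .z, .z, .z, .z, .z, .z, .z, .w]]
theorem n2234 : InR N2234 := inR_mul (inR_gen .c) n2232 (by decide +kernel)
/-- a product -/
def N2236 : List (List GF4) := [[.o, .z, .z, .z, .z, .z, .z, .z, .z, .z, .z, .z, .z, .w], [.z, .o, .z, .z, .z, .z, .z, .z, .z, .z, .z, .z, .z, .z], [.z, .w, .o, .z, .z, .z, .z, .z, .z, .z, .z, .z, .z, .v], [.z, .z, .z, .o, .z, .z, .z, .z, .w, .z, .z, .z, .z, .z], [.z, .z, .z, .z, .o, .z, .z, .z, .z, .z, .w, .z, .z, .z], [.z, .z, .z, .z, .z, .o, .z, .z, .z, .z, .z, .w, .z, .z], [.z, .z, .z, .z, .z, .z, .o, .z, .z, .z, .z, .z, .z, .z], [.z, .z, .z, .z, .z, .z, .z, .o, .z, .z, .z, .z, .w, .z], [.z, .z, .z, .z, .z, .z, .z, .z, .o, .z, .z,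 .z, .z, .z], [.z, .z, .z, .z, .z, .z, .z, .z, .z, .o, .z, .z, .z, .z], [.z, .z, .z, .z, .z, .z, .z, .z, .z, .z, .o, .z, .z, .z], [.z, .z, .z, .z, .z, .z, .z, .z, .z, .z, .z, .o, .z, .z], [.z, .z, .z, .z, .z, .z, .z, .z, .z, .z, .z, .z, .o, .z], [.z, .z, .z, .z, .z, .z, .z, .z, .z, .z, .z, .z, .z, .o]]
theorem n2236 : InR N2236 := inR_mul (inR_gen .b) n2234 (by decide +kernel)
/-- a product -/
def N2238 : List (List GF4) := [[.o, .o, .z, .z, .z, .z, .z, .z, .z, .z, .z, .z, .z, .w], [.z, .o, .z, .z, .z, .z, .z, .z, .z, .z, .z, .z, .z, .z], [.z, .z, .z, .z, .z, .z, .z, .z, .z, .z, .z, .z, .z, .w], [.z, .z, .z, .z, .z, .z, .z, .z, .v, .z, .z, .z, .z, .z], [.z, .z, .z, .z, .z, .z, .z, .z, .z, .z, .v, .z, .z, .z], [.z, .z, .z, .z, .z, .z, .z, .z, .z, .z, .z, .v, .z, .z], [.z, .z, .z, .z, .z, .z, .o, .z, .z, .z, .z, .z, .z, .z], [.z, .z,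 .z, .z, .z, .z, .z, .z, .z, .z, .z, .z, .v, .z], [.z, .z, .z, .w, .z, .z, .z, .z, .v, .z, .z, .z, .z, .z], [.z, .z, .z, .z, .z, .z, .z, .z, .z, .o, .z, .z, .z, .z], [.z, .z, .z, .z, .w, .z, .z, .z, .z, .z, .v, .z, .z, .z], [.z, .z, .z, .z, .z, .w, .z, .z, .z, .z, .z, .v, .z, .z], [.z, .z, .z, .z, .z, .z, .z, .w, .z, .z, .z, .z, .v, .z], [.z, .o, .v, .z, .z, .z, .z, .z, .z, .z, .z, .z, .z, .w]]
theorem n2238 : InR N2238 := inR_mul (inR_gen .b) n2236 (by decide +kernel)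
/-- a product -/
def N2240 : List (List GF4) := [[.o, .w, .w, .z, .z, .z, .z, .z, .z, .z, .z, .z, .z, .v], [.z, .o, .z, .z, .z, .z, .z, .z, .z, .z, .z, .z, .z, .z], [.z, .o, .o, .z, .z, .z, .z, .z, .z, .z, .z, .z, .z, .o], [.z, .z, .z, .o, .z, .z, .z, .z, .o, .z, .z, .z, .z, .z], [.z, .z, .z, .z, .o, .z, .z, .z, .z, .z, .o, .z, .z, .z], [.z, .z, .z, .z, .z, .o, .z, .z, .z, .z, .z, .o, .z, .z], [.z, .z, .z, .z, .z, .z, .o, .z, .z, .z, .z, .z, .z, .z], [.z, .z, .z, .z, .z, .z, .z, .o, .z, .z, .z, .z, .o, .z], [.z, .z, .z, .w, .z, .z, .z, .z, .v, .z, .z, .z, .z, .z], [.z, .z, .z, .z, .z, .z, .z, .z, .z, .o, .z, .z, .z, .z], [.z, .z, .z, .z, .w, .z, .z, .z, .z, .z, .v, .z, .z, .z], [.z, .z, .z, .z, .z, .w, .z, .z, .z, .z, .z, .v, .z, .z], [.z, .z, .z, .z, .z, .z, .z, .w, .z, .z, .z, .z, .v, .z], [.z, .o, .v, .z, .z, .z, .z, .z, .z, .z,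 .z, .z, .z, .w]]
theorem n2240 : InR N2240 := inR_mul (inR_gen .f) n2238 (by decide +kernel)
/-- a product -/
def N2242 : List (List GF4) := [[.o, .o, .z, .z, .z, .z, .z, .z, .z, .z, .z, .z, .z, .z], [.z, .o, .z, .z, .z, .z, .z, .z, .z, .z, .z, .z, .z, .z], [.z, .z, .z, .z, .z, .z, .z, .z, .z, .z, .z, .z, .z, .v], [.z, .z, .z, .z, .z, .z, .z, .z, .w, .z, .z, .z, .z, .z], [.z, .z, .z, .z, .z, .z, .z, .z, .z, .z, .w, .z, .z, .z], [.z, .z, .z, .z, .z, .z, .z, .z, .z, .z, .z, .w, .z, .z], [.z, .z, .z, .z, .z, .z, .o, .z, .z, .z, .z, .z, .z, .z], [.z, .z, .z, .z, .z, .z, .z, .z, .z, .z, .z, .z, .w, .z], [.z, .z, .z, .v, .z, .z, .z, .z, .z, .z, .z, .z, .z, .z], [.z, .z, .z, .z, .z, .z, .z, .z, .z, .o, .z, .z, .z, .z], [.z, .z, .z, .z, .v, .z, .z, .z, .z, .z, .z, .z, .z, .z], [.z, .z, .z, .z, .z, .v, .z, .z, .z, .z, .z, .z, .z, .z], [.z,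 .z, .z, .z, .z, .z, .z, .v, .z, .z, .z, .z, .z, .z], [.z, .z, .w, .z, .z, .z, .z, .z, .z, .z, .z, .z, .z, .z]]
theorem n2242 : InR N2242 := inR_mul n9 n2240 (by decide +kernel)
/-- a product -/
def N2244 : List (List GF4) := [[.v, .w, .v, .w, .v, .z, .o, .v, .o, .o, .z, .o, .v, .w], [.w, .v, .o, .w, .w, .z, .w, .w, .v, .w, .z, .v, .v, .v], [.v, .w, .w, .o, .o, .z, .v, .o, .o, .v, .v, .w, .o, .z], [.v, .v, .v, .w, .w, .z, .o, .o, .v, .v, .z, .w, .o, .o], [.v, .o, .v, .w, .w, .v, .v, .w, .v, .o, .z, .z, .w, .w], [.z, .z, .z, .z, .v, .z, .z, .z, .o, .w, .w, .z, .z, .v], [.w, .o, .o, .v, .w, .z, .w, .v, .o, .z, .w, .o, .v, .v], [.v, .o, .v, .o, .w, .z, .o, .w, .z, .o, .o, .v, .v, .o], [.w, .v, .o, .o, .o, .w, .v, .z, .w, .v, .z, .w, .o, .o], [.w, .o, .o, .w, .v, .o, .z, .v, .o, .w, .z, .v, .o, .v], [.z, .z, .v, .z, .z, .v, .o, .w, .z,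 .z, .z, .v, .z, .z], [.w, .v, .w, .v, .z, .z, .v, .o, .w, .w, .v, .w, .w, .o], [.w, .w, .o, .w, .v, .z, .w, .o, .o, .v, .z, .w, .w, .o], [.o, .v, .z, .o, .w, .v, .o, .o, .v, .o, .z, .v, .v, .w]]
theorem n2244 : InR N2244 := inR_mul n1107 n2242 (by decide +kernel)
/-- a product -/
def N2246 : List (List GF4) := [[.o, .o, .z, .z, .z, .z, .z, .z, .z, .o, .z, .z, .z, .v], [.z, .o, .z, .z, .z, .z, .z, .z, .z, .z, .z, .z, .z, .z], [.z, .v, .o, .z, .z, .z, .z, .z, .z, .z, .z, .z, .z, .w], [.z, .z, .z, .z, .z, .z, .z, .o, .z, .z, .z, .z, .v, .z], [.z, .z, .z, .z, .z, .o, .z, .o, .z, .z, .z, .v, .v, .z], [.z, .z, .z, .z, .o, .z, .z, .o, .z, .z, .v, .z, .v, .z], [.z, .z, .z, .z, .z, .z, .z, .z, .z, .o, .z, .z, .z, .z], [.z, .z, .z, .o, .o, .o, .z, .o, .v, .z, .v, .v, .v, .z], [.z, .z, .z, .z, .z, .z, .z, .z, .z, .z, .z, .z, .o, .z], [.z, .o,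 .z, .z, .z, .z, .o, .z, .z, .o, .z, .z, .z, .z], [.z, .z, .z, .z, .z, .z, .z, .z, .z, .z, .z, .o, .o, .z], [.z, .z, .z, .z, .z, .z, .z, .z, .z, .z, .o, .z, .o, .z], [.z, .z, .z, .z, .z, .z, .z, .z, .o, .z, .o, .o, .o, .z], [.z, .z, .z, .z, .z, .z, .z, .z, .z, .z, .z, .z, .z, .o]]
theorem n2246 : InR N2246 := inR_mul n1616 n2244 (by decide +kernel)
/-- a product -/
def N2248 : List (List GF4) := [[.o, .o, .z, .z, .z, .z, .z, .z, .z, .o, .z, .z, .z, .z], [.z, .o, .z, .z, .z, .z, .z, .z, .z, .z, .z, .z, .z, .z], [.z, .z, .o, .z, .z, .z, .z, .z, .z, .z, .z, .z, .z, .z], [.z, .z, .z, .z, .z, .z, .z, .o, .z, .z, .z, .z, .z, .z], [.z, .z, .z, .z, .z, .o, .z, .o, .z, .z, .z, .z, .z, .z], [.z, .z, .z, .z, .o, .z, .z, .o, .z, .z, .z, .z, .z, .z], [.z, .z, .z, .z, .z, .z, .z, .z, .z, .o, .z, .z, .z, .z], [.z, .z, .z, .o, .o, .o, .z, .o, .z,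 .z, .z, .z, .z, .z], [.z, .z, .z, .z, .z, .z, .z, .z, .z, .z, .z, .z, .o, .z], [.z, .o, .z, .z, .z, .z, .o, .z, .z, .o, .z, .z, .z, .z], [.z, .z, .z, .z, .z, .z, .z, .z, .z, .z, .z, .o, .o, .z], [.z, .z, .z, .z, .z, .z, .z, .z, .z, .z, .o, .z, .o, .z], [.z, .z, .z, .z, .z, .z, .z, .z, .o, .z, .o, .o, .o, .z], [.z, .z, .z, .z, .z, .z, .z, .z, .z, .z, .z, .z, .z, .o]]
theorem n2248 : InR N2248 := inR_mul (inR_gen .f) n2246 (by decide +kernel)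
/-- a product -/
def N2250 : List (List GF4) := [[.o, .o, .z, .z, .z, .z, .o, .z, .w, .z, .z, .w, .z, .z], [.z, .o, .z, .z, .z, .z, .z, .z, .w, .z, .z, .z, .w, .v], [.v, .z, .o, .w, .z, .z, .z, .w, .o, .z, .z, .z, .z, .z], [.z, .w, .z, .o, .o, .o, .w, .o, .z, .w, .v, .z, .v, .o], [.w, .w, .z, .o, .z, .o, .w, .z, .v, .z, .z, .z, .v, .o], [.w, .w, .z, .o, .o, .z, .z, .z, .v, .w, .v, .z, .v, .o], [.z, .o, .z, .z, .z, .z, .o, .z, .w, .o, .w, .w, .w, .v], [.w, .w, .z, .o, .z, .z, .z, .z, .v, .z, .z, .z, .v, .o], [.z, .z, .z, .z, .z, .z, .z, .z, .o, .z, .o, .o, .o, .z], [.z, .z, .z, .z, .z, .z, .o, .z, .z, .z, .z, .w, .z, .z], [.z, .z, .z, .z, .z, .z, .z, .z, .o, .z, .z, .o, .z, .w], [.z, .z, .z, .z, .z, .z, .z, .z, .o, .z, .o, .z, .z, .w], [.z, .z, .z, .z, .z, .z, .z, .z, .o, .z, .z, .z, .z, .w], [.z, .z, .z, .z, .z, .z, .z, .z, .z, .z,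 .z, .z, .z, .o]]
theorem n2250 : InR N2250 := inR_mul n2248 n2152 (by decide +kernel)
/-- a product -/
def N2252 : List (List GF4) := [[.o, .o, .z, .z, .z, .z, .o, .z, .w, .z, .z, .w, .z, .v], [.z, .o, .z, .z, .z, .z, .z, .z, .w, .z, .z, .z, .w, .v], [.v, .v, .o, .w, .z, .z, .z, .w, .z, .z, .z, .z, .o, .z], [.z, .w, .z, .o, .o, .o, .w, .o, .v, .w, .z, .v, .z, .o], [.w, .w, .z, .o, .z, .o, .w, .z, .z, .z, .z, .v, .v, .z], [.w, .w, .z, .o, .o, .z, .z, .z, .z, .w, .z, .z, .v, .z], [.z, .o, .z, .z, .z, .z, .o, .z, .w, .o, .w, .w, .w, .v], [.w, .w, .z, .o, .z, .z, .z, .z, .z, .z, .z, .z, .v, .z], [.z, .z, .z, .z, .z, .z, .z, .z, .o, .z, .o, .o, .o, .z], [.z, .z, .z, .z, .z, .z, .o, .z, .z, .z, .z, .w, .z, .z], [.z, .z, .z, .z, .z, .z, .z, .z, .o, .z, .z, .o, .z, .w], [.z, .z, .z, .z, .z, .z, .z, .z, .o, .z, .o, .z, .z, .w], [.z, .z, .z,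 .z, .z, .z, .z, .z, .o, .z, .z, .z, .z, .w], [.z, .z, .z, .z, .z, .z, .z, .z, .z, .z, .z, .z, .z, .o]]
theorem n2252 : InR N2252 := inR_mul n2248 n2218 (by decide +kernel)
/-- a product -/
def N2254 : List (List GF4) := [[.o, .o, .z, .z, .z, .z, .o, .z, .z, .z, .z, .z, .z, .z], [.z, .o, .z, .z, .z, .z, .z, .z, .z, .z, .z, .z, .z, .z], [.z, .z, .o, .z, .z, .z, .z, .z, .z, .z, .z, .z, .z, .z], [.z, .z, .z, .o, .o, .o, .z, .o, .z, .z, .z, .z, .z, .z], [.z, .z, .z, .o, .z, .o, .z, .z, .z, .z, .z, .z, .z, .z], [.z, .z, .z, .o, .o, .z, .z, .z, .z, .z, .z, .z, .z, .z], [.z, .o, .z, .z, .z, .z, .o, .z, .z, .o, .z, .z, .z, .z], [.z, .z, .z, .o, .z, .z, .z, .z, .z, .z, .z, .z, .z, .z], [.z, .z, .z, .z, .z, .z, .z, .z, .o, .z, .o, .o, .o, .z], [.z, .z, .z, .z, .z, .z, .o, .z, .z, .z, .z, .z, .z, .z], [.z, .z, .z, .z, .z, .z, .z, .z, .o, .z,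 .z, .o, .z, .z], [.z, .z, .z, .z, .z, .z, .z, .z, .o, .z, .o, .z, .z, .z], [.z, .z, .z, .z, .z, .z, .z, .z, .o, .z, .z, .z, .z, .z], [.z, .z, .z, .z, .z, .z, .z, .z, .z, .z, .z, .z, .z, .o]]
theorem n2254 : InR N2254 := inR_mul n2248 n2248 (by decide +kernel)
/-- a product -/
def N2786 : List (List GF4) := [[.o, .z, .z, .z, .z, .z, .z, .z, .z, .z, .z, .z, .z, .v], [.z, .o, .z, .z, .z, .z, .z, .z, .z, .z, .z, .z, .z, .z], [.z, .v, .o, .z, .z, .z, .z, .z, .z, .z, .z, .z, .z, .w], [.z, .z, .z, .o, .z, .z, .z, .z, .v, .z, .z, .z, .z, .z], [.z, .z, .z, .z, .o, .z, .z, .z, .z, .z, .v, .z, .z, .z], [.z, .z, .z, .z, .z, .o, .z, .z, .z, .z, .z, .v, .z, .z], [.z, .z, .z, .z, .z, .z, .o, .z, .z, .z, .z, .z, .z, .z], [.z, .z, .z, .z, .z, .z, .z, .o, .z, .z, .z, .z, .v, .z], [.z, .z, .z, .z, .z, .z, .z, .z, .o, .z, .z, .z, .z, .z], [.z, .z, .z,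 .z, .z, .z, .z, .z, .z, .o, .z, .z, .z, .z], [.z, .z, .z, .z, .z, .z, .z, .z, .z, .z, .o, .z, .z, .z], [.z, .z, .z, .z, .z, .z, .z, .z, .z, .z, .z, .o, .z, .z], [.z, .z, .z, .z, .z, .z, .z, .z, .z, .z, .z, .z, .o, .z], [.z, .z, .z, .z, .z, .z, .z, .z, .z, .z, .z, .z, .z, .o]]
theorem n2786 : InR N2786 := inR_mul n868 (inR_gen .a) (by decide +kernel)
/-- a product -/
def N3066 : List (List GF4) := [[.o, .o, .z, .z, .z, .z, .o, .z, .z, .z, .z, .w, .z, .v], [.z, .o, .z, .z, .z, .z, .z, .z, .w, .z, .w, .w, .z, .v], [.v, .z, .o, .w, .w, .w, .z, .z, .o, .v, .o, .o, .o, .z], [.w, .w, .z, .o, .o, .o, .z, .o, .v, .w, .v, .v, .z, .o], [.w, .w, .z, .o, .z, .o, .z, .z, .v, .z, .z, .v, .v, .o], [.w, .z, .z, .o, .o, .z, .w, .z, .v, .z, .v, .v, .z, .o], [.z, .o, .z, .z, .z, .z, .o, .z, .z, .o, .z, .w, .w, .z], [.z, .z, .z, .o, .z, .z, .w, .z, .z,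 .z, .v, .z, .z, .o], [.z, .z, .z, .z, .z, .z, .z, .z, .o, .z, .o, .o, .o, .w], [.z, .z, .z, .z, .z, .z, .o, .z, .w, .z, .z, .z, .z, .v], [.z, .z, .z, .z, .z, .z, .z, .z, .o, .z, .z, .o, .z, .w], [.z, .z, .z, .z, .z, .z, .z, .z, .o, .z, .o, .z, .z, .w], [.z, .z, .z, .z, .z, .z, .z, .z, .o, .z, .z, .z, .z, .z], [.z, .z, .z, .z, .z, .z, .z, .z, .z, .z, .z, .z, .z, .o]]
theorem n3066 : InR N3066 := inR_mul n2218 n2248 (by decide +kernel)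
/-- a product -/
def N3068 : List (List GF4) := [[.z, .z, .z, .o, .o, .v, .o, .v, .z, .o, .w, .o, .z, .w], [.w, .o, .z, .o, .w, .v, .o, .o, .z, .z, .w, .v, .o, .w], [.w, .v, .w, .w, .w, .v, .o, .o, .z, .z, .v, .o, .w, .w], [.z, .z, .v, .z, .z, .w, .z, .o, .z, .o, .z, .z, .v, .z], [.o, .v, .w, .w, .v, .v, .o, .z, .z, .w, .v, .v, .v, .w], [.o, .z, .o, .o, .o, .z, .o, .o, .z, .w, .w, .o, .z, .w], [.w, .v, .z, .w, .w, .o, .o, .o, .z, .v, .v, .o, .o, .w], [.z, .o, .v, .v, .v, .o, .w, .o, .v, .v, .w, .o, .v, .z], [.o, .v, .z, .w, .v, .o, .o, .w, .z, .o, .v, .v, .z, .w], [.w, .z, .z, .z, .w, .z, .z, .o, .v, .w, .o, .z, .o, .w], [.v, .o, .z, .o, .w, .v, .o, .o, .z, .w, .w, .v, .w, .w], [.w, .o, .z, .v, .o, .w, .w, .v, .v, .w, .w, .v, .w, .z], [.o, .w, .z, .w, .v, .o, .w, .w, .z, .v, .w, .o, .z, .w], [.z, .z, .z, .z, .z, .z, .z, .z, .v, .z,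 .o, .w, .v, .w]]
theorem n3068 : InR N3068 := inR_mul n1633 n3066 (by decide +kernel)
/-- a product -/
def N3070 : List (List GF4) := [[.z, .v, .o, .v, .w, .v, .o, .z, .v, .w, .w, .o, .o, .o], [.z, .z, .o, .z, .v, .w, .z, .w, .z, .o, .v, .w, .z, .o], [.z, .o, .o, .z, .z, .z, .z, .w, .z, .z, .z, .z, .w, .o], [.w, .w, .z, .o, .v, .w, .z, .o, .o, .o, .v, .w, .w, .w], [.o, .z, .o, .v, .o, .o, .z, .z, .v, .w, .o, .o, .w, .z], [.v, .w, .o, .w, .o, .o, .z, .o, .w, .w, .o, .o, .z, .w], [.w, .w, .o, .o, .v, .w, .w, .v, .o, .w, .v, .o, .w, .v], [.w, .v, .o, .o, .w, .v, .z, .v, .o, .v, .w, .v, .z, .v], [.v, .v, .o, .w, .w, .v, .w, .o, .v, .z, .o, .w, .v, .z], [.v, .w, .z, .w, .v, .w, .v, .v, .w, .v, .v, .v, .z, .v], [.o, .v, .o, .z, .v, .w, .o, .w, .v, .z, .w, .o, .o, .o], [.z, .w, .o, .v, .z, .z, .v, .z, .o, .w, .o, .z, .z, .w], [.o, .w, .o,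 .z, .v, .w, .w, .w, .o, .w, .o, .w, .z, .w], [.v, .z, .z, .o, .w, .v, .w, .o, .o, .z, .o, .w, .v, .w]]
theorem n3070 : InR N3070 := inR_mul n1472 n3068 (by decide +kernel)
/-- a product -/
def N3072 : List (List GF4) := [[.o, .z, .z, .z, .z, .z, .z, .z, .z, .z, .z, .z, .o, .z], [.z, .o, .z, .z, .z, .z, .z, .z, .z, .z, .z, .z, .o, .z], [.z, .z, .o, .z, .z, .z, .z, .o, .z, .z, .z, .z, .z, .z], [.o, .o, .z, .o, .z, .z, .z, .z, .z, .z, .z, .z, .o, .z], [.z, .z, .z, .z, .o, .z, .z, .z, .z, .o, .z, .z, .z, .z], [.z, .z, .z, .z, .z, .o, .z, .z, .z, .z, .z, .z, .z, .z], [.z, .z, .z, .z, .z, .z, .o, .z, .z, .z, .z, .o, .z, .z], [.z, .z, .z, .z, .z, .z, .z, .o, .z, .z, .z, .z, .z, .z], [.z, .z, .z, .z, .z, .z, .z, .z, .o, .z, .z, .z, .z, .o], [.z, .z, .z, .z, .z, .z, .z, .z, .z, .o, .z, .z, .z, .z], [.z, .z, .z, .z, .z, .z, .z, .z, .z, .z,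 .o, .z, .z, .z], [.z, .z, .z, .z, .z, .z, .z, .z, .z, .z, .z, .o, .z, .z], [.z, .z, .z, .z, .z, .z, .z, .z, .z, .z, .z, .z, .o, .z], [.z, .z, .z, .z, .z, .z, .z, .z, .z, .z, .z, .z, .z, .o]]
theorem n3072 : InR N3072 := inR_mul n564 n3070 (by decide +kernel)
/-- a product -/
def N3074 : List (List GF4) := [[.o, .o, .z, .z, .z, .z, .z, .z, .z, .o, .z, .w, .w, .z], [.z, .o, .z, .z, .z, .z, .z, .z, .z, .z, .w, .w, .w, .v], [.v, .v, .o, .z, .w, .w, .v, .w, .o, .z, .o, .o, .o, .z], [.z, .z, .z, .z, .z, .z, .z, .o, .z, .w, .z, .v, .z, .o], [.w, .w, .z, .z, .z, .o, .z, .o, .z, .w, .v, .v, .v, .o], [.w, .z, .z, .z, .o, .z, .z, .o, .v, .z, .v, .z, .v, .o], [.z, .z, .z, .z, .z, .z, .z, .z, .z, .o, .z, .z, .w, .v], [.w, .z, .z, .o, .o, .o, .w, .o, .z, .z, .v, .v, .v, .o], [.z, .z, .z, .z, .z, .z, .z, .z, .z, .z, .z, .z, .o, .z], [.z, .o, .z,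 .z, .z, .z, .o, .z, .w, .o, .w, .z, .z, .z], [.z, .z, .z, .z, .z, .z, .z, .z, .z, .z, .z, .o, .o, .w], [.z, .z, .z, .z, .z, .z, .z, .z, .z, .z, .o, .z, .o, .w], [.z, .z, .z, .z, .z, .z, .z, .z, .o, .z, .o, .o, .o, .w], [.z, .z, .z, .z, .z, .z, .z, .z, .z, .z, .z, .z, .z, .o]]
theorem n3074 : InR N3074 := inR_mul n2250 n2254 (by decide +kernel)
/-- a product -/
def N3076 : List (List GF4) := [[.w, .w, .v, .v, .z, .w, .z, .v, .o, .v, .v, .v, .o, .o], [.v, .v, .o, .z, .v, .v, .v, .w, .w, .w, .o, .w, .w, .v], [.v, .w, .w, .w, .v, .o, .z, .o, .o, .o, .w, .v, .w, .o], [.w, .v, .v, .v, .o, .w, .z, .o, .o, .v, .w, .v, .v, .o], [.z, .w, .v, .v, .o, .o, .v, .w, .v, .w, .o, .o, .w, .v], [.w, .z, .z, .z, .v, .z, .z, .z, .w, .w, .o, .o, .o, .w], [.o, .o, .o, .o, .v, .v, .z, .v, .z, .o, .w, .z, .z, .z], [.v, .o, .v, .z, .o, .w, .w, .w, .v, .w,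 .w, .z, .w, .w], [.z, .o, .o, .v, .z, .o, .v, .z, .v, .o, .v, .o, .o, .w], [.v, .z, .o, .z, .w, .w, .v, .v, .o, .v, .z, .v, .o, .w], [.w, .v, .v, .o, .v, .o, .z, .w, .w, .v, .w, .w, .v, .o], [.o, .v, .w, .z, .w, .o, .o, .o, .o, .z, .v, .w, .w, .v], [.o, .w, .o, .z, .w, .v, .v, .o, .o, .z, .v, .o, .w, .o], [.o, .z, .z, .o, .w, .v, .v, .o, .v, .z, .v, .o, .w, .w]]
theorem n3076 : InR N3076 := inR_mul n1597 n3074 (by decide +kernel)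
/-- a product -/
def N3078 : List (List GF4) := [[.o, .z, .z, .z, .z, .z, .z, .z, .z, .z, .z, .z, .w, .w], [.z, .o, .z, .z, .z, .z, .z, .z, .z, .z, .z, .z, .w, .z], [.z, .w, .o, .z, .z, .z, .z, .w, .z, .z, .z, .z, .v, .v], [.w, .w, .z, .o, .z, .z, .z, .z, .w, .z, .z, .z, .v, .v], [.z, .z, .z, .z, .o, .z, .z, .z, .z, .w, .w, .z, .z, .z], [.z, .z, .z, .z, .z, .o, .z, .z, .z, .z, .z, .w, .z, .z], [.z, .z, .z, .z, .z, .z, .o, .z, .z, .z, .z, .w, .z, .z], [.z, .z, .z, .z, .z, .z, .z, .o, .z, .z, .z, .z, .w, .z], [.z, .z, .z, .z, .z, .z, .z, .z, .o, .z, .z, .z, .z, .w], [.z, .z, .z, .z, .z, .z, .z, .z, .z, .o, .z, .z, .z, .z], [.z, .z, .z, .z, .z, .z, .z, .z, .z, .z, .o, .z, .z, .z], [.z, .z, .z, .z, .z, .z, .z, .z, .z, .z, .z, .o, .z, .z], [.z, .z, .z, .z, .z, .z, .z, .z, .z, .z, .z, .z, .o, .z], [.z, .z, .z, .z, .z, .z, .z, .z, .z, .z,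 .z, .z, .z, .o]]
theorem n3078 : InR N3078 := inR_mul n970 n3076 (by decide +kernel)
/-- a product -/
def N3080 : List (List GF4) := [[.o, .z, .z, .z, .z, .z, .z, .z, .z, .z, .z, .z, .w, .z], [.z, .o, .z, .z, .z, .z, .z, .z, .z, .z, .z, .z, .w, .z], [.z, .z, .o, .z, .z, .z, .z, .w, .z, .z, .z, .z, .z, .z], [.w, .w, .z, .o, .z, .z, .z, .z, .z, .z, .z, .z, .v, .z], [.z, .z, .z, .z, .o, .z, .z, .z, .z, .w, .z, .z, .z, .z], [.z, .z, .z, .z, .z, .o, .z, .z, .z, .z, .z, .z, .z, .z], [.z, .z, .z, .z, .z, .z, .o, .z, .z, .z, .z, .w, .z, .z], [.z, .z, .z, .z, .z, .z, .z, .o, .z, .z, .z, .z, .z, .z], [.z, .z, .z, .z, .z, .z, .z, .z, .o, .z, .z, .z, .z, .w], [.z, .z, .z, .z, .z, .z, .z, .z, .z, .o, .z, .z, .z, .z], [.z, .z, .z, .z, .z, .z, .z, .z, .z, .z, .o, .z, .z, .z], [.z, .z, .z, .z, .z, .z, .z, .z, .z, .z, .z, .o, .z, .z], [.z, .z, .z,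 .z, .z, .z, .z, .z, .z, .z, .z, .z, .o, .z], [.z, .z, .z, .z, .z, .z, .z, .z, .z, .z, .z, .z, .z, .o]]
theorem n3080 : InR N3080 := inR_mul (inR_gen .a) n3078 (by decide +kernel)
/-- a product -/
def N3082 : List (List GF4) := [[.o, .z, .z, .z, .z, .z, .z, .z, .z, .z, .z, .z, .v, .z], [.z, .o, .z, .z, .z, .z, .z, .z, .z, .z, .z, .z, .v, .z], [.z, .z, .o, .z, .z, .z, .z, .v, .z, .z, .z, .z, .z, .z], [.v, .v, .z, .o, .z, .z, .z, .z, .z, .z, .z, .z, .w, .z], [.z, .z, .z, .z, .o, .z, .z, .z, .z, .v, .z, .z, .z, .z], [.z, .z, .z, .z, .z, .o, .z, .z, .z, .z, .z, .z, .z, .z], [.z, .z, .z, .z, .z, .z, .o, .z, .z, .z, .z, .v, .z, .z], [.z, .z, .z, .z, .z, .z, .z, .o, .z, .z, .z, .z, .z, .z], [.z, .z, .z, .z, .z, .z, .z, .z, .o, .z, .z, .z, .z, .v], [.z, .z, .z, .z, .z, .z, .z, .z, .z, .o, .z, .z, .z, .z], [.z, .z, .z, .z, .z, .z, .z, .z,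 .z, .z, .o, .z, .z, .z], [.z, .z, .z, .z, .z, .z, .z, .z, .z, .z, .z, .o, .z, .z], [.z, .z, .z, .z, .z, .z, .z, .z, .z, .z, .z, .z, .o, .z], [.z, .z, .z, .z, .z, .z, .z, .z, .z, .z, .z, .z, .z, .o]]
theorem n3082 : InR N3082 := inR_mul n3072 n3080 (by decide +kernel)
/-- a product -/
def N3083 : List (List GF4) := [[.w, .w, .v, .w, .w, .w, .v, .v, .o, .w, .v, .z, .w, .v], [.z, .w, .o, .z, .v, .w, .z, .z, .z, .z, .w, .o, .z, .w], [.w, .o, .w, .w, .o, .z, .v, .w, .o, .o, .w, .v, .o, .z], [.z, .o, .v, .z, .w, .z, .o, .v, .v, .w, .v, .o, .o, .o], [.v, .w, .v, .v, .z, .z, .o, .v, .o, .z, .z, .o, .w, .v], [.v, .v, .z, .z, .z, .o, .o, .z, .v, .z, .w, .v, .z, .w], [.z, .w, .o, .o, .v, .w, .w, .o, .v, .v, .w, .o, .v, .w], [.z, .w, .v, .v, .w, .z, .o, .z, .o, .z, .o, .z, .z, .o], [.z, .w, .o, .w, .w, .v, .w, .v, .z, .v, .w, .z, .v, .w], [.z,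 .v, .o, .o, .z, .z, .w, .z, .v, .z, .z, .z, .z, .w], [.o, .w, .v, .v, .z, .v, .w, .o, .v, .z, .z, .z, .v, .w], [.o, .z, .w, .w, .o, .w, .w, .z, .z, .z, .z, .o, .z, .z], [.z, .v, .o, .v, .v, .z, .w, .z, .v, .z, .w, .z, .z, .w], [.o, .w, .z, .o, .w, .v, .w, .o, .v, .v, .w, .z, .v, .w]]
theorem n3083 : InR N3083 := inR_mul n1635 n2152 (by decide +kernel)
/-- a product -/
def N3085 : List (List GF4) := [[.o, .o, .z, .z, .z, .z, .z, .z, .z, .z, .z, .v, .z, .o], [.z, .o, .z, .z, .z, .z, .z, .z, .z, .z, .o, .v, .z, .v], [.v, .o, .o, .z, .o, .v, .o, .z, .o, .w, .o, .o, .o, .z], [.z, .z, .z, .z, .z, .z, .z, .o, .z, .o, .z, .o, .w, .o], [.v, .v, .z, .z, .z, .v, .z, .z, .z, .z, .v, .o, .o, .o], [.o, .z, .z, .z, .w, .z, .z, .z, .w, .z, .w, .v, .z, .o], [.z, .z, .z, .z, .z, .z, .z, .z, .z, .w, .z, .z, .o, .w], [.z, .z, .z, .o, .z, .z, .v, .z,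 .o, .z, .w, .z, .z, .o], [.z, .z, .z, .z, .z, .z, .z, .z, .z, .z, .z, .z, .o, .z], [.z, .z, .z, .z, .z, .z, .v, .z, .v, .z, .z, .z, .z, .o], [.z, .z, .z, .z, .z, .z, .z, .z, .z, .z, .z, .v, .z, .v], [.z, .z, .z, .z, .z, .z, .z, .z, .z, .z, .w, .z, .z, .o], [.z, .z, .z, .z, .z, .z, .z, .z, .o, .z, .z, .z, .z, .z], [.z, .z, .z, .z, .z, .z, .z, .z, .z, .z, .z, .z, .z, .o]]
theorem n3085 : InR N3085 := inR_mul n1100 n3083 (by decide +kernel)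
/-- a product -/
def N3087 : List (List GF4) := [[.o, .z, .z, .z, .z, .z, .z, .z, .z, .z, .z, .z, .z, .z], [.z, .o, .z, .z, .z, .z, .z, .z, .z, .z, .z, .o, .z, .z], [.z, .z, .o, .z, .z, .o, .z, .z, .z, .o, .z, .z, .o, .z], [.z, .z, .z, .o, .z, .z, .o, .z, .z, .z, .o, .z, .z, .o], [.o, .z, .z, .z, .o, .z, .z, .z, .z, .z, .z, .o, .z, .z], [.z, .z, .z, .z, .z, .o, .z, .z, .z, .z, .z, .z, .o, .z], [.z, .z, .z, .z, .z, .z, .o, .z, .z, .z, .z, .z, .z, .o], [.z, .z, .z, .z, .z, .z, .z, .o, .z, .z, .z, .z, .z, .z], [.z, .z, .z, .z, .z, .z, .z, .z, .o, .z, .z, .z, .z, .z], [.z, .z, .z, .z, .z, .z, .z, .z, .z, .o, .z, .z, .o, .z], [.z, .z, .z, .z, .z, .z, .z, .z, .z, .z, .o, .z, .z, .o], [.z, .z, .z, .z, .z, .z, .z, .z, .z, .z, .z, .o, .z, .z], [.z, .z, .z, .z, .z, .z, .z, .z, .z, .z, .z, .z, .o, .z], [.z, .z, .z, .z, .z, .z, .z, .z, .z, .z,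 .z, .z, .z, .o]]
theorem n3087 : InR N3087 := inR_mul n150 n3085 (by decide +kernel)
/-- a product -/
def N3089 : List (List GF4) := [[.o, .z, .z, .z, .z, .z, .z, .z, .z, .z, .z, .z, .w, .v], [.z, .o, .z, .z, .z, .z, .z, .z, .w, .z, .z, .z, .w, .v], [.v, .z, .o, .w, .z, .z, .z, .w, .o, .z, .z, .z, .z, .z], [.w, .w, .z, .o, .z, .z, .z, .z, .v, .z, .z, .z, .v, .o], [.z, .z, .z, .z, .o, .z, .z, .z, .z, .w, .v, .z, .z, .z], [.z, .z, .z, .z, .z, .o, .w, .z, .z, .z, .z, .z, .z, .z], [.z, .z, .z, .z, .z, .z, .o, .z, .z, .z, .z, .w, .z, .z], [.w, .z, .z, .z, .z, .z, .z, .o, .v, .z, .z, .z, .z, .z], [.z, .z, .z, .z, .z, .z, .z, .z, .o, .z, .z, .z, .z, .w], [.z, .z, .z, .z, .z, .z, .z, .z, .z, .o, .w, .z, .z, .z], [.z, .z, .z, .z, .z, .z, .z, .z, .z, .z, .o, .z, .z, .z], [.z, .z, .z, .z, .z, .z, .z, .z, .z, .z, .z, .o, .z, .z], [.z, .z, .z,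 .z, .z, .z, .z, .z, .z, .z, .z, .z, .o, .w], [.z, .z, .z, .z, .z, .z, .z, .z, .z, .z, .z, .z, .z, .o]]
theorem n3089 : InR N3089 := inR_mul n2222 n2248 (by decide +kernel)
/-- a product -/
def N3091 : List (List GF4) := [[.o, .z, .z, .z, .z, .z, .z, .z, .z, .z, .v, .z, .z, .w], [.z, .o, .z, .z, .z, .z, .z, .z, .z, .z, .v, .o, .z, .v], [.v, .o, .o, .z, .v, .o, .w, .z, .o, .o, .v, .w, .o, .z], [.z, .z, .z, .o, .z, .z, .o, .z, .o, .z, .o, .z, .z, .o], [.o, .z, .z, .z, .o, .z, .z, .z, .w, .z, .o, .o, .z, .o], [.v, .v, .z, .z, .z, .o, .z, .z, .z, .z, .w, .w, .o, .o], [.z, .z, .z, .z, .z, .z, .o, .z, .v, .z, .z, .z, .z, .o], [.z, .z, .z, .z, .z, .z, .z, .o, .z, .v, .z, .w, .w, .o], [.z, .z, .z, .z, .z, .z, .z, .z, .o, .z, .z, .z, .z, .z], [.z, .z, .z, .z, .z, .z, .z, .z, .z, .o, .z, .z, .o, .w], [.z, .z, .z, .z, .z, .z, .z, .z, .z, .z,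 .o, .z, .z, .o], [.z, .z, .z, .z, .z, .z, .z, .z, .z, .z, .z, .o, .z, .v], [.z, .z, .z, .z, .z, .z, .z, .z, .z, .z, .z, .z, .o, .z], [.z, .z, .z, .z, .z, .z, .z, .z, .z, .z, .z, .z, .z, .o]]
theorem n3091 : InR N3091 := inR_mul n1641 n3089 (by decide +kernel)
/-- a product -/
def N3093 : List (List GF4) := [[.o, .o, .z, .z, .z, .z, .z, .z, .z, .z, .z, .o, .z, .o], [.z, .o, .z, .z, .z, .z, .z, .z, .z, .z, .v, .o, .z, .v], [.v, .o, .o, .z, .v, .o, .w, .z, .o, .o, .v, .w, .o, .z], [.z, .z, .z, .z, .z, .z, .z, .o, .z, .v, .z, .w, .w, .o], [.v, .v, .z, .z, .z, .o, .z, .z, .z, .z, .w, .w, .o, .o], [.o, .z, .z, .z, .o, .z, .z, .z, .w, .z, .o, .o, .z, .o], [.z, .z, .z, .z, .z, .z, .z, .z, .z, .o, .z, .z, .o, .w], [.z, .z, .z, .o, .z, .z, .o, .z, .o, .z, .o, .z, .z, .o], [.z, .z, .z, .z, .z, .z, .z, .z, .z, .z, .z, .z, .o, .z], [.z, .z, .z,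 .z, .z, .z, .o, .z, .v, .z, .z, .z, .z, .o], [.z, .z, .z, .z, .z, .z, .z, .z, .z, .z, .z, .o, .z, .v], [.z, .z, .z, .z, .z, .z, .z, .z, .z, .z, .o, .z, .z, .o], [.z, .z, .z, .z, .z, .z, .z, .z, .o, .z, .z, .z, .z, .z], [.z, .z, .z, .z, .z, .z, .z, .z, .z, .z, .z, .z, .z, .o]]
theorem n3093 : InR N3093 := inR_mul (inR_gen .d) n3091 (by decide +kernel)
/-- a product -/
def N3095 : List (List GF4) := [[.o, .z, .z, .z, .z, .z, .z, .z, .z, .z, .z, .z, .z, .z], [.z, .o, .z, .z, .z, .z, .z, .z, .z, .z, .z, .w, .z, .z], [.z, .z, .o, .z, .z, .w, .z, .z, .z, .v, .z, .z, .o, .z], [.z, .z, .z, .o, .z, .z, .w, .z, .z, .z, .v, .z, .z, .o], [.w, .z, .z, .z, .o, .z, .z, .z, .z, .z, .z, .v, .z, .z], [.z, .z, .z, .z, .z, .o, .z, .z, .z, .z, .z, .z, .v, .z], [.z, .z, .z, .z, .z, .z, .o, .z, .z, .z, .z, .z, .z, .v], [.z, .z, .z, .z, .z, .z, .z, .o,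 .z, .z, .z, .z, .z, .z], [.z, .z, .z, .z, .z, .z, .z, .z, .o, .z, .z, .z, .z, .z], [.z, .z, .z, .z, .z, .z, .z, .z, .z, .o, .z, .z, .w, .z], [.z, .z, .z, .z, .z, .z, .z, .z, .z, .z, .o, .z, .z, .w], [.z, .z, .z, .z, .z, .z, .z, .z, .z, .z, .z, .o, .z, .z], [.z, .z, .z, .z, .z, .z, .z, .z, .z, .z, .z, .z, .o, .z], [.z, .z, .z, .z, .z, .z, .z, .z, .z, .z, .z, .z, .z, .o]]
theorem n3095 : InR N3095 := inR_mul n50 n3093 (by decide +kernel)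
/-- a product -/
def N3097 : List (List GF4) := [[.o, .z, .z, .z, .z, .z, .z, .z, .z, .z, .z, .z, .z, .z], [.z, .o, .z, .z, .z, .z, .z, .z, .z, .z, .z, .v, .z, .z], [.z, .z, .o, .z, .z, .v, .z, .z, .z, .w, .z, .z, .o, .z], [.z, .z, .z, .o, .z, .z, .v, .z, .z, .z, .w, .z, .z, .o], [.v, .z, .z, .z, .o, .z, .z, .z, .z, .z, .z, .w, .z, .z], [.z, .z, .z, .z, .z, .o, .z, .z, .z, .z, .z, .z, .w, .z], [.z, .z, .z, .z, .z, .z, .o, .z, .z, .z, .z, .z, .z, .w], [.z, .z, .z, .z, .z, .z, .z, .o, .z, .z, .z, .z, .z, .z], [.z, .z, .z, .z, .z, .z, .z, .z, .o, .z, .z, .z, .z, .z], [.z, .z, .z, .z, .z, .z, .z, .z, .z, .o, .z, .z, .v, .z], [.z, .z, .z, .z, .z, .z, .z, .z, .z, .z, .o, .z, .z, .v], [.z, .z, .z, .z, .z, .z, .z, .z, .z, .z, .z, .o, .z, .z], [.z, .z, .z, .z, .z, .z, .z, .z, .z, .z, .z, .z, .o, .z], [.z, .z, .z, .z, .z, .z, .z, .z, .z, .z,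 .z, .z, .z, .o]]
theorem n3097 : InR N3097 := inR_mul n3087 n3095 (by decide +kernel)
/-- a product -/
def N3098 : List (List GF4) := [[.o, .z, .z, .z, .z, .z, .z, .z, .z, .z, .z, .z, .w, .z], [.z, .o, .z, .z, .z, .z, .z, .z, .w, .z, .z, .z, .w, .v], [.v, .v, .o, .w, .z, .z, .z, .w, .z, .z, .z, .z, .o, .z], [.w, .w, .z, .o, .z, .z, .z, .z, .z, .z, .z, .z, .v, .z], [.z, .z, .z, .z, .o, .z, .z, .z, .z, .w, .z, .z, .z, .z], [.z, .z, .z, .z, .z, .o, .w, .z, .z, .z, .z, .v, .z, .z], [.z, .z, .z, .z, .z, .z, .o, .z, .z, .z, .z, .w, .z, .z], [.w, .z, .z, .z, .z, .z, .z, .o, .v, .z, .z, .z, .v, .o], [.z, .z, .z, .z, .z, .z, .z, .z, .o, .z, .z, .z, .z, .w], [.z, .z, .z, .z, .z, .z, .z, .z, .z, .o, .w, .z, .z, .z], [.z, .z, .z, .z, .z, .z, .z, .z, .z, .z, .o, .z, .z, .z], [.z, .z, .z, .z, .z, .z, .z, .z, .z, .z, .z, .o, .z, .z], [.z, .z, .z,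 .z, .z, .z, .z, .z, .z, .z, .z, .z, .o, .w], [.z, .z, .z, .z, .z, .z, .z, .z, .z, .z, .z, .z, .z, .o]]
theorem n3098 : InR N3098 := inR_mul n2220 n2248 (by decide +kernel)
/-- a product -/
def N3100 : List (List GF4) := [[.o, .o, .z, .z, .z, .z, .z, .z, .z, .z, .z, .o, .z, .w], [.z, .o, .z, .z, .z, .z, .z, .z, .z, .z, .v, .o, .z, .v], [.v, .w, .o, .z, .v, .o, .w, .z, .o, .o, .o, .o, .o, .z], [.z, .z, .z, .z, .z, .z, .z, .o, .z, .v, .z, .w, .o, .o], [.o, .o, .z, .z, .z, .w, .z, .z, .z, .z, .v, .w, .w, .o], [.v, .z, .z, .z, .v, .z, .z, .z, .o, .z, .o, .v, .z, .o], [.z, .z, .z, .z, .z, .z, .z, .z, .z, .v, .z, .z, .v, .o], [.z, .z, .z, .o, .z, .z, .o, .z, .w, .z, .o, .z, .z, .o], [.z, .z, .z, .z, .z, .z, .z, .z, .z, .z, .z, .z, .o, .z], [.z, .z, .z, .z, .z, .z, .w, .z, .o, .z, .z, .z, .z, .w], [.z, .z, .z, .z, .z, .z, .z, .z, .z, .z,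 .z, .w, .z, .o], [.z, .z, .z, .z, .z, .z, .z, .z, .z, .z, .v, .z, .z, .v], [.z, .z, .z, .z, .z, .z, .z, .z, .o, .z, .z, .z, .z, .z], [.z, .z, .z, .z, .z, .z, .z, .z, .z, .z, .z, .z, .z, .o]]
theorem n3100 : InR N3100 := inR_mul n1657 n3098 (by decide +kernel)
/-- a product -/
def N3102 : List (List GF4) := [[.o, .z, .z, .z, .z, .z, .z, .z, .z, .z, .v, .z, .z, .o], [.z, .o, .z, .z, .z, .z, .z, .z, .z, .z, .v, .o, .z, .v], [.v, .w, .o, .z, .v, .o, .w, .z, .o, .o, .o, .o, .o, .z], [.z, .z, .z, .o, .z, .z, .o, .z, .w, .z, .o, .z, .z, .o], [.v, .z, .z, .z, .v, .z, .z, .z, .o, .z, .o, .v, .z, .o], [.o, .o, .z, .z, .z, .w, .z, .z, .z, .z, .v, .w, .w, .o], [.z, .z, .z, .z, .z, .z, .w, .z, .o, .z, .z, .z, .z, .w], [.z, .z, .z, .z, .z, .z, .z, .o, .z, .v, .z, .w, .o, .o], [.z, .z, .z, .z, .z, .z, .z, .z, .o, .z, .z, .z, .z, .z], [.z, .z, .z,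 .z, .z, .z, .z, .z, .z, .v, .z, .z, .v, .o], [.z, .z, .z, .z, .z, .z, .z, .z, .z, .z, .v, .z, .z, .v], [.z, .z, .z, .z, .z, .z, .z, .z, .z, .z, .z, .w, .z, .o], [.z, .z, .z, .z, .z, .z, .z, .z, .z, .z, .z, .z, .o, .z], [.z, .z, .z, .z, .z, .z, .z, .z, .z, .z, .z, .z, .z, .o]]
theorem n3102 : InR N3102 := inR_mul (inR_gen .d) n3100 (by decide +kernel)
/-- a product -/
def N3104 : List (List GF4) := [[.o, .z, .z, .z, .z, .z, .z, .z, .z, .z, .o, .z, .z, .z], [.z, .o, .z, .z, .z, .z, .z, .z, .z, .z, .o, .z, .z, .z], [.z, .z, .o, .z, .o, .z, .o, .z, .o, .z, .z, .z, .z, .z], [.z, .z, .z, .o, .z, .z, .z, .z, .z, .z, .z, .z, .z, .z], [.z, .z, .z, .z, .o, .z, .z, .z, .o, .z, .z, .z, .z, .z], [.o, .o, .z, .z, .z, .o, .z, .z, .z, .z, .o, .z, .z, .z], [.z, .z, .z, .z, .z, .z, .o, .z, .o, .z, .z, .z, .z, .z], [.z, .z, .z, .z, .z, .z, .z, .o,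 .z, .o, .z, .o, .z, .o], [.z, .z, .z, .z, .z, .z, .z, .z, .o, .z, .z, .z, .z, .z], [.z, .z, .z, .z, .z, .z, .z, .z, .z, .o, .z, .z, .z, .o], [.z, .z, .z, .z, .z, .z, .z, .z, .z, .z, .o, .z, .z, .z], [.z, .z, .z, .z, .z, .z, .z, .z, .z, .z, .z, .o, .z, .o], [.z, .z, .z, .z, .z, .z, .z, .z, .z, .z, .z, .z, .o, .z], [.z, .z, .z, .z, .z, .z, .z, .z, .z, .z, .z, .z, .z, .o]]
theorem n3104 : InR N3104 := inR_mul n110 n3102 (by decide +kernel)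
/-- a product -/
def N3106 : List (List GF4) := [[.v, .o, .v, .v, .v, .z, .o, .w, .w, .z, .z, .v, .z, .z], [.o, .z, .o, .z, .w, .z, .w, .z, .v, .o, .w, .z, .z, .w], [.w, .z, .w, .w, .o, .z, .v, .w, .z, .o, .o, .v, .z, .w], [.z, .z, .v, .v, .w, .z, .o, .z, .v, .z, .z, .z, .z, .z], [.o, .w, .v, .v, .w, .v, .w, .v, .w, .w, .v, .o, .z, .v], [.z, .z, .z, .z, .v, .z, .z, .z, .o, .v, .v, .z, .z, .o], [.o, .z, .o, .o, .w, .z, .w, .o, .w, .v, .v, .w, .z, .o], [.z, .v, .v, .z, .w, .z, .o, .v, .v, .w, .w, .o, .v, .z], [.v, .o, .o, .v, .o, .w, .z, .w, .o, .o, .w, .v, .z, .w], [.v, .w, .o, .z, .v, .o, .w, .o, .o, .v, .o, .v, .o, .v], [.o, .z, .v, .o, .z, .v, .z, .v, .w, .z, .z, .o, .z, .z], [.z, .w, .w, .z, .z, .z, .v, .w, .z, .w, .z, .v, .w, .o], [.z, .o, .o, .z, .v, .z, .w, .v, .o, .w, .v, .o, .v, .w], [.o, .o, .z, .o, .w, .v, .z, .o, .w, .w,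 .v, .o, .v, .w]]
theorem n3106 : InR N3106 := inR_mul n1615 n2218 (by decide +kernel)
/-- a product -/
def N3108 : List (List GF4) := [[.o, .o, .z, .z, .z, .z, .z, .z, .z, .z, .z, .v, .z, .w], [.z, .o, .z, .z, .z, .z, .z, .z, .z, .z, .o, .v, .z, .v], [.v, .w, .o, .z, .o, .v, .o, .z, .o, .w, .w, .v, .o, .z], [.z, .z, .z, .z, .z, .z, .z, .o, .z, .o, .z, .o, .o, .o], [.o, .o, .z, .z, .z, .o, .z, .z, .z, .z, .o, .o, .w, .o], [.v, .z, .z, .z, .o, .z, .z, .z, .o, .z, .w, .w, .z, .o], [.z, .z, .z, .z, .z, .z, .z, .z, .z, .o, .z, .z, .v, .o], [.z, .z, .z, .o, .z, .z, .v, .z, .w, .z, .w, .z, .z, .o], [.z, .z, .z, .z, .z, .z, .z, .z, .z, .z, .z, .z, .o, .z], [.z, .z, .z, .z, .z, .z, .o, .z, .o, .z, .z, .z, .z, .w], [.z, .z, .z, .z, .z, .z, .z, .z, .z, .z, .z, .o, .z, .o], [.z, .z, .z, .z, .z, .z, .z, .z, .z, .z, .o, .z, .z, .v], [.z, .z, .z,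 .z, .z, .z, .z, .z, .o, .z, .z, .z, .z, .z], [.z, .z, .z, .z, .z, .z, .z, .z, .z, .z, .z, .z, .z, .o]]
theorem n3108 : InR N3108 := inR_mul n1020 n3106 (by decide +kernel)
/-- a product -/
def N3110 : List (List GF4) := [[.o, .z, .z, .z, .z, .z, .z, .z, .z, .z, .w, .z, .z, .z], [.z, .o, .z, .z, .z, .z, .z, .z, .z, .z, .w, .z, .z, .z], [.z, .z, .o, .z, .w, .z, .v, .z, .o, .z, .z, .z, .z, .z], [.z, .z, .z, .o, .z, .z, .z, .z, .z, .z, .z, .z, .z, .z], [.z, .z, .z, .z, .o, .z, .z, .z, .v, .z, .z, .z, .z, .z], [.w, .w, .z, .z, .z, .o, .z, .z, .z, .z, .v, .z, .z, .z], [.z, .z, .z, .z, .z, .z, .o, .z, .w, .z, .z, .z, .z, .z], [.z, .z, .z, .z, .z, .z, .z, .o, .z, .w, .z, .v, .z, .o], [.z, .z, .z, .z, .z, .z, .z, .z, .o, .z, .z, .z, .z, .z], [.z, .z, .z, .z, .z, .z, .z, .z, .z, .o, .z, .z, .z, .v], [.z, .z, .z, .z, .z, .z, .z, .z, .z, .z,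 .o, .z, .z, .z], [.z, .z, .z, .z, .z, .z, .z, .z, .z, .z, .z, .o, .z, .w], [.z, .z, .z, .z, .z, .z, .z, .z, .z, .z, .z, .z, .o, .z], [.z, .z, .z, .z, .z, .z, .z, .z, .z, .z, .z, .z, .z, .o]]
theorem n3110 : InR N3110 := inR_mul n48 n3108 (by decide +kernel)
/-- a product -/
def N3112 : List (List GF4) := [[.o, .z, .z, .z, .z, .z, .z, .z, .z, .z, .v, .z, .z, .z], [.z, .o, .z, .z, .z, .z, .z, .z, .z, .z, .v, .z, .z, .z], [.z, .z, .o, .z, .v, .z, .w, .z, .o, .z, .z, .z, .z, .z], [.z, .z, .z, .o, .z, .z, .z, .z, .z, .z, .z, .z, .z, .z], [.z, .z, .z, .z, .o, .z, .z, .z, .w, .z, .z, .z, .z, .z], [.v, .v, .z, .z, .z, .o, .z, .z, .z, .z, .w, .z, .z, .z], [.z, .z, .z, .z, .z, .z, .o, .z, .v, .z, .z, .z, .z, .z], [.z, .z, .z, .z, .z, .z, .z, .o, .z, .v, .z, .w, .z, .o], [.z, .z, .z, .z, .z, .z, .z, .z, .o, .z, .z, .z, .z, .z], [.z, .z, .z,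 .z, .z, .z, .z, .z, .z, .o, .z, .z, .z, .w], [.z, .z, .z, .z, .z, .z, .z, .z, .z, .z, .o, .z, .z, .z], [.z, .z, .z, .z, .z, .z, .z, .z, .z, .z, .z, .o, .z, .v], [.z, .z, .z, .z, .z, .z, .z, .z, .z, .z, .z, .z, .o, .z], [.z, .z, .z, .z, .z, .z, .z, .z, .z, .z, .z, .z, .z, .o]]
theorem n3112 : InR N3112 := inR_mul n3104 n3110 (by decide +kernel)
/-- a product -/
def N3113 : List (List GF4) := [[.o, .z, .z, .z, .z, .z, .z, .z, .z, .o, .z, .z, .z, .z], [.z, .o, .z, .z, .z, .z, .z, .z, .z, .z, .z, .z, .z, .z], [.z, .z, .o, .z, .z, .z, .z, .z, .z, .z, .z, .z, .z, .z], [.z, .z, .z, .o, .o, .o, .z, .o, .z, .z, .z, .z, .z, .z], [.z, .z, .z, .z, .o, .z, .z, .o, .z, .z, .z, .z, .z, .z], [.z, .z, .z, .z, .z, .o, .z, .o, .z, .z, .z, .z, .z, .z], [.z, .o, .z, .z, .z, .z, .o, .z, .z, .o, .z, .z, .z, .z], [.z, .z, .z, .z, .z, .z, .z, .o, .z, .z,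 .z, .z, .z, .z], [.z, .z, .z, .z, .z, .z, .z, .z, .o, .z, .o, .o, .o, .z], [.z, .z, .z, .z, .z, .z, .z, .z, .z, .o, .z, .z, .z, .z], [.z, .z, .z, .z, .z, .z, .z, .z, .z, .z, .o, .z, .o, .z], [.z, .z, .z, .z, .z, .z, .z, .z, .z, .z, .z, .o, .o, .z], [.z, .z, .z, .z, .z, .z, .z, .z, .z, .z, .z, .z, .o, .z], [.z, .z, .z, .z, .z, .z, .z, .z, .z, .z, .z, .z, .z, .o]]
theorem n3113 : InR N3113 := inR_mul (inR_gen .d) n2248 (by decide +kernel)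
/-- a product -/
def N3115 : List (List GF4) := [[.o, .z, .z, .z, .z, .z, .z, .z, .z, .v, .w, .z, .v, .w], [.z, .o, .z, .z, .z, .z, .z, .z, .z, .z, .w, .w, .w, .v], [.v, .v, .o, .z, .w, .w, .v, .w, .o, .z, .o, .o, .o, .z], [.z, .o, .z, .o, .v, .w, .w, .o, .o, .v, .z, .w, .z, .o], [.o, .z, .z, .z, .v, .z, .z, .o, .w, .v, .w, .o, .w, .o], [.v, .v, .z, .z, .z, .w, .z, .o, .z, .w, .o, .v, .o, .o], [.z, .o, .z, .z, .z, .z, .w, .z, .v, .v, .w, .o, .v, .o], [.z, .z, .z, .z, .z, .z, .z, .o, .z, .w, .z, .v, .z, .o], [.z, .z, .z, .z, .z, .z, .z, .z, .o, .z, .v, .w, .o, .z], [.z, .z, .z, .z, .z, .z, .z, .z, .z, .v, .z, .z, .o, .w], [.z, .z, .z, .z, .z, .z, .z, .z, .z, .z, .v, .z, .o, .o], [.z, .z, .z, .z, .z, .z, .z, .z, .z, .z, .z, .w, .o, .v], [.z, .z, .z, .z, .z, .z, .z, .z, .z, .z, .z, .z, .o, .z], [.z, .z, .z, .z, .z, .z, .z, .z, .z, .z,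 .z, .z, .z, .o]]
theorem n3115 : InR N3115 := inR_mul n1679 n2250 (by decide +kernel)
/-- a product -/
def N3117 : List (List GF4) := [[.o, .z, .z, .z, .z, .z, .z, .z, .z, .w, .z, .z, .z, .z], [.z, .o, .z, .z, .z, .z, .z, .z, .z, .z, .z, .z, .z, .z], [.z, .z, .o, .z, .z, .z, .z, .z, .z, .z, .z, .z, .z, .z], [.z, .z, .z, .o, .w, .v, .z, .o, .z, .z, .z, .z, .z, .z], [.z, .z, .z, .z, .o, .z, .z, .v, .z, .z, .z, .z, .z, .z], [.z, .z, .z, .z, .z, .o, .z, .w, .z, .z, .z, .z, .z, .z], [.z, .w, .z, .z, .z, .z, .o, .z, .z, .v, .z, .z, .z, .z], [.z, .z, .z, .z, .z, .z, .z, .o, .z, .z, .z, .z, .z, .z], [.z, .z, .z, .z, .z, .z, .z, .z, .o, .z, .w, .v, .o, .z], [.z, .z, .z, .z, .z, .z, .z, .z, .z, .o, .z, .z, .z, .z], [.z, .z, .z, .z, .z, .z, .z, .z, .z, .z, .o, .z, .v, .z], [.z, .z, .z, .z, .z, .z, .z, .z, .z, .z, .z, .o, .w, .z], [.z, .z, .z,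 .z, .z, .z, .z, .z, .z, .z, .z, .z, .o, .z], [.z, .z, .z, .z, .z, .z, .z, .z, .z, .z, .z, .z, .z, .o]]
theorem n3117 : InR N3117 := inR_mul n1322 n3115 (by decide +kernel)
/-- a product -/
def N3119 : List (List GF4) := [[.o, .z, .z, .z, .z, .z, .z, .z, .z, .v, .z, .z, .z, .z], [.z, .o, .z, .z, .z, .z, .z, .z, .z, .z, .z, .z, .z, .z], [.z, .z, .o, .z, .z, .z, .z, .z, .z, .z, .z, .z, .z, .z], [.z, .z, .z, .o, .v, .w, .z, .o, .z, .z, .z, .z, .z, .z], [.z, .z, .z, .z, .o, .z, .z, .w, .z, .z, .z, .z, .z, .z], [.z, .z, .z, .z, .z, .o, .z, .v, .z, .z, .z, .z, .z, .z], [.z, .v, .z, .z, .z, .z, .o, .z, .z, .w, .z, .z, .z, .z], [.z, .z, .z, .z, .z, .z, .z, .o, .z, .z, .z, .z, .z, .z], [.z, .z, .z, .z, .z, .z, .z, .z, .o, .z, .v, .w, .o, .z], [.z, .z, .z, .z, .z, .z, .z, .z, .z, .o, .z, .z, .z, .z], [.z, .z, .z, .z, .z, .z, .z, .z, .z, .z,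 .o, .z, .w, .z], [.z, .z, .z, .z, .z, .z, .z, .z, .z, .z, .z, .o, .v, .z], [.z, .z, .z, .z, .z, .z, .z, .z, .z, .z, .z, .z, .o, .z], [.z, .z, .z, .z, .z, .z, .z, .z, .z, .z, .z, .z, .z, .o]]
theorem n3119 : InR N3119 := inR_mul n3113 n3117 (by decide +kernel)
/-- a product -/
def N3120 : List (List GF4) := [[.o, .o, .v, .v, .w, .o, .w, .v, .z, .o, .o, .z, .w, .v], [.o, .z, .o, .w, .z, .w, .w, .z, .z, .w, .v, .z, .v, .v], [.w, .z, .w, .o, .w, .v, .z, .w, .o, .v, .w, .v, .o, .z], [.z, .z, .v, .o, .z, .w, .v, .z, .z, .o, .w, .z, .v, .o], [.z, .z, .v, .w, .z, .o, .z, .z, .z, .o, .v, .z, .w, .z], [.o, .v, .z, .z, .z, .v, .w, .v, .v, .v, .o, .w, .v, .z], [.v, .z, .o, .v, .o, .v, .w, .z, .z, .w, .o, .w, .o, .v], [.o, .z, .v, .w, .v, .o, .z, .z, .v, .w, .o, .w, .v, .z], [.z, .z, .o, .z, .z, .v, .z, .z, .z, .w, .z, .z, .o, .z], [.v, .z, .o,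 .v, .z, .w, .z, .o, .w, .w, .o, .o, .v, .z], [.z, .z, .v, .w, .z, .v, .o, .z, .z, .o, .v, .z, .o, .w], [.o, .v, .w, .o, .w, .w, .o, .o, .z, .w, .w, .o, .z, .w], [.w, .w, .o, .o, .v, .z, .w, .w, .o, .o, .z, .v, .v, .w], [.o, .z, .z, .o, .w, .v, .v, .o, .z, .z, .w, .v, .o, .o]]
theorem n3120 : InR N3120 := inR_mul n1615 n2222 (by decide +kernel)
/-- a product -/
def N3122 : List (List GF4) := [[.z, .v, .o, .z, .v, .w, .w, .v, .o, .o, .o, .w, .v, .o], [.z, .z, .o, .w, .w, .v, .o, .z, .z, .z, .w, .v, .z, .o], [.z, .o, .o, .w, .z, .z, .z, .z, .w, .z, .z, .z, .z, .o], [.w, .z, .z, .o, .w, .v, .o, .o, .w, .z, .w, .v, .o, .w], [.o, .o, .o, .z, .o, .o, .w, .v, .w, .z, .o, .o, .v, .z], [.v, .o, .o, .o, .o, .o, .w, .w, .z, .z, .o, .o, .w, .w], [.w, .z, .o, .v, .w, .v, .w, .o, .w, .w, .o, .v, .o, .v], [.w, .o, .o, .v, .v, .w, .v, .o, .z, .z,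 .v, .w, .o, .v], [.v, .z, .o, .o, .v, .w, .z, .w, .v, .w, .w, .o, .v, .z], [.v, .o, .z, .v, .w, .v, .v, .w, .z, .v, .v, .v, .w, .v], [.o, .w, .o, .w, .w, .v, .z, .z, .o, .o, .o, .w, .v, .o], [.z, .w, .o, .z, .z, .z, .w, .v, .z, .v, .z, .o, .o, .w], [.o, .v, .o, .w, .w, .v, .w, .z, .z, .w, .w, .o, .o, .w], [.v, .v, .z, .o, .v, .w, .z, .o, .v, .w, .w, .o, .o, .w]]
theorem n3122 : InR N3122 := inR_mul n1308 n3120 (by decide +kernel)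
/-- a product -/
def N3124 : List (List GF4) := [[.o, .z, .z, .z, .z, .z, .z, .z, .z, .z, .z, .z, .z, .z], [.z, .o, .z, .z, .z, .z, .z, .z, .o, .z, .z, .z, .z, .z], [.z, .z, .o, .o, .z, .z, .z, .z, .z, .z, .z, .z, .z, .z], [.z, .z, .z, .o, .z, .z, .z, .z, .z, .z, .z, .z, .z, .z], [.z, .z, .z, .z, .o, .z, .z, .z, .z, .z, .z, .z, .z, .z], [.z, .z, .z, .z, .z, .o, .o, .z, .z, .z, .z, .z, .z, .z], [.z, .z, .z, .z, .z, .z, .o, .z, .z, .z, .z, .z, .z, .z], [.o, .z, .z, .z, .z, .z, .z, .o, .o, .z, .z, .z, .z, .z], [.z, .z, .z, .z, .z, .z, .z, .z, .o, .z, .z, .z, .z, .z], [.z, .z, .z, .z, .z, .z, .z, .z, .z, .o, .o, .z, .z, .z], [.z, .z, .z, .z, .z, .z, .z, .z, .z, .z, .o, .z, .z, .z], [.z, .z, .z, .z, .z, .z, .z, .z, .z, .z, .z, .o, .z, .z], [.z, .z, .z, .z, .z, .z, .z, .z, .z, .z, .z, .z, .o, .o], [.z, .z, .z, .z, .z, .z, .z, .z, .z, .z,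 .z, .z, .z, .o]]
theorem n3124 : InR N3124 := inR_mul n598 n3122 (by decide +kernel)
/-- a product -/
def N3126 : List (List GF4) := [[.o, .o, .z, .z, .z, .z, .z, .z, .w, .o, .w, .w, .w, .v], [.z, .o, .z, .z, .z, .z, .z, .z, .w, .z, .w, .w, .z, .v], [.v, .v, .o, .w, .w, .w, .z, .z, .z, .v, .z, .z, .o, .z], [.w, .z, .z, .z, .z, .z, .z, .o, .v, .w, .v, .v, .z, .o], [.z, .w, .z, .z, .z, .o, .w, .o, .z, .w, .z, .v, .v, .z], [.z, .z, .z, .z, .o, .z, .z, .o, .z, .w, .z, .z, .z, .z], [.z, .z, .z, .z, .z, .z, .z, .z, .z, .o, .w, .z, .w, .z], [.w, .w, .z, .o, .o, .o, .z, .o, .z, .w, .z, .z, .v, .z], [.z, .z, .z, .z, .z, .z, .z, .z, .z, .z, .z, .z, .o, .w], [.z, .o, .z, .z, .z, .z, .o, .z, .z, .o, .z, .w, .w, .z], [.z, .z, .z, .z, .z, .z, .z, .z, .z, .z, .z, .o, .o, .z], [.z, .z, .z, .z, .z, .z, .z, .z, .z, .z, .o, .z, .o, .z], [.z, .z, .z,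 .z, .z, .z, .z, .z, .o, .z, .o, .o, .o, .w], [.z, .z, .z, .z, .z, .z, .z, .z, .z, .z, .z, .z, .z, .o]]
theorem n3126 : InR N3126 := inR_mul n2222 n2254 (by decide +kernel)
/-- a product -/
def N3128 : List (List GF4) := [[.z, .v, .v, .w, .z, .w, .v, .w, .o, .v, .w, .v, .v, .w], [.v, .v, .o, .w, .v, .v, .w, .z, .v, .v, .z, .v, .w, .v], [.v, .o, .w, .o, .v, .o, .w, .w, .w, .z, .w, .v, .o, .o], [.v, .w, .v, .w, .o, .w, .v, .z, .w, .o, .z, .v, .v, .w], [.z, .v, .v, .w, .o, .o, .o, .v, .z, .z, .o, .z, .v, .v], [.w, .z, .z, .z, .v, .z, .z, .z, .w, .v, .z, .o, .w, .w], [.o, .v, .o, .v, .v, .v, .o, .o, .w, .z, .w, .z, .v, .o], [.w, .o, .v, .o, .o, .w, .o, .v, .v, .z, .w, .v, .o, .o], [.w, .z, .o, .o, .z, .o, .o, .w, .w, .o, .o, .z, .o, .o], [.o, .z, .o, .w, .w, .w, .z, .o, .w, .z, .z, .w, .z, .z], [.o, .o, .v, .z, .v, .o, .w, .v, .w, .w,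 .o, .w, .w, .o], [.w, .v, .w, .v, .w, .o, .v, .w, .o, .v, .w, .z, .o, .v], [.z, .w, .o, .w, .w, .v, .w, .v, .z, .v, .w, .z, .v, .w], [.o, .w, .z, .o, .w, .v, .w, .o, .v, .v, .w, .z, .v, .w]]
theorem n3128 : InR N3128 := inR_mul n1597 n3126 (by decide +kernel)
/-- a product -/
def N3130 : List (List GF4) := [[.o, .z, .z, .z, .z, .z, .z, .z, .z, .z, .z, .z, .z, .w], [.z, .o, .z, .z, .z, .z, .z, .z, .w, .z, .z, .z, .z, .z], [.z, .w, .o, .w, .z, .z, .z, .z, .v, .z, .z, .z, .z, .v], [.z, .z, .z, .o, .z, .z, .z, .z, .w, .z, .z, .z, .z, .z], [.z, .z, .z, .z, .o, .z, .z, .z, .z, .z, .w, .z, .z, .z], [.z, .z, .z, .z, .z, .o, .w, .z, .z, .z, .z, .w, .z, .z], [.z, .z, .z, .z, .z, .z, .o, .z, .z, .z, .z, .z, .z, .z], [.w, .z, .z, .z, .z, .z, .z, .o, .v, .z, .z, .z, .w, .v], [.z, .z, .z, .z, .z, .z, .z, .z, .o, .z, .z, .z, .z, .z], [.z, .z, .z,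 .z, .z, .z, .z, .z, .z, .o, .w, .z, .z, .z], [.z, .z, .z, .z, .z, .z, .z, .z, .z, .z, .o, .z, .z, .z], [.z, .z, .z, .z, .z, .z, .z, .z, .z, .z, .z, .o, .z, .z], [.z, .z, .z, .z, .z, .z, .z, .z, .z, .z, .z, .z, .o, .w], [.z, .z, .z, .z, .z, .z, .z, .z, .z, .z, .z, .z, .z, .o]]
theorem n3130 : InR N3130 := inR_mul n970 n3128 (by decide +kernel)
/-- a product -/
def N3132 : List (List GF4) := [[.o, .z, .z, .z, .z, .z, .z, .z, .z, .z, .z, .z, .z, .z], [.z, .o, .z, .z, .z, .z, .z, .z, .w, .z, .z, .z, .z, .z], [.z, .z, .o, .w, .z, .z, .z, .z, .z, .z, .z, .z, .z, .z], [.z, .z, .z, .o, .z, .z, .z, .z, .z, .z, .z, .z, .z, .z], [.z, .z, .z, .z, .o, .z, .z, .z, .z, .z, .z, .z, .z, .z], [.z, .z, .z, .z, .z, .o, .w, .z, .z, .z, .z, .z, .z, .z], [.z, .z, .z, .z, .z, .z, .o, .z, .z, .z, .z, .z, .z, .z], [.w, .z, .z, .z, .z, .z, .z, .o, .v, .z,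 .z, .z, .z, .z], [.z, .z, .z, .z, .z, .z, .z, .z, .o, .z, .z, .z, .z, .z], [.z, .z, .z, .z, .z, .z, .z, .z, .z, .o, .w, .z, .z, .z], [.z, .z, .z, .z, .z, .z, .z, .z, .z, .z, .o, .z, .z, .z], [.z, .z, .z, .z, .z, .z, .z, .z, .z, .z, .z, .o, .z, .z], [.z, .z, .z, .z, .z, .z, .z, .z, .z, .z, .z, .z, .o, .w], [.z, .z, .z, .z, .z, .z, .z, .z, .z, .z, .z, .z, .z, .o]]
theorem n3132 : InR N3132 := inR_mul (inR_gen .a) n3130 (by decide +kernel)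
/-- a product -/
def N3134 : List (List GF4) := [[.o, .z, .z, .z, .z, .z, .z, .z, .z, .z, .z, .z, .z, .z], [.z, .o, .z, .z, .z, .z, .z, .z, .v, .z, .z, .z, .z, .z], [.z, .z, .o, .v, .z, .z, .z, .z, .z, .z, .z, .z, .z, .z], [.z, .z, .z, .o, .z, .z, .z, .z, .z, .z, .z, .z, .z, .z], [.z, .z, .z, .z, .o, .z, .z, .z, .z, .z, .z, .z, .z, .z], [.z, .z, .z, .z, .z, .o, .v, .z, .z, .z, .z, .z, .z, .z], [.z, .z, .z, .z, .z, .z, .o, .z, .z, .z, .z, .z, .z, .z], [.v, .z, .z, .z, .z, .z, .z, .o, .w, .z, .z, .z, .z, .z], [.z, .z, .z, .z, .z, .z, .z, .z, .o, .z, .z, .z, .z, .z], [.z, .z, .z, .z, .z, .z, .z, .z, .z, .o, .v, .z, .z, .z], [.z, .z, .z, .z, .z, .z, .z, .z, .z, .z, .o, .z, .z, .z], [.z, .z, .z, .z, .z, .z, .z, .z, .z, .z, .z, .o, .z, .z], [.z, .z, .z, .z, .z, .z, .z, .z, .z, .z, .z, .z, .o, .v], [.z, .z, .z, .z, .z, .z, .z, .z, .z, .z,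 .z, .z, .z, .o]]
theorem n3134 : InR N3134 := inR_mul n3124 n3132 (by decide +kernel)
/-- a product -/
def N3135 : List (List GF4) := [[.o, .o, .z, .z, .z, .z, .o, .z, .z, .z, .z, .z, .z, .v], [.z, .o, .z, .z, .z, .z, .z, .z, .z, .z, .z, .z, .z, .z], [.z, .v, .o, .z, .z, .z, .z, .z, .z, .z, .z, .z, .z, .w], [.z, .z, .z, .o, .o, .o, .z, .o, .v, .z, .v, .v, .v, .z], [.z, .z, .z, .o, .z, .o, .z, .z, .v, .z, .z, .v, .z, .z], [.z, .z, .z, .o, .o, .z, .z, .z, .v, .z, .v, .z, .z, .z], [.z, .o, .z, .z, .z, .z, .o, .z, .z, .o, .z, .z, .z, .z], [.z, .z, .z, .o, .z, .z, .z, .z, .v, .z, .z, .z, .z, .z], [.z, .z, .z, .z, .z, .z, .z, .z, .o, .z, .o, .o, .o, .z], [.z, .z, .z, .z, .z, .z, .o, .z, .z, .z, .z, .z, .z, .z], [.z, .z, .z, .z, .z, .z, .z, .z, .o, .z, .z, .o, .z, .z], [.z, .z, .z, .z, .z, .z, .z, .z, .o, .z, .o, .z, .z, .z], [.z, .z, .z,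 .z, .z, .z, .z, .z, .o, .z, .z, .z, .z, .z], [.z, .z, .z, .z, .z, .z, .z, .z, .z, .z, .z, .z, .z, .o]]
theorem n3135 : InR N3135 := inR_mul (inR_gen .f) n2254 (by decide +kernel)
/-- a product -/
def N3137 : List (List GF4) := [[.w, .v, .z, .z, .z, .w, .z, .v, .z, .v, .v, .w, .z, .w], [.o, .o, .o, .z, .o, .z, .v, .w, .v, .o, .z, .o, .z, .v], [.v, .v, .o, .z, .w, .w, .v, .w, .o, .z, .o, .o, .o, .z], [.v, .z, .o, .o, .z, .o, .o, .v, .v, .o, .o, .z, .o, .o], [.o, .w, .v, .z, .v, .o, .w, .z, .w, .o, .w, .o, .w, .o], [.z, .z, .w, .z, .v, .z, .o, .w, .w, .w, .z, .o, .z, .o], [.o, .o, .z, .w, .v, .w, .z, .v, .w, .w, .z, .w, .v, .o], [.z, .z, .z, .z, .z, .z, .z, .o, .z, .w, .z, .v, .z, .o], [.z, .v, .o, .z, .o, .z, .o, .w, .o, .w, .v, .w, .o, .z], [.w, .w, .v, .z, .o, .o, .w, .w, .v, .v, .v, .o, .z, .w], [.v, .o, .v, .v, .z, .w, .v, .v,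 .w, .w, .w, .w, .z, .o], [.z, .z, .w, .z, .w, .z, .o, .v, .o, .o, .z, .w, .z, .v], [.z, .z, .o, .z, .w, .z, .v, .z, .o, .z, .z, .z, .z, .z], [.o, .o, .z, .o, .w, .v, .z, .o, .o, .w, .w, .v, .z, .o]]
theorem n3137 : InR N3137 := inR_mul n2168 n3135 (by decide +kernel)
/-- a product -/
def N3139 : List (List GF4) := [[.o, .o, .z, .z, .z, .z, .z, .o, .z, .z, .z, .z, .v, .v], [.z, .o, .z, .z, .z, .z, .z, .o, .z, .z, .z, .z, .z, .z], [.z, .z, .z, .z, .z, .z, .z, .z, .z, .z, .z, .z, .w, .w], [.v, .z, .z, .z, .z, .z, .z, .v, .v, .z, .z, .z, .z, .z], [.z, .z, .z, .z, .z, .z, .z, .z, .z, .v, .v, .z, .z, .z], [.z, .z, .z, .z, .z, .z, .z, .z, .z, .z, .z, .v, .z, .z], [.z, .z, .z, .z, .z, .o, .o, .z, .z, .z, .z, .z, .z, .z], [.z, .z, .z, .z, .z, .z, .z, .z, .z, .z, .z, .z, .v, .z], [.o, .z, .w, .w, .z, .z, .z, .o, .o, .z, .z, .z, .z, .z], [.z,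 .z, .z, .z, .z, .z, .z, .z, .z, .o, .z, .z, .z, .z], [.z, .z, .z, .z, .w, .z, .z, .z, .z, .o, .o, .z, .z, .z], [.z, .z, .z, .z, .z, .w, .z, .z, .z, .z, .z, .o, .z, .z], [.z, .z, .z, .z, .z, .z, .z, .w, .z, .z, .z, .z, .o, .z], [.z, .w, .v, .z, .z, .z, .z, .w, .z, .z, .z, .z, .o, .o]]
theorem n3139 : InR N3139 := inR_mul n1312 n3137 (by decide +kernel)
/-- a product -/
def N3141 : List (List GF4) := [[.o, .z, .z, .z, .z, .z, .z, .z, .z, .z, .z, .z, .z, .z], [.z, .o, .z, .z, .z, .z, .z, .o, .z, .z, .z, .z, .z, .z], [.z, .z, .o, .z, .z, .z, .z, .z, .z, .z, .z, .z, .z, .z], [.z, .z, .o, .o, .z, .z, .z, .z, .z, .z, .z, .z, .z, .z], [.z, .z, .z, .z, .o, .z, .z, .z, .z, .z, .z, .z, .z, .z], [.z, .z, .z, .z, .z, .o, .z, .z, .z, .z, .z, .z, .z, .z], [.z, .z, .z, .z, .z, .o, .o, .z, .z, .z, .z, .z, .z, .z], [.z, .z, .z, .z, .z, .z, .z, .o,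 .z, .z, .z, .z, .z, .z], [.o, .z, .z, .z, .z, .z, .z, .o, .o, .z, .z, .z, .z, .z], [.z, .z, .z, .z, .z, .z, .z, .z, .z, .o, .z, .z, .z, .z], [.z, .z, .z, .z, .z, .z, .z, .z, .z, .o, .o, .z, .z, .z], [.z, .z, .z, .z, .z, .z, .z, .z, .z, .z, .z, .o, .z, .z], [.z, .z, .z, .z, .z, .z, .z, .z, .z, .z, .z, .z, .o, .z], [.z, .z, .z, .z, .z, .z, .z, .z, .z, .z, .z, .z, .o, .o]]
theorem n3141 : InR N3141 := inR_mul n630 n3139 (by decide +kernel)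
/-- a product -/
def N3143 : List (List GF4) := [[.o, .o, .z, .z, .z, .z, .z, .z, .z, .o, .z, .w, .w, .v], [.z, .o, .z, .z, .z, .z, .z, .z, .z, .z, .w, .w, .w, .v], [.v, .z, .o, .z, .w, .w, .v, .w, .o, .z, .z, .z, .z, .z], [.z, .z, .z, .z, .z, .z, .z, .o, .z, .w, .z, .v, .v, .o], [.w, .w, .z, .z, .z, .o, .z, .o, .z, .w, .v, .z, .z, .z], [.w, .z, .z, .z, .o, .z, .z, .o, .v, .z, .z, .z, .z, .z], [.z, .z, .z, .z, .z, .z, .z, .z, .z, .o, .z, .z, .w, .v], [.w, .z, .z, .o, .o, .o, .w, .o, .v, .z, .z, .z, .z, .z], [.z, .z, .z, .z, .z, .z, .z, .z, .z, .z, .z, .z, .o, .z], [.z, .o, .z, .z, .z, .z, .o, .z, .w, .o, .w, .z, .z, .z], [.z, .z, .z, .z, .z, .z, .z, .z, .z, .z, .z, .o, .o, .w], [.z, .z, .z, .z, .z, .z, .z, .z, .z, .z, .o, .z, .o, .w], [.z, .z, .z, .z, .z, .z, .z, .z, .o, .z, .o, .o, .o, .w], [.z, .z, .z, .z, .z, .z, .z, .z, .z, .z,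 .z, .z, .z, .o]]
theorem n3143 : InR N3143 := inR_mul n2252 n2254 (by decide +kernel)
/-- a product -/
def N3145 : List (List GF4) := [[.o, .o, .z, .v, .v, .w, .o, .w, .w, .z, .o, .o, .v, .w], [.w, .w, .z, .o, .w, .v, .v, .o, .z, .o, .v, .w, .z, .w], [.v, .o, .w, .o, .z, .w, .o, .o, .o, .w, .o, .o, .o, .z], [.w, .z, .v, .o, .v, .z, .v, .o, .z, .o, .w, .o, .z, .o], [.o, .w, .w, .z, .v, .v, .v, .w, .o, .z, .v, .w, .w, .v], [.v, .w, .o, .o, .w, .w, .v, .z, .z, .z, .v, .w, .z, .w], [.z, .o, .z, .o, .o, .v, .o, .v, .o, .o, .o, .v, .v, .z], [.v, .z, .v, .o, .w, .w, .w, .o, .z, .w, .v, .o, .o, .o], [.o, .w, .z, .w, .v, .o, .w, .w, .o, .v, .z, .w, .o, .o], [.o, .z, .z, .o, .v, .v, .w, .w, .z, .z, .v, .w, .w, .o], [.v, .z, .z, .o, .w, .v, .w, .o, .w, .z, .w, .z, .o, .v], [.w, .v, .z, .v, .o, .w, .v, .v, .z, .o, .w, .w, .v, .w], [.o, .z, .z,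 .w, .v, .o, .v, .w, .z, .z, .o, .w, .v, .w], [.z, .z, .z, .z, .z, .z, .z, .z, .v, .z, .o, .w, .v, .w]]
theorem n3145 : InR N3145 := inR_mul n1649 n3143 (by decide +kernel)
/-- a product -/
def N3147 : List (List GF4) := [[.o, .z, .w, .z, .z, .v, .w, .o, .z, .z, .z, .o, .v, .z], [.w, .v, .o, .v, .w, .o, .z, .w, .z, .o, .z, .z, .w, .z], [.z, .z, .w, .z, .z, .z, .z, .o, .z, .z, .z, .z, .z, .z], [.w, .w, .v, .v, .z, .z, .z, .w, .z, .z, .z, .z, .o, .z], [.v, .v, .w, .o, .v, .z, .z, .o, .z, .w, .z, .z, .w, .z], [.o, .o, .v, .w, .z, .v, .z, .w, .z, .z, .z, .z, .v, .z], [.o, .o, .v, .w, .z, .o, .o, .w, .z, .z, .z, .v, .v, .z], [.w, .w, .o, .v, .w, .o, .z, .z, .z, .o, .z, .z, .o, .z], [.w, .z, .w, .z, .w, .w, .w, .v, .w, .o, .z, .o, .o, .o], [.z, .w, .z, .z, .z, .o, .v, .v, .z, .o, .z, .w, .o, .z], [.w, .o, .w, .o, .v, .o, .v, .z, .v, .z,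 .w, .w, .z, .w], [.v, .o, .v, .w, .z, .v, .z, .o, .o, .z, .z, .w, .w, .v], [.o, .w, .o, .v, .w, .o, .z, .o, .w, .v, .o, .v, .o, .o], [.o, .v, .v, .v, .w, .o, .z, .w, .w, .v, .o, .v, .v, .w]]
theorem n3147 : InR N3147 := inR_mul n1382 n3145 (by decide +kernel)
/-- a product -/
def N3149 : List (List GF4) := [[.o, .z, .z, .z, .z, .z, .z, .z, .z, .z, .z, .z, .z, .z], [.z, .o, .z, .z, .z, .z, .z, .w, .z, .z, .z, .z, .z, .z], [.z, .z, .o, .z, .z, .z, .z, .z, .z, .z, .z, .z, .z, .z], [.z, .z, .w, .o, .z, .z, .z, .z, .z, .z, .z, .z, .z, .z], [.z, .z, .z, .z, .o, .z, .z, .z, .z, .z, .z, .z, .z, .z], [.z, .z, .z, .z, .z, .o, .z, .z, .z, .z, .z, .z, .z, .z], [.z, .z, .z, .z, .z, .w, .o, .z, .z, .z, .z, .z, .z, .z], [.z, .z, .z, .z, .z, .z, .z, .o, .z, .z, .z, .z, .z, .z], [.w, .z, .z, .z, .z, .z, .z, .v, .o, .z, .z, .z, .z, .z], [.z, .z, .z,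 .z, .z, .z, .z, .z, .z, .o, .z, .z, .z, .z], [.z, .z, .z, .z, .z, .z, .z, .z, .z, .w, .o, .z, .z, .z], [.z, .z, .z, .z, .z, .z, .z, .z, .z, .z, .z, .o, .z, .z], [.z, .z, .z, .z, .z, .z, .z, .z, .z, .z, .z, .z, .o, .z], [.z, .z, .z, .z, .z, .z, .z, .z, .z, .z, .z, .z, .w, .o]]
theorem n3149 : InR N3149 := inR_mul n616 n3147 (by decide +kernel)
/-- a product -/
def N3151 : List (List GF4) := [[.o, .z, .z, .z, .z, .z, .z, .z, .z, .z, .z, .z, .z, .z], [.z, .o, .z, .z, .z, .z, .z, .v, .z, .z, .z, .z, .z, .z], [.z, .z, .o, .z, .z, .z, .z, .z, .z, .z, .z, .z, .z, .z], [.z, .z, .v, .o, .z, .z, .z, .z, .z, .z, .z, .z, .z, .z], [.z, .z, .z, .z, .o, .z, .z, .z, .z, .z, .z, .z, .z, .z], [.z, .z, .z, .z, .z, .o, .z, .z, .z, .z, .z, .z, .z, .z], [.z, .z, .z, .z, .z, .v, .o, .z, .z, .z, .z, .z, .z, .z], [.z, .z, .z, .z, .z, .z, .z, .o, .z, .z,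 .z, .z, .z, .z], [.v, .z, .z, .z, .z, .z, .z, .w, .o, .z, .z, .z, .z, .z], [.z, .z, .z, .z, .z, .z, .z, .z, .z, .o, .z, .z, .z, .z], [.z, .z, .z, .z, .z, .z, .z, .z, .z, .v, .o, .z, .z, .z], [.z, .z, .z, .z, .z, .z, .z, .z, .z, .z, .z, .o, .z, .z], [.z, .z, .z, .z, .z, .z, .z, .z, .z, .z, .z, .z, .o, .z], [.z, .z, .z, .z, .z, .z, .z, .z, .z, .z, .z, .z, .v, .o]]
theorem n3151 : InR N3151 := inR_mul n3141 n3149 (by decide +kernel)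
/-- a product -/
def N3152 : List (List GF4) := [[.o, .z, .z, .z, .z, .z, .o, .z, .z, .z, .z, .z, .z, .z], [.z, .o, .z, .z, .z, .z, .z, .z, .z, .z, .z, .z, .z, .z], [.z, .z, .o, .z, .z, .z, .z, .z, .z, .z, .z, .z, .z, .z], [.z, .z, .z, .o, .z, .z, .z, .z, .z, .z, .z, .z, .z, .z], [.z, .z, .z, .o, .o, .z, .z, .z, .z, .z, .z, .z, .z, .z], [.z, .z, .z, .o, .z, .o, .z, .z, .z, .z, .z, .z, .z, .z], [.z, .z, .z, .z, .z, .z, .o, .z, .z, .z, .z, .z, .z, .z], [.z, .z, .z, .o, .o, .o, .z, .o, .z, .z, .z, .z, .z, .z], [.z, .z, .z, .z, .z, .z, .z, .z, .o, .z, .z, .z, .z, .z], [.z, .o, .z, .z, .z, .z, .o, .z, .z, .o, .z, .z, .z, .z], [.z, .z, .z, .z, .z, .z, .z, .z, .o, .z, .o, .z, .z, .z], [.z, .z, .z, .z, .z, .z, .z, .z, .o, .z, .z, .o, .z, .z], [.z, .z, .z, .z, .z, .z, .z, .z, .o, .z, .o, .o, .o, .z], [.z, .z, .z, .z, .z, .z, .z, .z, .z, .z,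 .z, .z, .z, .o]]
theorem n3152 : InR N3152 := inR_mul (inR_gen .d) n2254 (by decide +kernel)
/-- a product -/
def N3154 : List (List GF4) := [[.o, .z, .z, .z, .z, .z, .w, .z, .z, .z, .z, .z, .z, .z], [.z, .o, .z, .z, .z, .z, .z, .z, .z, .z, .z, .z, .z, .z], [.z, .z, .o, .z, .z, .z, .z, .z, .z, .z, .z, .z, .z, .z], [.z, .z, .z, .o, .z, .z, .z, .z, .z, .z, .z, .z, .z, .z], [.z, .z, .z, .o, .v, .z, .z, .z, .z, .z, .z, .z, .z, .z], [.z, .z, .z, .o, .z, .w, .z, .z, .z, .z, .z, .z, .z, .z], [.z, .z, .z, .z, .z, .z, .w, .z, .z, .z, .z, .z, .z, .z], [.z, .z, .z, .o, .v, .w, .z, .o, .z, .z, .z, .z, .z, .z], [.z, .z, .z, .z, .z, .z, .z, .z, .o, .z, .z, .z, .z, .z], [.z, .o, .z, .z, .z, .z, .w, .z, .z, .v, .z, .z, .z, .z], [.z, .z, .z, .z, .z, .z, .z, .z, .o, .z, .v, .z, .z, .z], [.z, .z, .z, .z, .z, .z, .z, .z, .o, .z, .z, .w, .z, .z], [.z,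 .z, .z, .z, .z, .z, .z, .z, .o, .z, .v, .w, .o, .z], [.z, .z, .z, .z, .z, .z, .z, .z, .z, .z, .z, .z, .z, .o]]
theorem n3154 : InR N3154 := inR_mul n1671 n2218 (by decide +kernel)
/-- a product -/
def N3156 : List (List GF4) := [[.o, .z, .z, .z, .z, .z, .w, .z, .z, .z, .z, .z, .z, .z], [.z, .o, .z, .z, .z, .z, .z, .z, .z, .z, .z, .z, .z, .z], [.z, .z, .o, .z, .z, .z, .z, .z, .z, .z, .z, .z, .z, .z], [.z, .z, .z, .o, .z, .z, .z, .z, .z, .z, .z, .z, .z, .z], [.z, .z, .z, .w, .o, .z, .z, .z, .z, .z, .z, .z, .z, .z], [.z, .z, .z, .v, .z, .o, .z, .z, .z, .z, .z, .z, .z, .z], [.z, .z, .z, .z, .z, .z, .o, .z, .z, .z, .z, .z, .z, .z], [.z, .z, .z, .o, .v, .w, .z, .o, .z, .z, .z, .z, .z, .z], [.z, .z, .z, .z, .z, .z, .z, .z, .o, .z, .z, .z, .z, .z], [.z, .w, .z, .z, .z, .z, .v, .z, .z, .o, .z, .z, .z, .z], [.z, .z, .z, .z, .z, .z, .z, .z,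 .w, .z, .o, .z, .z, .z], [.z, .z, .z, .z, .z, .z, .z, .z, .v, .z, .z, .o, .z, .z], [.z, .z, .z, .z, .z, .z, .z, .z, .o, .z, .v, .w, .o, .z], [.z, .z, .z, .z, .z, .z, .z, .z, .z, .z, .z, .z, .z, .o]]
theorem n3156 : InR N3156 := inR_mul n628 n3154 (by decide +kernel)
/-- a product -/
def N3158 : List (List GF4) := [[.o, .z, .z, .z, .z, .z, .v, .z, .z, .z, .z, .z, .z, .z], [.z, .o, .z, .z, .z, .z, .z, .z, .z, .z, .z, .z, .z, .z], [.z, .z, .o, .z, .z, .z, .z, .z, .z, .z, .z, .z, .z, .z], [.z, .z, .z, .o, .z, .z, .z, .z, .z, .z, .z, .z, .z, .z], [.z, .z, .z, .v, .o, .z, .z, .z, .z, .z, .z, .z, .z, .z], [.z, .z, .z, .w, .z, .o, .z, .z, .z, .z, .z, .z, .z, .z], [.z, .z, .z, .z, .z, .z, .o, .z, .z, .z, .z, .z, .z, .z], [.z, .z, .z, .o, .w, .v, .z, .o, .z, .z, .z, .z, .z, .z], [.z, .z, .z, .z, .z, .z, .z, .z, .o, .z, .z, .z, .z, .z], [.z,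 .v, .z, .z, .z, .z, .w, .z, .z, .o, .z, .z, .z, .z], [.z, .z, .z, .z, .z, .z, .z, .z, .v, .z, .o, .z, .z, .z], [.z, .z, .z, .z, .z, .z, .z, .z, .w, .z, .z, .o, .z, .z], [.z, .z, .z, .z, .z, .z, .z, .z, .o, .z, .w, .v, .o, .z], [.z, .z, .z, .z, .z, .z, .z, .z, .z, .z, .z, .z, .z, .o]]
theorem n3158 : InR N3158 := inR_mul n3152 n3156 (by decide +kernel)
/-- a product -/
def N3159 : List (List GF4) := [[.w, .w, .z, .w, .v, .w, .v, .v, .z, .o, .o, .o, .z, .w], [.o, .v, .o, .z, .z, .w, .o, .w, .z, .w, .z, .v, .z, .v], [.v, .v, .o, .z, .o, .v, .o, .w, .o, .z, .v, .w, .o, .z], [.v, .w, .o, .o, .v, .z, .w, .v, .z, .w, .v, .o, .o, .o], [.o, .z, .v, .w, .o, .v, .w, .z, .z, .w, .o, .o, .w, .o], [.z, .v, .w, .v, .v, .w, .z, .w, .o, .v, .z, .v, .z, .o], [.o, .w, .z, .o, .w, .w, .w, .v, .z, .v, .v, .w, .v, .o], [.z, .v, .z, .o, .o, .o, .v, .o,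 .w, .v, .z, .w, .z, .o], [.z, .z, .o, .z, .z, .w, .z, .w, .z, .v, .z, .z, .o, .z], [.w, .v, .v, .v, .z, .o, .w, .w, .o, .o, .o, .v, .z, .w], [.v, .w, .v, .o, .v, .w, .w, .v, .z, .v, .v, .o, .z, .o], [.z, .w, .w, .z, .z, .v, .o, .v, .z, .w, .z, .o, .z, .v], [.z, .z, .o, .v, .v, .z, .w, .z, .o, .z, .z, .z, .z, .z], [.o, .w, .z, .o, .w, .v, .w, .o, .z, .v, .v, .w, .z, .o]]
theorem n3159 : InR N3159 := inR_mul n2164 n2152 (by decide +kernel)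
/-- a product -/
def N3161 : List (List GF4) := [[.o, .o, .v, .w, .v, .o, .v, .w, .z, .w, .o, .z, .v, .w], [.o, .z, .w, .v, .z, .z, .v, .z, .z, .o, .w, .z, .z, .w], [.w, .z, .w, .w, .o, .z, .v, .w, .z, .o, .o, .v, .z, .w], [.v, .o, .o, .w, .z, .v, .o, .w, .v, .w, .v, .v, .v, .z], [.v, .o, .z, .v, .w, .v, .v, .w, .z, .v, .w, .v, .v, .w], [.z, .z, .o, .w, .z, .o, .v, .z, .z, .v, .o, .z, .v, .w], [.o, .z, .v, .v, .w, .o, .v, .w, .v, .w, .w, .z, .v, .w], [.z, .z, .v, .z, .z, .o, .z, .z, .z, .w, .z, .z, .v, .z], [.z, .o, .v, .z, .v, .z, .v, .z, .v, .z, .o, .z, .z, .w], [.w, .z, .v, .w, .o, .o, .v, .z, .z, .w, .o, .v, .v, .w], [.v, .z, .w, .o, .o, .v, .w, .w, .v, .w, .o, .v, .v, .w], [.z, .z, .w, .o, .z, .z, .z, .z, .z, .o, .v, .z, .z, .z], [.z, .z, .v, .w, .z, .o, .v, .z, .z, .w, .o, .z, .v, .w], [.o, .z, .v, .w, .z, .o, .v, .w, .v, .w,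 .o, .z, .v, .w]]
theorem n3161 : InR N3161 := inR_mul n1150 n3159 (by decide +kernel)
/-- a product -/
def N3163 : List (List GF4) := [[.o, .z, .z, .z, .z, .o, .z, .z, .z, .z, .z, .z, .z, .z], [.z, .o, .z, .z, .z, .o, .z, .z, .z, .z, .z, .z, .z, .z], [.z, .z, .o, .z, .z, .z, .z, .z, .z, .z, .z, .z, .z, .z], [.z, .z, .z, .o, .z, .z, .z, .z, .z, .z, .z, .z, .z, .z], [.z, .z, .o, .z, .o, .z, .z, .z, .z, .z, .z, .z, .z, .z], [.z, .z, .z, .z, .z, .o, .z, .z, .z, .z, .z, .z, .z, .z], [.z, .z, .o, .z, .z, .z, .o, .z, .z, .z, .z, .z, .z, .z], [.z, .z, .z, .z, .z, .z, .z, .o, .z, .z, .z, .z, .z, .z], [.z, .z, .o, .z, .o, .z, .o, .z, .o, .z, .z, .z, .z, .z], [.z, .z, .z, .z, .z, .z, .z, .o, .z, .o, .z, .z, .z, .z], [.o, .o, .z, .z, .z, .o, .z, .z, .z, .z, .o, .z, .z, .z], [.z, .z, .z, .z, .z, .z, .z, .o, .z, .z, .z, .o, .z, .z], [.z, .z, .z,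 .z, .z, .z, .z, .z, .z, .z, .z, .z, .o, .z], [.z, .z, .z, .z, .z, .z, .z, .o, .z, .o, .z, .o, .z, .o]]
theorem n3163 : InR N3163 := inR_mul n642 n3161 (by decide +kernel)
/-- a product -/
def N3165 : List (List GF4) := [[.o, .w, .z, .z, .z, .v, .o, .o, .z, .o, .z, .o, .z, .o], [.o, .w, .o, .w, .o, .z, .v, .z, .z, .v, .w, .z, .z, .v], [.w, .z, .w, .o, .w, .v, .z, .w, .o, .v, .w, .v, .o, .z], [.v, .o, .w, .w, .v, .o, .z, .o, .w, .o, .v, .o, .z, .o], [.v, .w, .o, .w, .o, .o, .z, .o, .w, .w, .o, .o, .z, .w], [.z, .w, .v, .z, .z, .o, .v, .v, .z, .w, .z, .z, .o, .v], [.o, .v, .z, .v, .o, .v, .o, .o, .v, .o, .o, .o, .z, .o], [.z, .v, .v, .o, .v, .o, .o, .v, .z, .o, .o, .z, .o, .o], [.z, .z, .o, .w, .o, .z, .o, .z, .o, .z, .z, .z, .z, .z], [.w, .o, .v, .w, .v, .z, .w, .v, .z, .o, .w, .w, .o, .w], [.v, .o, .v, .v, .o, .o, .o, .o, .z, .o,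 .v, .o, .z, .o], [.z, .w, .w, .v, .w, .z, .v, .z, .z, .v, .v, .z, .z, .v], [.z, .z, .o, .z, .z, .o, .z, .v, .z, .o, .z, .z, .o, .z], [.o, .v, .z, .o, .w, .v, .o, .o, .z, .o, .o, .o, .z, .o]]
theorem n3165 : InR N3165 := inR_mul n2180 n2248 (by decide +kernel)
/-- a product -/
def N3167 : List (List GF4) := [[.w, .o, .w, .v, .z, .z, .o, .w, .v, .v, .o, .o, .z, .w], [.o, .z, .w, .v, .z, .z, .o, .z, .z, .v, .o, .z, .z, .w], [.w, .z, .w, .w, .v, .z, .o, .w, .z, .v, .v, .o, .z, .w], [.v, .o, .o, .w, .z, .o, .w, .w, .v, .o, .w, .o, .v, .z], [.z, .z, .o, .o, .o, .z, .v, .z, .v, .v, .v, .z, .z, .w], [.v, .o, .z, .z, .z, .v, .v, .w, .v, .v, .o, .o, .z, .w], [.o, .z, .v, .v, .o, .w, .o, .w, .v, .o, .o, .z, .v, .w], [.z, .z, .v, .v, .o, .z, .w, .z, .v, .z, .z, .z, .z, .z], [.v, .z, .w, .w, .w, .o, .v, .w, .z, .o, .o, .o, .v, .w], [.w, .z, .w,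 .w, .w, .z, .o, .w, .v, .v, .v, .o, .z, .w], [.v, .o, .z, .z, .z, .o, .o, .w, .v, .w, .v, .o, .v, .w], [.v, .z, .o, .o, .w, .v, .w, .w, .z, .z, .z, .o, .z, .z], [.v, .o, .v, .o, .z, .v, .o, .w, .v, .v, .o, .o, .z, .w], [.w, .z, .v, .v, .v, .w, .o, .z, .v, .o, .o, .o, .v, .w]]
theorem n3167 : InR N3167 := inR_mul n946 n3165 (by decide +kernel)
/-- a product -/
def N3169 : List (List GF4) := [[.o, .z, .z, .z, .z, .w, .z, .z, .z, .z, .z, .z, .z, .z], [.z, .o, .z, .z, .z, .w, .z, .z, .z, .z, .z, .z, .z, .z], [.z, .z, .o, .z, .z, .z, .z, .z, .z, .z, .z, .z, .z, .z], [.z, .z, .z, .o, .z, .z, .z, .z, .z, .z, .z, .z, .z, .z], [.z, .z, .w, .z, .o, .z, .z, .z, .z, .z, .z, .z, .z, .z], [.z, .z, .z, .z, .z, .o, .z, .z, .z, .z, .z, .z, .z, .z], [.z, .z, .v, .z, .z, .z, .o, .z, .z, .z, .z, .z, .z, .z], [.z, .z, .z, .z, .z, .z, .z, .o, .z, .z,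 .z, .z, .z, .z], [.z, .z, .o, .z, .v, .z, .w, .z, .o, .z, .z, .z, .z, .z], [.z, .z, .z, .z, .z, .z, .z, .w, .z, .o, .z, .z, .z, .z], [.w, .w, .z, .z, .z, .v, .z, .z, .z, .z, .o, .z, .z, .z], [.z, .z, .z, .z, .z, .z, .z, .v, .z, .z, .z, .o, .z, .z], [.z, .z, .z, .z, .z, .z, .z, .z, .z, .z, .z, .z, .o, .z], [.z, .z, .z, .z, .z, .z, .z, .o, .z, .v, .z, .w, .z, .o]]
theorem n3169 : InR N3169 := inR_mul n662 n3167 (by decide +kernel)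
/-- a product -/
def N3171 : List (List GF4) := [[.o, .z, .z, .z, .z, .v, .z, .z, .z, .z, .z, .z, .z, .z], [.z, .o, .z, .z, .z, .v, .z, .z, .z, .z, .z, .z, .z, .z], [.z, .z, .o, .z, .z, .z, .z, .z, .z, .z, .z, .z, .z, .z], [.z, .z, .z, .o, .z, .z, .z, .z, .z, .z, .z, .z, .z, .z], [.z, .z, .v, .z, .o, .z, .z, .z, .z, .z, .z, .z, .z, .z], [.z, .z, .z, .z, .z, .o, .z, .z, .z, .z, .z, .z, .z, .z], [.z, .z, .w, .z, .z, .z, .o, .z, .z, .z, .z, .z, .z, .z], [.z, .z, .z, .z, .z, .z, .z, .o, .z, .z, .z, .z, .z, .z], [.z, .z, .o, .z, .w, .z, .v, .z, .o, .z, .z, .z, .z, .z], [.z, .z, .z, .z, .z, .z, .z, .v, .z, .o, .z, .z, .z, .z], [.v, .v, .z, .z, .z, .w, .z, .z, .z, .z, .o, .z, .z, .z], [.z, .z, .z, .z, .z, .z, .z, .w, .z, .z, .z, .o, .z, .z], [.z, .z, .z, .z, .z, .z, .z, .z, .z, .z, .z, .z, .o, .z], [.z, .z, .z, .z, .z, .z, .z, .o, .z, .w,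 .z, .v, .z, .o]]
theorem n3171 : InR N3171 := inR_mul n3163 n3169 (by decide +kernel)
/-- a product -/
def N3172 : List (List GF4) := [[.o, .v, .z, .o, .w, .z, .w, .z, .z, .v, .v, .z, .z, .o], [.o, .v, .o, .z, .z, .w, .o, .w, .z, .w, .z, .v, .z, .v], [.w, .w, .w, .w, .w, .v, .o, .o, .o, .z, .w, .v, .o, .z], [.v, .w, .w, .o, .v, .o, .w, .w, .z, .z, .v, .o, .w, .o], [.v, .o, .o, .o, .v, .w, .v, .w, .z, .z, .v, .w, .w, .w], [.z, .w, .v, .v, .v, .z, .v, .z, .o, .w, .z, .z, .z, .v], [.o, .w, .z, .o, .w, .w, .w, .v, .z, .v, .v, .w, .v, .o], [.z, .v, .v, .v, .v, .o, .w, .o, .o, .v, .z, .w, .z, .o], [.z, .z, .o, .z, .z, .w, .z, .w, .z, .v, .z, .z, .o, .z], [.w, .v, .v, .v, .z, .o, .w, .w, .o, .o, .o, .v, .z, .w], [.v, .w, .v, .o, .v, .w, .w, .v, .z, .v, .v, .o, .z, .o], [.z, .w, .w, .z, .z, .v, .o, .v, .z, .w, .z, .o, .z, .v], [.z, .z, .o,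 .v, .v, .z, .w, .z, .o, .z, .z, .z, .z, .z], [.o, .w, .z, .o, .w, .v, .w, .o, .z, .v, .v, .w, .z, .o]]
theorem n3172 : InR N3172 := inR_mul n2176 n2152 (by decide +kernel)
/-- a product -/
def N3174 : List (List GF4) := [[.w, .v, .w, .w, .z, .z, .o, .v, .z, .v, .v, .w, .v, .w], [.o, .o, .w, .z, .z, .z, .o, .v, .z, .v, .z, .w, .z, .w], [.w, .w, .w, .w, .z, .o, .o, .w, .z, .v, .v, .o, .z, .w], [.v, .w, .o, .w, .v, .z, .w, .w, .v, .o, .v, .v, .v, .z], [.z, .z, .o, .z, .z, .w, .o, .o, .z, .w, .z, .o, .v, .w], [.v, .w, .z, .w, .w, .z, .o, .z, .z, .w, .v, .w, .v, .w], [.o, .o, .v, .w, .o, .w, .w, .v, .v, .v, .z, .w, .v, .w], [.z, .z, .v, .z, .z, .w, .z, .v, .z, .o, .z, .z, .v, .z], [.v, .v, .w, .w, .v, .v, .w, .w, .v, .w, .v, .w, .z, .w], [.w, .w, .w, .w, .z, .v, .o, .w, .z, .v, .v, .o, .v, .w], [.v, .w, .z, .w, .v, .z, .v, .z, .v, .v,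 .v, .o, .v, .w], [.v, .v, .o, .w, .w, .v, .z, .o, .z, .o, .v, .z, .z, .z], [.v, .w, .v, .w, .w, .z, .o, .o, .z, .v, .v, .w, .v, .w], [.w, .w, .v, .z, .o, .o, .w, .v, .v, .v, .v, .w, .v, .w]]
theorem n3174 : InR N3174 := inR_mul n946 n3172 (by decide +kernel)
/-- a product -/
def N3176 : List (List GF4) := [[.o, .z, .z, .z, .z, .z, .z, .z, .z, .z, .z, .z, .z, .z], [.z, .o, .z, .z, .o, .z, .z, .z, .z, .z, .z, .z, .z, .z], [.z, .z, .o, .z, .z, .z, .z, .z, .z, .z, .z, .z, .z, .z], [.z, .z, .z, .o, .z, .z, .z, .z, .z, .z, .z, .z, .z, .z], [.z, .z, .z, .z, .o, .z, .z, .z, .z, .z, .z, .z, .z, .z], [.z, .z, .o, .z, .z, .o, .z, .z, .z, .z, .z, .z, .z, .z], [.z, .z, .z, .o, .z, .z, .o, .z, .z, .z, .z, .z, .z, .z], [.z, .z, .z, .z, .z, .z, .z, .o, .z, .z, .z, .z, .z, .z], [.z, .z, .z, .z, .z, .z, .z, .z, .o, .z, .z, .z, .z, .z], [.z, .z, .o,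 .z, .z, .z, .z, .z, .z, .o, .z, .z, .z, .z], [.z, .z, .z, .o, .z, .z, .z, .z, .z, .z, .o, .z, .z, .z], [.o, .z, .z, .z, .o, .z, .z, .z, .z, .z, .z, .o, .z, .z], [.z, .z, .o, .z, .z, .o, .z, .z, .z, .o, .z, .z, .o, .z], [.z, .z, .z, .o, .z, .z, .o, .z, .z, .z, .o, .z, .z, .o]]
theorem n3176 : InR N3176 := inR_mul n646 n3174 (by decide +kernel)
/-- a product -/
def N3178 : List (List GF4) := [[.w, .z, .z, .w, .v, .v, .w, .o, .o, .w, .z, .o, .w, .v], [.o, .v, .o, .z, .z, .o, .v, .v, .z, .o, .z, .o, .z, .w], [.v, .v, .o, .z, .w, .w, .v, .w, .o, .z, .o, .o, .o, .z], [.v, .z, .o, .o, .z, .o, .o, .v, .v, .o, .o, .z, .o, .o], [.o, .v, .v, .w, .z, .z, .o, .w, .o, .v, .w, .v, .w, .v], [.z, .w, .w, .v, .w, .w, .z, .o, .v, .o, .z, .w, .z, .w], [.o, .v, .z, .o, .w, .z, .o, .z, .v, .o, .z, .o, .v, .w], [.z, .o, .z, .o, .v, .w, .w, .o, .o, .v,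 .z, .w, .z, .o], [.z, .v, .o, .z, .z, .o, .z, .v, .z, .o, .z, .v, .v, .w], [.w, .z, .v, .v, .v, .z, .o, .w, .v, .o, .o, .v, .z, .w], [.v, .o, .v, .o, .z, .z, .o, .w, .v, .v, .o, .v, .v, .w], [.z, .z, .w, .z, .z, .w, .v, .o, .z, .z, .z, .w, .z, .z], [.z, .w, .o, .v, .w, .v, .o, .w, .v, .o, .z, .v, .z, .w], [.o, .v, .z, .o, .w, .v, .o, .o, .v, .o, .z, .v, .v, .w]]
theorem n3178 : InR N3178 := inR_mul n2174 n2254 (by decide +kernel)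
/-- a product -/
def N3180 : List (List GF4) := [[.w, .v, .w, .w, .z, .z, .v, .v, .z, .o, .o, .o, .v, .w], [.o, .o, .w, .z, .z, .z, .v, .v, .z, .o, .z, .o, .z, .w], [.w, .w, .w, .w, .z, .v, .v, .w, .z, .o, .o, .v, .z, .w], [.v, .w, .o, .w, .o, .z, .o, .w, .v, .w, .o, .w, .v, .z], [.z, .z, .o, .z, .z, .o, .v, .o, .z, .v, .z, .v, .v, .w], [.v, .w, .z, .w, .v, .z, .v, .z, .z, .v, .o, .o, .v, .w], [.o, .o, .v, .w, .w, .o, .o, .v, .v, .o, .z, .o, .v, .w], [.z, .z, .v, .z, .z, .o, .z, .v, .z, .w, .z, .z, .v, .z], [.v, .v, .w, .w, .o, .w, .o, .w, .v, .v, .o, .o, .z, .w], [.w, .w, .w, .w, .z, .w, .v, .w, .z, .o, .o, .v, .v, .w], [.v, .w, .z, .w, .o, .z, .w, .z, .v, .o, .o, .v, .v, .w], [.v, .v, .o, .w, .v, .w, .z, .o, .z, .w, .o, .z, .z, .z], [.v, .w, .v, .w, .v, .z, .v, .o, .z, .o, .o, .o, .v, .w], [.w, .w, .v, .z, .w, .v, .o, .v, .v, .o,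 .o, .o, .v, .w]]
theorem n3180 : InR N3180 := inR_mul n1000 n3178 (by decide +kernel)
/-- a product -/
def N3182 : List (List GF4) := [[.o, .z, .z, .z, .z, .z, .z, .z, .z, .z, .z, .z, .z, .z], [.z, .o, .z, .z, .w, .z, .z, .z, .z, .z, .z, .z, .z, .z], [.z, .z, .o, .z, .z, .z, .z, .z, .z, .z, .z, .z, .z, .z], [.z, .z, .z, .o, .z, .z, .z, .z, .z, .z, .z, .z, .z, .z], [.z, .z, .z, .z, .o, .z, .z, .z, .z, .z, .z, .z, .z, .z], [.z, .z, .w, .z, .z, .o, .z, .z, .z, .z, .z, .z, .z, .z], [.z, .z, .z, .w, .z, .z, .o, .z, .z, .z, .z, .z, .z, .z], [.z, .z, .z, .z, .z, .z, .z, .o, .z, .z, .z, .z, .z, .z], [.z, .z, .z, .z, .z, .z, .z, .z, .o, .z, .z, .z, .z, .z], [.z, .z, .v, .z, .z, .z, .z, .z, .z, .o, .z, .z, .z, .z], [.z, .z, .z, .v, .z, .z, .z, .z, .z, .z, .o, .z, .z, .z], [.w, .z, .z, .z, .v, .z, .z, .z, .z, .z, .z, .o, .z, .z], [.z, .z, .o,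 .z, .z, .v, .z, .z, .z, .w, .z, .z, .o, .z], [.z, .z, .z, .o, .z, .z, .v, .z, .z, .z, .w, .z, .z, .o]]
theorem n3182 : InR N3182 := inR_mul n678 n3180 (by decide +kernel)
/-- a product -/
def N3184 : List (List GF4) := [[.o, .z, .z, .z, .z, .z, .z, .z, .z, .z, .z, .z, .z, .z], [.z, .o, .z, .z, .v, .z, .z, .z, .z, .z, .z, .z, .z, .z], [.z, .z, .o, .z, .z, .z, .z, .z, .z, .z, .z, .z, .z, .z], [.z, .z, .z, .o, .z, .z, .z, .z, .z, .z, .z, .z, .z, .z], [.z, .z, .z, .z, .o, .z, .z, .z, .z, .z, .z, .z, .z, .z], [.z, .z, .v, .z, .z, .o, .z, .z, .z, .z, .z, .z, .z, .z], [.z, .z, .z, .v, .z, .z, .o, .z, .z, .z, .z, .z, .z, .z], [.z, .z, .z, .z, .z, .z, .z, .o, .z, .z, .z, .z, .z, .z], [.z, .z, .z, .z, .z, .z, .z, .z, .o, .z, .z, .z, .z, .z], [.z, .z, .w, .z, .z, .z, .z, .z, .z, .o, .z, .z, .z, .z], [.z, .z, .z, .w, .z, .z, .z, .z, .z, .z,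 .o, .z, .z, .z], [.v, .z, .z, .z, .w, .z, .z, .z, .z, .z, .z, .o, .z, .z], [.z, .z, .o, .z, .z, .w, .z, .z, .z, .v, .z, .z, .o, .z], [.z, .z, .z, .o, .z, .z, .w, .z, .z, .z, .v, .z, .z, .o]]
theorem n3184 : InR N3184 := inR_mul n3176 n3182 (by decide +kernel)
/-- a product -/
def N3185 : List (List GF4) := [[.o, .o, .z, .z, .z, .z, .o, .z, .z, .z, .z, .w, .z, .z], [.z, .o, .z, .z, .z, .z, .z, .z, .w, .z, .w, .w, .z, .v], [.v, .v, .o, .w, .w, .w, .z, .z, .z, .v, .z, .z, .o, .z], [.w, .w, .z, .o, .o, .o, .z, .o, .z, .w, .z, .z, .v, .z], [.w, .w, .z, .o, .z, .o, .z, .z, .z, .z, .z, .z, .v, .z], [.w, .z, .z, .o, .o, .z, .w, .z, .z, .z, .z, .v, .z, .z], [.z, .o, .z, .z, .z, .z, .o, .z, .z, .o, .z, .w, .w, .z], [.z, .z, .z, .o, .z, .z, .w, .z, .v, .z, .v, .z, .z, .o], [.z, .z, .z, .z, .z, .z, .z, .z, .o, .z, .o, .o, .o, .w], [.z, .z, .z,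 .z, .z, .z, .o, .z, .w, .z, .z, .z, .z, .v], [.z, .z, .z, .z, .z, .z, .z, .z, .o, .z, .z, .o, .z, .w], [.z, .z, .z, .z, .z, .z, .z, .z, .o, .z, .o, .z, .z, .w], [.z, .z, .z, .z, .z, .z, .z, .z, .o, .z, .z, .z, .z, .z], [.z, .z, .z, .z, .z, .z, .z, .z, .z, .z, .z, .z, .z, .o]]
theorem n3185 : InR N3185 := inR_mul n2152 n2248 (by decide +kernel)
/-- a product -/
def N3187 : List (List GF4) := [[.w, .o, .z, .v, .o, .z, .o, .z, .z, .z, .o, .o, .z, .w], [.o, .z, .o, .w, .z, .w, .w, .z, .z, .w, .v, .z, .v, .v], [.v, .z, .o, .w, .o, .v, .z, .z, .o, .w, .v, .w, .o, .z], [.v, .v, .o, .v, .v, .z, .w, .o, .o, .v, .z, .w, .v, .o], [.o, .v, .v, .z, .v, .o, .w, .z, .w, .o, .v, .v, .w, .o], [.z, .z, .w, .w, .z, .o, .v, .z, .z, .v, .v, .z, .w, .o], [.o, .z, .z, .v, .o, .o, .v, .w, .v, .z, .o, .z, .w, .o], [.z, .z, .z, .o, .z, .z, .v, .z, .z, .z,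 .w, .z, .z, .o], [.z, .v, .o, .w, .z, .w, .v, .z, .o, .v, .o, .o, .o, .z], [.w, .z, .v, .w, .v, .w, .o, .z, .z, .o, .v, .o, .v, .w], [.v, .w, .v, .v, .o, .z, .v, .v, .z, .w, .o, .v, .w, .o], [.z, .z, .w, .v, .z, .v, .w, .z, .z, .v, .o, .z, .o, .v], [.z, .z, .o, .z, .z, .v, .z, .z, .z, .w, .z, .z, .o, .z], [.o, .z, .z, .o, .w, .v, .v, .o, .z, .z, .w, .v, .o, .o]]
theorem n3187 : InR N3187 := inR_mul n2164 n3185 (by decide +kernel)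
/-- a product -/
def N3189 : List (List GF4) := [[.o, .o, .z, .z, .z, .z, .z, .z, .v, .z, .z, .z, .z, .v], [.z, .o, .z, .o, .z, .z, .z, .z, .z, .z, .z, .z, .z, .z], [.z, .z, .z, .z, .z, .z, .z, .z, .w, .z, .z, .z, .z, .w], [.z, .z, .z, .z, .z, .z, .z, .z, .v, .z, .z, .z, .z, .z], [.z, .z, .z, .z, .z, .z, .z, .z, .z, .z, .v, .z, .z, .z], [.z, .z, .z, .z, .z, .z, .v, .z, .z, .z, .z, .v, .z, .z], [.z, .z, .z, .z, .z, .z, .o, .z, .z, .z, .z, .z, .z, .z], [.v, .v, .z, .v, .z, .z, .z, .z, .z, .z, .z, .z, .v, .z], [.z, .z, .z, .w, .z, .z, .z, .z, .o, .z, .z, .z, .z, .z], [.z, .z, .z, .z, .o, .z, .z, .z, .z, .o, .z, .z, .z, .z], [.z, .z, .z, .z, .w, .z, .z, .z, .z, .z, .o, .z, .z, .z], [.z, .z, .z, .z, .z, .w, .o, .z, .z, .z, .z, .o, .z, .z], [.o, .o, .w, .o, .z, .z, .z, .w, .z, .z, .z, .z, .o, .z], [.z, .w, .v, .w, .z, .z, .z, .z, .o, .z,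 .z, .z, .z, .o]]
theorem n3189 : InR N3189 := inR_mul n1176 n3187 (by decide +kernel)
/-- a product -/
def N3191 : List (List GF4) := [[.o, .z, .z, .o, .z, .z, .z, .z, .z, .z, .z, .z, .z, .z], [.z, .o, .z, .o, .z, .z, .z, .z, .z, .z, .z, .z, .z, .z], [.z, .z, .o, .z, .z, .z, .z, .z, .z, .z, .z, .z, .z, .z], [.z, .z, .z, .o, .z, .z, .z, .z, .z, .z, .z, .z, .z, .z], [.z, .z, .z, .z, .o, .z, .z, .z, .z, .z, .z, .z, .z, .z], [.z, .z, .z, .z, .z, .o, .z, .z, .z, .z, .z, .z, .z, .z], [.z, .z, .z, .z, .z, .z, .o, .z, .z, .z, .z, .z, .z, .z], [.z, .z, .o, .z, .z, .z, .z, .o, .z, .z, .z, .z, .z, .z], [.z, .z, .z, .z, .z, .z, .z, .z, .o, .z, .z, .z, .z, .z], [.z, .z, .z, .z, .o, .z, .z, .z, .z, .o, .z, .z, .z, .z], [.z, .z, .z, .z, .z, .z, .z, .z, .z, .z, .o, .z, .z, .z], [.z, .z, .z, .z, .z, .z, .o, .z, .z, .z, .z, .o, .z, .z], [.o, .o, .z,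 .o, .z, .z, .z, .z, .z, .z, .z, .z, .o, .z], [.z, .z, .z, .z, .z, .z, .z, .z, .o, .z, .z, .z, .z, .o]]
theorem n3191 : InR N3191 := inR_mul n630 n3189 (by decide +kernel)
/-- a product -/
def N3193 : List (List GF4) := [[.o, .o, .z, .z, .z, .z, .z, .z, .z, .o, .z, .z, .z, .v], [.z, .o, .z, .z, .z, .z, .z, .z, .z, .z, .z, .z, .z, .z], [.z, .v, .o, .z, .z, .z, .z, .z, .z, .z, .z, .z, .z, .w], [.z, .z, .z, .z, .z, .z, .z, .o, .z, .z, .z, .z, .v, .z], [.z, .z, .z, .z, .z, .o, .z, .o, .z, .z, .z, .v, .v, .z], [.z, .z, .z, .z, .o, .z, .z, .o, .z, .z, .v, .z, .v, .z], [.z, .z, .z, .z, .z, .z, .z, .z, .z, .o, .z, .z, .z, .z], [.z, .z, .z, .o, .o, .o, .z, .o, .v, .z, .v, .v, .v, .z], [.z, .z, .z, .z, .z, .z, .z, .z, .z, .z, .z, .z, .o, .z], [.z, .o, .z, .z, .z, .z, .o, .z, .z, .o, .z, .z, .z, .z], [.z, .z, .z, .z, .z, .z, .z, .z, .z, .z,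 .z, .o, .o, .z], [.z, .z, .z, .z, .z, .z, .z, .z, .z, .z, .o, .z, .o, .z], [.z, .z, .z, .z, .z, .z, .z, .z, .o, .z, .o, .o, .o, .z], [.z, .z, .z, .z, .z, .z, .z, .z, .z, .z, .z, .z, .z, .o]]
theorem n3193 : InR N3193 := inR_mul (inR_gen .f) n2248 (by decide +kernel)
/-- a product -/
def N3195 : List (List GF4) := [[.w, .v, .w, .v, .v, .w, .w, .z, .v, .w, .z, .z, .w, .w], [.v, .w, .o, .o, .o, .w, .v, .z, .v, .o, .w, .z, .w, .v], [.v, .o, .o, .z, .v, .o, .w, .z, .o, .o, .v, .w, .o, .z], [.w, .o, .z, .o, .v, .w, .o, .o, .z, .v, .o, .w, .z, .o], [.w, .o, .w, .v, .o, .v, .z, .z, .o, .w, .z, .o, .v, .w], [.v, .v, .v, .w, .v, .v, .v, .z, .v, .v, .o, .z, .v, .v], [.v, .w, .v, .v, .z, .w, .o, .v, .o, .z, .z, .w, .w, .v], [.z, .z, .z, .o, .z, .z, .o, .z, .o, .z, .o, .z, .z, .o], [.w, .w, .o, .z, .w, .o, .v, .w, .o, .w, .v, .o, .o, .o], [.o,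 .w, .w, .w, .o, .w, .z, .z, .v, .w, .v, .v, .w, .v], [.o, .z, .v, .w, .z, .w, .z, .w, .v, .w, .o, .v, .o, .z], [.z, .z, .w, .v, .w, .z, .o, .z, .o, .w, .v, .z, .z, .o], [.o, .o, .o, .z, .o, .o, .o, .z, .o, .o, .o, .z, .o, .o], [.o, .v, .z, .o, .w, .v, .o, .o, .v, .o, .z, .v, .v, .w]]
theorem n3195 : InR N3195 := inR_mul n1631 n3193 (by decide +kernel)
/-- a product -/
def N3197 : List (List GF4) := [[.w, .w, .o, .w, .w, .v, .v, .o, .v, .o, .v, .z, .z, .z], [.z, .o, .w, .z, .w, .o, .v, .z, .v, .z, .z, .z, .z, .z], [.z, .z, .w, .o, .z, .z, .z, .z, .z, .z, .z, .z, .z, .z], [.w, .z, .o, .z, .o, .w, .o, .v, .o, .z, .z, .z, .z, .z], [.o, .z, .z, .o, .v, .v, .w, .w, .v, .z, .z, .z, .z, .z], [.v, .z, .v, .z, .v, .v, .w, .o, .w, .z, .z, .z, .z, .z], [.o, .o, .w, .o, .z, .o, .z, .w, .z, .w, .o, .z, .z, .z], [.w, .z, .v, .o, .w, .o, .v, .v,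 .o, .z, .z, .z, .z, .z], [.v, .o, .w, .o, .o, .o, .z, .z, .o, .v, .o, .o, .w, .o], [.w, .o, .o, .o, .o, .o, .o, .v, .w, .v, .w, .z, .z, .z], [.v, .v, .v, .w, .w, .z, .o, .o, .v, .w, .v, .w, .o, .v], [.w, .o, .w, .o, .v, .o, .z, .z, .w, .o, .o, .w, .v, .w], [.v, .v, .z, .w, .w, .w, .z, .w, .v, .v, .v, .v, .w, .o], [.v, .w, .v, .w, .w, .w, .z, .v, .v, .v, .v, .v, .z, .v]]
theorem n3197 : InR N3197 := inR_mul n1070 n3195 (by decide +kernel)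
/-- a product -/
def N3199 : List (List GF4) := [[.o, .z, .z, .w, .z, .z, .z, .z, .z, .z, .z, .z, .z, .z], [.z, .o, .z, .w, .z, .z, .z, .z, .z, .z, .z, .z, .z, .z], [.z, .z, .o, .z, .z, .z, .z, .z, .z, .z, .z, .z, .z, .z], [.z, .z, .z, .o, .z, .z, .z, .z, .z, .z, .z, .z, .z, .z], [.z, .z, .z, .z, .o, .z, .z, .z, .z, .z, .z, .z, .z, .z], [.z, .z, .z, .z, .z, .o, .z, .z, .z, .z, .z, .z, .z, .z], [.z, .z, .z, .z, .z, .z, .o, .z, .z, .z, .z, .z, .z, .z], [.z, .z, .w, .z, .z, .z, .z, .o, .z, .z, .z, .z, .z, .z], [.z, .z, .z, .z, .z, .z, .z, .z, .o, .z, .z, .z, .z, .z], [.z, .z, .z, .z, .w, .z, .z, .z, .z, .o, .z, .z, .z, .z], [.z, .z, .z, .z, .z, .z, .z, .z, .z, .z, .o, .z, .z, .z], [.z, .z, .z, .z, .z, .z, .w, .z, .z, .z, .z, .o, .z, .z], [.w, .w, .z, .v, .z, .z, .z, .z, .z, .z, .z, .z, .o, .z], [.z, .z, .z, .z, .z, .z, .z, .z, .w, .z,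 .z, .z, .z, .o]]
theorem n3199 : InR N3199 := inR_mul n610 n3197 (by decide +kernel)
/-- a product -/
def N3201 : List (List GF4) := [[.o, .z, .z, .v, .z, .z, .z, .z, .z, .z, .z, .z, .z, .z], [.z, .o, .z, .v, .z, .z, .z, .z, .z, .z, .z, .z, .z, .z], [.z, .z, .o, .z, .z, .z, .z, .z, .z, .z, .z, .z, .z, .z], [.z, .z, .z, .o, .z, .z, .z, .z, .z, .z, .z, .z, .z, .z], [.z, .z, .z, .z, .o, .z, .z, .z, .z, .z, .z, .z, .z, .z], [.z, .z, .z, .z, .z, .o, .z, .z, .z, .z, .z, .z, .z, .z], [.z, .z, .z, .z, .z, .z, .o, .z, .z, .z, .z, .z, .z, .z], [.z, .z, .v, .z, .z, .z, .z, .o, .z, .z, .z, .z, .z, .z], [.z, .z, .z, .z, .z, .z, .z, .z, .o, .z, .z, .z, .z, .z], [.z, .z, .z, .z, .v, .z, .z, .z, .z, .o, .z, .z, .z, .z], [.z, .z, .z, .z, .z, .z, .z, .z, .z, .z, .o, .z, .z, .z], [.z, .z, .z, .z, .z, .z, .v, .z, .z, .z, .z, .o, .z, .z], [.v, .v, .z,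 .w, .z, .z, .z, .z, .z, .z, .z, .z, .o, .z], [.z, .z, .z, .z, .z, .z, .z, .z, .v, .z, .z, .z, .z, .o]]
theorem n3201 : InR N3201 := inR_mul n3191 n3199 (by decide +kernel)
/-- a product -/
def N3202 : List (List GF4) := [[.o, .o, .v, .z, .o, .z, .z, .z, .z, .z, .z, .z, .z, .z], [.z, .o, .o, .z, .o, .o, .z, .z, .z, .z, .z, .z, .z, .z], [.z, .z, .o, .z, .z, .z, .z, .z, .z, .z, .z, .z, .z, .z], [.z, .z, .z, .z, .z, .z, .z, .o, .z, .z, .z, .z, .z, .z], [.z, .z, .o, .z, .z, .o, .z, .z, .z, .z, .z, .z, .z, .z], [.z, .z, .o, .z, .o, .z, .z, .z, .z, .z, .z, .z, .z, .z], [.z, .z, .o, .z, .z, .z, .z, .o, .z, .o, .z, .z, .z, .z], [.z, .z, .z, .o, .z, .z, .z, .z, .z, .z, .z, .z, .z, .z], [.z, .z, .o, .z, .z, .o, .z, .v, .z, .o, .z, .z, .o, .z], [.z, .z, .o, .o, .z, .z, .o, .z, .z, .z, .z, .z, .z, .z], [.o, .z, .v, .z, .o, .v, .z, .o, .z, .z,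 .z, .o, .z, .z], [.o, .o, .w, .o, .w, .o, .z, .z, .z, .z, .o, .z, .z, .z], [.z, .z, .o, .w, .o, .z, .o, .z, .o, .z, .z, .z, .z, .z], [.o, .v, .z, .o, .w, .v, .o, .o, .z, .o, .o, .o, .z, .o]]
theorem n3202 : InR N3202 := inR_mul n1591 (inR_gen .f) (by decide +kernel)
/-- a product -/
def N3204 : List (List GF4) := [[.o, .z, .o, .z, .z, .z, .z, .z, .z, .z, .z, .z, .z, .z], [.z, .o, .z, .z, .z, .z, .z, .z, .z, .z, .z, .z, .z, .z], [.z, .z, .o, .z, .z, .z, .z, .z, .z, .z, .z, .z, .z, .z], [.z, .z, .z, .o, .z, .z, .z, .z, .z, .z, .z, .z, .z, .z], [.z, .z, .z, .z, .o, .z, .z, .z, .z, .z, .z, .z, .z, .z], [.z, .z, .z, .z, .z, .o, .z, .z, .z, .z, .z, .z, .z, .z], [.z, .z, .z, .z, .z, .z, .o, .z, .z, .z, .z, .z, .z, .z], [.z, .z, .z, .z, .z, .z, .z, .o, .z, .z, .z, .z, .z, .z], [.z, .z, .z, .o, .z, .z, .z, .z, .o, .z, .z, .z, .z, .z], [.z,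 .z, .z, .z, .z, .z, .z, .z, .z, .o, .z, .z, .z, .z], [.z, .z, .z, .z, .o, .z, .z, .z, .z, .z, .o, .z, .z, .z], [.z, .z, .z, .z, .z, .o, .z, .z, .z, .z, .z, .o, .z, .z], [.z, .z, .z, .z, .z, .z, .z, .o, .z, .z, .z, .z, .o, .z], [.z, .o, .o, .z, .z, .z, .z, .z, .z, .z, .z, .z, .z, .o]]
theorem n3204 : InR N3204 := inR_mul n934 n3202 (by decide +kernel)
/-- a product -/
def N3206 : List (List GF4) := [[.o, .z, .w, .z, .z, .z, .z, .z, .z, .z, .z, .z, .z, .z], [.z, .o, .z, .z, .z, .z, .z, .z, .z, .z, .z, .z, .z, .z], [.z, .z, .o, .z, .z, .z, .z, .z, .z, .z, .z, .z, .z, .z], [.z, .z, .z, .o, .z, .z, .z, .z, .z, .z, .z, .z, .z, .z], [.z, .z, .z, .z, .o, .z, .z, .z, .z, .z, .z, .z, .z, .z], [.z, .z, .z, .z, .z, .o, .z, .z, .z, .z, .z, .z, .z, .z], [.z, .z, .z, .z, .z, .z, .o, .z, .z, .z, .z, .z, .z, .z], [.z, .z, .z, .z, .z, .z, .z, .o,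 .z, .z, .z, .z, .z, .z], [.z, .z, .z, .w, .z, .z, .z, .z, .o, .z, .z, .z, .z, .z], [.z, .z, .z, .z, .z, .z, .z, .z, .z, .o, .z, .z, .z, .z], [.z, .z, .z, .z, .w, .z, .z, .z, .z, .z, .o, .z, .z, .z], [.z, .z, .z, .z, .z, .w, .z, .z, .z, .z, .z, .o, .z, .z], [.z, .z, .z, .z, .z, .z, .z, .w, .z, .z, .z, .z, .o, .z], [.z, .w, .v, .z, .z, .z, .z, .z, .z, .z, .z, .z, .z, .o]]
theorem n3206 : InR N3206 := inR_mul n630 (inR_gen .f) (by decide +kernel)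
/-- a product -/
def N3208 : List (List GF4) := [[.o, .z, .v, .z, .z, .z, .z, .z, .z, .z, .z, .z, .z, .z], [.z, .o, .z, .z, .z, .z, .z, .z, .z, .z, .z, .z, .z, .z], [.z, .z, .o, .z, .z, .z, .z, .z, .z, .z, .z, .z, .z, .z], [.z, .z, .z, .o, .z, .z, .z, .z, .z, .z, .z, .z, .z, .z], [.z, .z, .z, .z, .o, .z, .z, .z, .z, .z, .z, .z, .z, .z], [.z, .z, .z, .z, .z, .o, .z, .z, .z, .z, .z, .z, .z, .z], [.z, .z, .z, .z, .z, .z, .o, .z, .z, .z, .z, .z, .z, .z], [.z, .z, .z, .z, .z, .z, .z, .o, .z, .z, .z, .z, .z, .z], [.z, .z, .z, .v, .z, .z, .z, .z, .o, .z, .z, .z, .z, .z], [.z, .z, .z, .z, .z, .z, .z, .z, .z, .o, .z, .z, .z, .z], [.z, .z, .z, .z, .v, .z, .z, .z, .z, .z, .o, .z, .z, .z], [.z, .z, .z, .z, .z, .v, .z, .z, .z, .z, .z, .o, .z, .z], [.z, .z, .z, .z, .z, .z, .z, .v, .z, .z, .z, .z, .o, .z], [.z, .v, .w, .z, .z, .z, .z, .z, .z, .z,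 .z, .z, .z, .o]]
theorem n3208 : InR N3208 := inR_mul n3204 n3206 (by decide +kernel)

end Cfsg.Agent.Helper28.G2
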